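import Cfsg.Agent.Mon.HNc
import Cfsg.Agent.Comp.MatBN
import Cfsg.Agent.Spor.Co0Simple
import Cfsg.Agent.S1674

/-!
# Groups with an involution centralizer `2^{1+8}.(A5 ≀ 2)`: the Harada–Norton group
-/

set_option autoImplicit false

namespace Cfsg.Agent.Mon.HN

open Subgroup Cfsg Cfsg.Agent.TT Cfsg.Agent.LES Cfsg.Agent.Mont Cfsg.Agent.Comp
open scoped commutatorElement

variable {X Y : Type*} [Group X] [Group Y]
variable {z : X} {R : Subgroup X} {ψ : ℕ → X} {A : Set X} {N : Subgroup X} {m : N →* Y}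

theorem simple_HS : IsSimpleGroup Spor.HS :=
  haveI := Spor.Leech.simple_hs_std
  Spor.Leech.hsEquiv.isSimpleGroup

theorem HD.eq_O2C [Finite X] (h : HD z R ψ A) : R = O2C z := by
  refine le_antisymm h.lx.le_O2C ?_
  obtain ⟨γ, h1, -, h3⟩ := h.exists_hom
  rintro _ ⟨a, ha, rfl⟩
  have h4 := C5.o2 _ ((pCore_normal 2 _).map γ h1) ((Grp.pCore_isPGroup 2 _).map γ)
  exact (h3 a).1 (mem_bot.1 (h4 ▸ mem_map_of_mem γ ha))

theorem HD.odd_bot [Finite X] (h : HD z R ψ A) :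
    ∀ K : Subgroup X, Odd (Nat.card K) → R ≤ normalizer (K : Set X) → K = ⊥ := by
  obtain ⟨g, hg⟩ := isConj_iff.1 (h.d4 2 (by norm_num) (by decide +kernel))
  have h1 := card_le_of_le (show Cp R ψ [1, 2, 40] ≤ R from inf_le_left)
  rw [h.card_Cp (by decide), T6'] at h1
  exact (h.lx.isLarge_of_mem_map_conj (hg ▸ h.mem 2)
    (hg ▸ (h.ne (by norm_num) (by norm_num) (Eqv.refl _ _)).2)
    (h.lx.mem_map_conj_of_card (by omega) (hg ▸ h.mem 2))).2.2.2

theorem QD.simple [Finite X] (h : QD z R ψ A N m) : IsSimpleGroup X := by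
  obtain ⟨e⟩ := h.isoHS
  have := simple_HS
  have := e.isSimpleGroup
  refine h.lx.isSimpleGroup h.odd_bot h.eq_O2C ?_
  set Z := normalClosure ({z} : Set X)
  have cz : ∀ {x}, IsConj z x → x ∈ Z := fun hx =>
    conjugatesOfSet_subset_normalClosure (Group.mem_conjugatesOfSet_iff.2 ⟨z, rfl, hx⟩)
  have hR : R ≤ Z := fun r hr => by
    obtain ⟨i, hi, a⟩ := h.onto r hr
    rw [← T5 i hi] at a
    refine a.mem (cz (IsConj.refl z)) (h.span_mem (cz (IsConj.refl z)) (fun b hb => ?_) _)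
    have : b < 256 ∧ C5.D4.testBit b = true := by revert b; decide +kernel
    exact ⟨this.1, cz (h.d4 b this.1 this.2)⟩
  have hN : N ≤ Z := fun x hx => by
    have h1 := ((normal_subgroupOf (H := N) (N := Z)).map m h.surj).eq_bot_or_eq_top.resolve_left
      fun a => h.bv_ne' h.bv_z (mem_bot.1 (a ▸ ND.mem_im.2 ⟨z, cz (IsConj.refl z), h.z_mem, rfl⟩))
    obtain ⟨y, h2, h3, h4⟩ := ND.mem_im.1 (h1.ge (mem_top (ND.qm m x)))
    exact ((h.mk_eq_iff hx h3).1 h4.symm).mem (hR (h.mem 1)) h2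
  obtain ⟨γ, h1, h2, h3⟩ := h.exists_hom
  have hn := (normal_subgroupOf (H := centralizer {z}) (N := Z)).map γ h1
  have h4 : Γ ≤ ((Z.subgroupOf (centralizer {z})).map γ).map Γ.subtype := gen_le_iff.2 fun u hu => by
    obtain ⟨j, hj, h5, h6⟩ := gen_fix u hu
    obtain ⟨p, hp, rfl⟩ := orb60 hj h5
    have hw := wp_mem_gen C5.ns hu
    obtain ⟨g, h7, h8, a⟩ := h.liftN (p := p⁻¹ * wp C5.ns u * p)
      (mem_St.2 ⟨mul_mem (mul_mem (inv_mem hp) hw) hp, by simp [h6]⟩)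
    refine ⟨_, hn.conj_mem _ ⟨⟨g, mem_centralizer_singleton_iff.2 h8⟩, hN h7, rfl⟩ ⟨p, hp⟩, ?_⟩
    have := h.ac_uniq (γ _).2 (mul_mem (mul_mem (inv_mem hp) hw) hp)
      (h2 ⟨g, mem_centralizer_singleton_iff.2 h8⟩) a
    simp [this, mul_assoc]
  intro c hc
  obtain ⟨_, ⟨g, h5, rfl⟩, h6⟩ := h4 (γ ⟨c, hc⟩).2
  have h7 := hR ((h3 (g⁻¹ * ⟨c, hc⟩)).1 (by rw [map_mul, map_inv, Subtype.ext h6, inv_mul_cancel]))
  exact (mul_mem_cancel_left (inv_mem h5)).1 h7

theorem QD.cover [Finite X] (h : QD z R ψ A N m) : IsNonsplitDoubleCover N Spor.HS := by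
  obtain ⟨e⟩ := h.isoHS
  have := simple_HS
  have := e.isSimpleGroup
  refine BN.nonsplit_congr (MulEquiv.refl N) e (nonsplit_of_comm m h.surj (fun hc => ?_) ?_
    (z := ⟨ψ 1, h.t_mem⟩) (mem_center_iff.2 fun g => Subtype.ext (h.ct g.2))
    (fun a => h.t_ne.1 (congrArg Subtype.val a)) ?_)
  · obtain ⟨x, -, y, -, a⟩ := h.xs_E.exists_noncomm_pair
    rw [hc.is_comm.comm x, left_eq_mul] at a
    exact h.xs_E.z_ne a
  · rw [← m.ker.card_mul_index, index_ker, MonoidHom.range_eq_top.2 h.surj, card_top, h.card_ker]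
  · have cm : ∀ a b : N, ⁅a, b⁆ ∈ commutator N := fun a b =>
      commutator_mem_commutator (mem_top _) (mem_top _)
    have hz : (⟨z, h.z_mem⟩ : N) ∈ commutator N := by
      convert cm ⟨ψ 2, h.W_le (h.psi_mem _ 2 (by decide +kernel))⟩
        ⟨ψ 20, h.W_le (h.psi_mem _ 20 (by decide +kernel))⟩
      simp only [commutatorElement_def, coe_mul, coe_inv]
      rw [h.ncm 2 20 (by decide +kernel), conj_eq_of_comm (h.zc 20)]
    obtain ⟨p, hp, h1⟩ := E3
    obtain ⟨g, hg, -, a⟩ := h.liftN hp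
    have h2 := cm ⟨ψ 254, h.f_mem⟩⁻¹ ⟨g, hg⟩
    rcases ((h.conj_f hp a).resolve_left (by omega)).2 with b | b
    · convert h2
      simp only [commutatorElement_def, coe_mul, coe_inv, inv_inv]
      rw [mul_assoc (ψ 254)⁻¹, mul_assoc (ψ 254)⁻¹, b, inv_mul_cancel_left]
    · refine (mul_mem_cancel_right hz).1 ?_
      convert h2
      refine Subtype.ext ?_
      simp only [commutatorElement_def, coe_mul, coe_inv, inv_inv]
      rw [mul_assoc (ψ 254)⁻¹, mul_assoc (ψ 254)⁻¹, b, mul_assoc, inv_mul_cancel_left]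

theorem HD.isoHN [Finite X] (h : HD z R ψ A) : Spor.IsoHN X := by
  obtain ⟨N, h1, h2, h3⟩ := h.exists_N
  have n : ND z R ψ A N := ⟨h, h1, h2, h3⟩
  have : ((zpowers (ψ 1)).subgroupOf N).Normal := ⟨fun a ha g => by
    obtain ⟨k, hk⟩ := mem_subgroupOf.1 ha
    rw [mem_subgroupOf, coe_mul, coe_mul, coe_inv, ← hk,
      conj_eq_of_comm (Commute.zpow_right (n.ct g.2) k)]
    exact zpow_mem (mem_zpowers _) k⟩
  have q : QD z R ψ A N (QuotientGroup.mk' ((zpowers (ψ 1)).subgroupOf N)) :=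
    ⟨n, QuotientGroup.mk'_surjective _, fun a => by
      rw [QuotientGroup.mk'_apply, QuotientGroup.eq_one_iff, mem_subgroupOf,
        mem_zpowers_invol h.tt, eqv_one_iff]⟩
  have := q.simple
  have := normal_of_index_eq_two h2
  refine S1674.result (ψ 1) (orderOf_eq_prime (by rw [pow_two, h.tt]) h.t_ne.1) _ h2
    (fun c hc => ?_) (BN.nonsplit_congr (subgroupOfEquivOfLe h1).symm (MulEquiv.refl _) q.cover)
  have h4 : ∀ x ∈ N, (c : X) * x = x * c := fun x hx =>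
    (congrArg Subtype.val (hc ⟨x, h1 hx⟩ hx)).symm
  exact n.W_le (h.cent_W (h4 z n.z_mem) fun a ha =>
    h4 _ (n.W_le (h.psi_mem _ a (by revert a; decide +kernel)))).1

end Cfsg.Agent.Mon.HN
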