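import Cfsg.Agent.Mon.BSimple

/-! The fixed points of the sign changes on `u^⊥ / u` in `Λ / 2Λ` (the proofs of `Mon/BSimple` under a weaker
hypothesis). -/

set_option autoImplicit false

namespace Cfsg.Agent.Mon.BS

open Cfsg Cfsg.Spor Cfsg.Agent.Spor Cfsg.Agent.Spor.Leech Cfsg.Agent.TT Cfsg.Agent.LES
  Cfsg.Agent.LES.Co Cfsg.Agent.Comp Finset

/-- A subgroup of the lattice containing `2 Λ` and `u`, invariant under the sign changes fixing `u`. -/
structure InvS (W : AddSubgroup leechLattice) : Prop where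
  two : ∀ y, y + y ∈ W
  u : leechU ∈ W
  smul : ∀ c (hc : c ∈ GC), none ∉ c ∧ some 0 ∉ c → ∀ x ∈ W, Leech.sgn c hc • x ∈ W

namespace InvS

variable {W : AddSubgroup leechLattice}

theorem sgn (h : InvS W) {c : Finset GolayPt} (hc : c ∈ GC) (hP : none ∉ c ∧ some 0 ∉ c)
    {x : leechLattice} (hx : x ∈ W) :
    ∃ y ∈ W, ∀ i, (y : GolayPt → ℤ) i = if i ∈ c then 2 * (x : GolayPt → ℤ) i else 0 := by
  refine ⟨x - Leech.sgn c hc • x, W.sub_mem hx (h.smul c hc hP x hx),
    fun i => ?_⟩
  rw [AddSubgroup.coe_sub, Pi.sub_apply, sgn_smul]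
  split_ifs <;> ring

theorem e8_of (h : InvS W) {y : leechLattice} (hy : y ∈ W) (h8 : ∀ i, (y : GolayPt → ℤ) i % 8 = 0)
    (hs : (∑ i, (y : GolayPt → ℤ) i) % 16 = 8) : e8 none ∈ W := by
  obtain ⟨t, ht⟩ := half (y := y - e8 none) (fun i => by
    have := h8 i
    simp only [AddSubgroup.coe_sub, Pi.sub_apply, coe_e8, Pi.single_apply]
    split_ifs <;> omega) (by
    simp only [AddSubgroup.coe_sub, Pi.sub_apply, coe_e8, sum_sub_distrib, Finset.sum_pi_single',
      mem_univ, if_true]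
    omega)
  have := W.sub_mem hy (ht ▸ h.two t)
  simpa using this

theorem e8_of_code (h : InvS W) {x : leechLattice} (hx : x ∈ W) {S : Finset GolayPt} (hS : S ∈ GC)
    (h8 : ∀ i, (x : GolayPt → ℤ) i % 8 = if i ∈ S then 4 else 0) :
    e8 none ∈ W ∨ ∃ w, x = w + w := by
  have h1 : ∀ i, ((x - (two_ind S hS + two_ind S hS) : leechLattice) : GolayPt → ℤ) i % 8 = 0 :=
    fun i => by
      have := h8 i
      simp only [AddSubgroup.coe_sub, AddSubgroup.coe_add, Pi.sub_apply, Pi.add_apply, two_ind]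
      split_ifs at this ⊢ <;> omega
  have h2 : (∑ i, ((x - (two_ind S hS + two_ind S hS) : leechLattice) : GolayPt → ℤ) i) % 8 = 0 :=
    Int.emod_eq_zero_of_dvd (dvd_sum fun i _ => Int.dvd_of_emod_eq_zero (h1 i))
  by_cases h3 :
      (∑ i, ((x - (two_ind S hS + two_ind S hS) : leechLattice) : GolayPt → ℤ) i) % 16 = 0
  · obtain ⟨t, ht⟩ := half h1 h3
    exact Or.inr ⟨t + two_ind S hS, by rw [sub_eq_iff_eq_add.1 ht]; abel⟩
  · exact Or.inl (h.e8_of (W.sub_mem hx (h.two _)) h1 (by omega))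

theorem e8_of_four (h : InvS W) {x : leechLattice} (hx : x ∈ W)
    (h4 : ∀ i, (x : GolayPt → ℤ) i % 4 = 0) (hs : (∑ i, (x : GolayPt → ℤ) i) % 8 = 0) :
    e8 none ∈ W ∨ (∃ w, x = w + w) ∨ ∃ w, x = leechU + (w + w) := by
  set S : Finset GolayPt := univ.filter fun i => (x : GolayPt → ℤ) i % 8 = 4 with hS
  have h8 : ∀ i, (x : GolayPt → ℤ) i % 8 = if i ∈ S then 4 else 0 := fun i => by
    have := h4 i
    simp only [hS, mem_filter, mem_univ, true_and]
    split_ifs <;> omega
  have hsum : ∀ c : Finset GolayPt,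
      (∑ i ∈ c, (x : GolayPt → ℤ) i) % 8 = (4 * (c ∩ S).card) % 8 := fun c => by
    have := sum_mod_four (x := fun i => (x : GolayPt → ℤ) i / 2) (m := 0) (c := S) (fun i => by
      have := h8 i
      split_ifs at this ⊢ <;> omega) c
    rw [sum_congr rfl fun i _ => (show (x : GolayPt → ℤ) i = 2 * ((x : GolayPt → ℤ) i / 2) by
      have := h4 i; omega), ← mul_sum]
    omega
  by_cases hc : ∃ c ∈ GC, (none ∉ c ∧ some 0 ∉ c) ∧ (c ∩ S).card % 2 = 1
  · obtain ⟨c, hc, hP, ho⟩ := hc
    obtain ⟨y, hy, e⟩ := h.sgn hc hP hx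
    refine Or.inl (h.e8_of hy (fun i => ?_) ?_)
    · have := h4 i
      rw [e]; split_ifs <;> omega
    · have := hsum c
      rw [sum_congr rfl fun i _ => e i, sum_ite_mul]; omega
  push Not at hc
  have hev : S.card % 2 = 0 := by
    have := hsum univ
    rw [univ_inter] at this; omega
  have key := mem_of_orth' (w := ind S) (t := ind {none, some 0}) fun a ha hta => by
    have ha' : support₂ a ∈ GC := mem_GC_iff.2 (by rwa [ind_support])
    rw [← ind_support a, dot_ind, ZMod.natCast_eq_zero_iff] at hta ⊢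
    generalize support₂ a = c at ha' hta ⊢
    rw [inter_comm]
    by_cases h1 : none ∈ c <;> by_cases h2 : some 0 ∈ c
    · have h3 := hc cᶜ (GC_compl ha') ⟨by simpa using h1, by simpa using h2⟩
      have h5 := card_sdiff_add_card_inter S c
      rw [inter_comm, ← sdiff_eq_inter_compl] at h3
      rw [inter_comm]; omega
    · simp [h1, h2] at hta
    · simp [h1, h2] at hta
    · have := hc c ha' ⟨h1, h2⟩
      omega
  rcases key with e | e
  · rcases h.e8_of_code hx (mem_GC_iff.2 e) h8 with a | a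
    · exact Or.inl a
    · exact Or.inr (Or.inl a)
  · rw [← ind_symmDiff, ← mem_GC_iff] at e
    rcases h.e8_of_code (W.sub_mem hx h.u) e (fun i => by
      have := h8 i
      simp only [AddSubgroup.coe_sub, Pi.sub_apply, leechU_apply, mem_symmDiff, mem_insert,
        mem_singleton]
      by_cases h1 : i ∈ S <;> by_cases h2 : i = none ∨ i = some 0 <;>
        simp only [h1, h2, if_true, if_false, not_true, not_false_eq_true, and_true, and_false,
          or_self, true_or, or_true] at this ⊢ <;> omega) with a | ⟨w, a⟩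
    · exact Or.inl a
    · exact Or.inr (Or.inr ⟨w, sub_eq_iff_eq_add'.1 a⟩)

/-- An invariant subgroup larger than `2 Λ + ℤ u` contains the standard frame. -/
theorem e8_mem (h : InvS W) {x : leechLattice} (hx : x ∈ W) (h0 : ¬ ∃ w, x = w + w)
    (h1 : ¬ ∃ w, x = leechU + (w + w)) : e8 none ∈ W := by
  rcases leech_cases x.2 with ⟨c, hc, h4, hs⟩ | ⟨c, hc, h4, hs⟩
  · rcases exists_pair c hc with rfl | rfl | ⟨a, ha, b, hb, hPa, hPb, ho⟩
    · exact ((h.e8_of_four hx (by simpa using h4) hs).resolve_right fun e => e.elim h0 h1)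
    · rcases h.e8_of_four (W.sub_mem hx (h.two v3)) (fun i => by
        have := h4 i
        simp only [AddSubgroup.coe_sub, AddSubgroup.coe_add, Pi.sub_apply, Pi.add_apply, v3_apply,
          mem_univ, if_true] at this ⊢
        split_ifs <;> omega) (by
        have : ∑ i, (v3 : GolayPt → ℤ) i = 20 := by decide
        simp only [AddSubgroup.coe_sub, AddSubgroup.coe_add, Pi.sub_apply, Pi.add_apply,
          sum_sub_distrib, sum_add_distrib, this]
        omega) with a | ⟨w, a⟩ | ⟨w, a⟩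
      · exact a
      · exact absurd ⟨w + v3, by rw [sub_eq_iff_eq_add.1 a]; abel⟩ h0
      · exact absurd ⟨w + v3, by rw [sub_eq_iff_eq_add.1 a]; abel⟩ h1
    · obtain ⟨y, hy, e⟩ := h.sgn hb hPb hx
      obtain ⟨y', hy', e'⟩ := h.sgn ha hPa hy
      have e2 : ∀ i, (y' : GolayPt → ℤ) i =
          if i ∈ a ∩ b then 4 * (x : GolayPt → ℤ) i else 0 := fun i => by
        rw [e', e]
        by_cases h1 : i ∈ a <;> by_cases h2 : i ∈ b <;> simp [h1, h2]
        ring
      refine h.e8_of hy' (fun i => ?_) ?_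
      · have := h4 i
        rw [e2]; split_ifs at this ⊢ <;> omega
      · have := sum_mod_four (m := 0) (by simpa using h4) (a ∩ b)
        rw [sum_congr rfl fun i _ => e2 i, sum_ite_mul]; omega
  · obtain ⟨a, ha, b, hb, d, hd, hPa, hPb, hPd, ho⟩ := exists_triple
    obtain ⟨y, hy, e⟩ := h.sgn hd hPd hx
    obtain ⟨y', hy', e'⟩ := h.sgn hb hPb hy
    obtain ⟨y'', hy'', e''⟩ := h.sgn ha hPa hy'
    have e2 : ∀ i, (y'' : GolayPt → ℤ) i =
        if i ∈ a ∩ (b ∩ d) then 8 * (x : GolayPt → ℤ) i else 0 := fun i => by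
      rw [e'', e', e]
      by_cases h1 : i ∈ a <;> by_cases h2 : i ∈ b <;> by_cases h3 : i ∈ d <;> simp [h1, h2, h3]
      ring
    refine h.e8_of hy'' (fun i => ?_) ?_
    · rw [e2]; split_ifs <;> omega
    · have := h4 (some 22)
      rw [sum_congr rfl fun i _ => e2 i, sum_ite_mul, ho, sum_singleton]
      split_ifs at this <;> omega

end InvS

end Cfsg.Agent.Mon.BS
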