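import Cfsg.Agent.Mon.IsoB

/-! A faithful representation of degree 4371 of the Baby Monster over every field of
characteristic not two. -/

set_option autoImplicit false

namespace Cfsg.Agent.Mon

open Cfsg Cfsg.Agent.Spor Matrix Subgroup Module

namespace BvEx

/-- An integral basis of a lattice with integral Gram matrix is linearly independent over `ℝ`. -/
theorem indep {V : Type*} [AddCommGroup V] [Module ℝ V] (F : LinearMap.BilinForm ℝ V)
    (pos : ∀ u, u ≠ 0 → 0 < F u u) {d : ℕ} (b : Fin d → V) (hb : LinearIndependent ℤ b)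
    (M : Matrix (Fin d) (Fin d) ℤ) (hM : ∀ i j, F (b i) (b j) = M i j) :
    LinearIndependent ℝ b := by
  have key : ∀ c : Fin d → ℝ, ∀ i, F (b i) (∑ j, c j • b j) =
      ((M.map (Int.castRingHom ℝ)) *ᵥ c) i := fun c i => by
    simp [map_sum, hM, mulVec, dotProduct, mul_comm]
  have hd : M.det ≠ 0 := fun h => by
    obtain ⟨x, x0, hx⟩ := Matrix.exists_mulVec_eq_zero_iff.2 h
    have h1 : ∀ i, F (b i) (∑ j, (x j : ℝ) • b j) = 0 := fun i => by
      rw [key]
      have := congrArg (Int.cast : ℤ → ℝ) (congrFun hx i)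
      simpa [mulVec, dotProduct] using this
    have h2 : ∑ j, (x j : ℝ) • b j = 0 := by
      by_contra e
      have := pos _ e
      nth_rewrite 1 [LinearMap.map_sum₂] at this
      simp only [LinearMap.map_smul₂, h1, smul_zero, Finset.sum_const_zero, lt_irrefl] at this
    exact x0 (funext (Fintype.linearIndependent_iff.1 hb x
      (by simpa only [Int.cast_smul_eq_zsmul] using h2)))
  refine Fintype.linearIndependent_iff.2 fun c hc => ?_
  have h3 : (M.map (Int.castRingHom ℝ)) *ᵥ c = 0 := funext fun i => by rw [← key, hc]; simp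
  refine congrFun (Matrix.eq_zero_of_mulVec_eq_zero ?_ h3)
  rw [← RingHom.mapMatrix_apply, ← RingHom.map_det]
  simpa using hd

/-- An integral involution congruent to one modulo an odd prime is one. -/
theorem eq_one {F : Type*} [Field F] (h2 : (2 : F) ≠ 0) {d : ℕ} {M : Matrix (Fin d) (Fin d) ℤ}
    (hM : M * M = 1) (h : (Int.castRingHom F).mapMatrix M = 1) : M = 1 := by
  have hd : (M + 1).det ≠ 0 := fun e => by
    have := (Int.castRingHom F).map_det (M + 1)
    rw [e, map_zero, map_add, h, map_one, ← two_smul F, det_smul, det_one, mul_one] at this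
    exact pow_ne_zero _ h2 this.symm
  have : (M + 1) * (M - 1) = 0 := by
    rw [Matrix.add_mul, Matrix.mul_sub, hM, Matrix.mul_one, Matrix.one_mul]; abel
  refine sub_eq_zero.1 (Matrix.ext fun i j => ?_)
  exact congrFun (Matrix.eq_zero_of_mulVec_eq_zero hd (v := fun k => (M - 1) k j)
    (funext fun k => congrFun (congrFun this k) j)) i

theorem pad {H F : Type*} [Group H] [Field F] {d n : ℕ} (h : d ≤ n)
    (ρ : H →* Matrix (Fin d) (Fin d) F) :
    ∃ ρ' : H →* GL (Fin n) F, ∀ g, ρ' g = 1 ↔ ρ g = 1 := by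
  obtain ⟨k, rfl⟩ := Nat.exists_eq_add_of_le h
  let f : H →* Matrix (Fin d ⊕ Fin k) (Fin d ⊕ Fin k) F :=
    { toFun := fun g => fromBlocks (ρ g) 0 0 1
      map_one' := by rw [map_one, fromBlocks_one]
      map_mul' := fun a b => by simp [fromBlocks_multiply] }
  refine ⟨((reindexAlgEquiv F F finSumFinEquiv).toMonoidHom.comp f).toHomUnits, fun g => ?_⟩
  rw [Units.ext_iff]
  change reindexAlgEquiv F F finSumFinEquiv (f g) = 1 ↔ _
  rw [map_eq_one_iff _ (AlgEquiv.injective _)]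
  change fromBlocks (ρ g) 0 0 1 = 1 ↔ _
  rw [← fromBlocks_one, fromBlocks_inj]
  simp

/-- From an invariant lattice to representations over all fields. -/
theorem of_lattice {V H : Type*} [AddCommGroup V] [Module ℝ V] [Group H]
    (F : LinearMap.BilinForm ℝ V) (pos : ∀ u, u ≠ 0 → 0 < F u u) (ρ : H →* (V ≃ₗ[ℝ] V))
    (L : Submodule ℤ V) (hL : L.FG) (hF : ∀ x ∈ L, ∀ y ∈ L, ∃ m : ℤ, F x y = m)
    (inv : ∀ g, ∀ x ∈ L, ρ g x ∈ L) (W : Submodule ℝ V) [Module.Finite ℝ W]
    (hW : ∀ x ∈ L, x ∈ W) (K : Type*) [Field K] (h2 : (2 : K) ≠ 0) :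
    ∃ σ : H →* GL (Fin (finrank ℝ W)) K, (∀ g, (∀ x ∈ L, ρ g x = x) → σ g = 1) ∧
      ∀ g, g * g = 1 → σ g = 1 → ∀ x ∈ L, ρ g x = x := by
  have : Module.Finite ℤ L := Module.Finite.iff_fg.2 hL
  have : Module.IsTorsionFree ℤ V := by
    refine Module.IsTorsionFree.of_smul_eq_zero fun c x h => ?_
    rw [← Int.cast_smul_eq_zsmul ℝ, smul_eq_zero] at h
    exact h.imp_left fun e => by exact_mod_cast e
  let b := Module.finBasis ℤ L
  choose M hM using fun i j => hF _ (b i).2 _ (b j).2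
  have h1 := indep F pos (fun i => (b i : V)) (b.linearIndependent.map' L.subtype L.ker_subtype) M hM
  have h3 : finrank ℤ L ≤ finrank ℝ W := by
    simpa using (LinearIndependent.of_comp W.subtype
      (v := fun i => (⟨b i, hW _ (b i).2⟩ : W)) h1).fintype_card_le_finrank
  let r : H →* End ℤ L :=
    { toFun := fun g => ((ρ g).toLinearMap.restrictScalars ℤ).restrict (inv g)
      map_one' := by ext x; simp
      map_mul' := fun g k => LinearMap.ext fun x => Subtype.ext (by
        change ρ (g * k) x = ρ g (ρ k x)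
        rw [map_mul]; rfl) }
  let m : H →* Matrix (Fin (finrank ℤ L)) (Fin (finrank ℤ L)) ℤ :=
    (LinearMap.toMatrixAlgEquiv b).toMonoidHom.comp r
  have hm : ∀ g, m g = 1 ↔ ∀ x ∈ L, ρ g x = x := fun g => by
    change LinearMap.toMatrixAlgEquiv b (r g) = 1 ↔ _
    rw [map_eq_one_iff _ (AlgEquiv.injective _), LinearMap.ext_iff, Subtype.forall]
    exact forall₂_congr fun x hx => Subtype.ext_iff
  obtain ⟨σ, hσ⟩ := pad h3 ((Int.castRingHom K).mapMatrix.toMonoidHom.comp m)
  refine ⟨σ, fun g hg => (hσ g).2 ?_, fun g hg e => (hm g).1 (eq_one h2 ?_ ((hσ g).1 e))⟩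
  · rw [MonoidHom.comp_apply, (hm g).2 hg, map_one]
  · rw [← map_mul, hg, map_one]

open Ax Bas

/-- A non-zero integral combination of axes in the `1/4`-eigenspace. -/
theorem exists_vec : ∃ v ∈ Submodule.span ℤ (Mon.ax '' cA psi), v ≠ 0 ∧
    mul (Mon.ax (psi Spor.leechU)) v = (1 / 4 : ℝ) • v := by
  have hU := Leech.sqNorm_leechU
  set ρ := shOf hU
  obtain ⟨w, hw⟩ := Finset.card_pos.1 ((card_H ρ).symm ▸ (by norm_num : 0 < 4600))
  have hH : H ρ w := by
    by_contra x
    rw [Finset.mem_filter, hh_neg x] at hw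
    exact absurd hw.2 (by decide)
  have mem : ∀ (u : Sh) e, Ax.ax u e ∈ Submodule.span ℤ (Mon.ax '' cA psi) := fun u e =>
    Submodule.subset_span ⟨_, miy_mem u.rep_norm e, ax_miy u.rep_norm e⟩
  have hA : (Ax.ax w 0 + Ax.ax w 1 - (Ax.ax (τ ρ w) 0 + Ax.ax (τ ρ w) 1)).A =
      (1 / 16 : ℝ) • (Pm w - Pm (τ ρ w)) := by
    rw [bA_sub, bA_add, bA_add]; simp only [ax_A]; module
  have hX : (Ax.ax w 0 + Ax.ax w 1 - (Ax.ax (τ ρ w) 0 + Ax.ax (τ ρ w) 1)).X = 0 := by
    rw [bX_sub, bX_add, bX_add]; simp only [ax_X, sg_zero, sg_one]; module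
  have hT : (Ax.ax w 0 + Ax.ax w 1 - (Ax.ax (τ ρ w) 0 + Ax.ax (τ ρ w) 1)).T = 0 := by
    rw [bT_sub, bT_add, bT_add]; simp only [ax_T]; simp
  refine ⟨_, sub_mem (add_mem (mem w 0) (mem w 1)) (add_mem (mem (τ ρ w) 0) (mem (τ ρ w) 1)),
    fun e => ?_, ?_⟩
  · rw [e] at hA
    refine Pm_ne hH ?_
    rw [Mm, Mm, sub_eq_zero.1 ((smul_eq_zero.1 hA.symm).resolve_left (by norm_num))]
  · rw [← Lm.miy_one, ax_miy hU, axv_eq hU]
    refine (data ρ 1).eig4_iff.2 ⟨B.ext' (tm_A _ _ _) (funext fun u => ?_) ?_,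
      B.ext' ?_ (funext fun u => ?_) ?_⟩
    · rw [tm_X, hX]; simp
    · rw [tm_T, hT]; simp
    · rw [σ_A, bA_neg, hA, Matrix.mul_smul, Matrix.smul_mul, Matrix.mul_sub, Matrix.sub_mul,
        R_Pm (bb_of_H hH), R_Pm ((bb_τ ρ w).trans (bb_of_H hH)), τ_τ, ← smul_neg, neg_sub]
    · rw [σ_X, bX_neg, hX]; simp
    · rw [σ_T, bT_neg, hT]; simp

theorem int_form {x y : B} (hx : x ∈ Submodule.span ℤ (Mon.ax '' cA psi))
    (hy : y ∈ Submodule.span ℤ (Mon.ax '' cA psi)) : ∃ m : ℤ, ((256 : ℝ) • F32) x y = m := by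
  induction hx using Submodule.span_induction with
  | zero => exact ⟨0, by simp⟩
  | add a b _ _ ha hb =>
    obtain ⟨m, e⟩ := ha
    obtain ⟨n, f⟩ := hb
    exact ⟨m + n, by rw [map_add, LinearMap.add_apply, e, f, Int.cast_add]⟩
  | smul c a _ ha =>
    obtain ⟨m, e⟩ := ha
    exact ⟨c * m, by rw [map_zsmul, LinearMap.smul_apply, e, zsmul_eq_mul, Int.cast_mul]⟩
  | mem a ha =>
    induction hy using Submodule.span_induction with
    | zero => exact ⟨0, by simp⟩
    | add a b _ _ ha hb =>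
      obtain ⟨m, e⟩ := ha
      obtain ⟨n, f⟩ := hb
      exact ⟨m + n, by rw [map_add, e, f, Int.cast_add]⟩
    | smul c a _ ha =>
      obtain ⟨m, e⟩ := ha
      exact ⟨c * m, by rw [map_zsmul, e, zsmul_eq_mul, Int.cast_mul]⟩
    | mem b hb =>
      obtain ⟨a, ha, rfl⟩ := ha
      obtain ⟨b, hb, rfl⟩ := hb
      change ∃ m : ℤ, 256 * lam a b = m
      rcases CF.lam_cases if1 ha hb with ⟨-, e⟩ | ⟨-, e⟩ | ⟨-, e⟩ | ⟨-, e⟩ | ⟨-, e⟩ | e | e | e <;>
        rw [e]
      exacts [⟨256, by norm_num⟩, ⟨32, by norm_num⟩, ⟨0, by norm_num⟩, ⟨8, by norm_num⟩,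
        ⟨5, by norm_num⟩, ⟨13, by norm_num⟩, ⟨4, by norm_num⟩, ⟨6, by norm_num⟩]

end BvEx

open BvEx

/-- The Baby Monster has a faithful representation of degree 4371 in every characteristic `≠ 2`. -/
theorem exists_rep_4371 (F : Type*) [Field F] (h2 : (2 : F) ≠ 0) :
    ∃ ρ : Cfsg.Spor.BabyMonster →* GL (Fin 4371) F, Function.Injective ρ := by
  have ha : psi Spor.leechU ∈ cA psi := IsConj.refl _
  set a := psi Spor.leechU
  have cj : ∀ g : centralizer ({a} : Set MG), (g : MG) * a * (g : MG)⁻¹ = a := fun g => by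
    rw [mem_centralizer_singleton_iff.1 g.2, mul_inv_cancel_right]
  let W := Axial.eigen mul (ax a) (1 / 4)
  let S := Submodule.span ℤ (ax '' cA psi)
  have hS : S.FG := Submodule.fg_span ((Set.toFinite _).image _)
  have iW : ∀ (g : centralizer ({a} : Set MG)) x, x ∈ W → (g : MG).1 x ∈ W := fun g x hx => by
    rw [Ax.mem_eigen] at hx ⊢
    have := ax_conj ha g
    rw [cj g] at this
    rw [this, ← map_mul', hx, map_smul]
  have iS : ∀ (g : MG) x, x ∈ S → g.1 x ∈ S := fun g x hx => by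
    refine (Submodule.span_le (p := S.comap (g.1.toLinearMap.restrictScalars ℤ))).2 ?_ hx
    rintro _ ⟨c, hc, rfl⟩
    exact Submodule.subset_span ⟨_, Lm.conj_mem hc g, ax_conj hc g⟩
  have key := of_lattice ((256 : ℝ) • F32) (fun u hu => by
      have := amb.pos u hu
      change 0 < 256 * F32 u u
      linarith) (Γ.subtype.comp (centralizer ({a} : Set MG)).subtype)
    (S ⊓ W.restrictScalars ℤ) (hS.of_le inf_le_left) (fun x hx y hy => int_form hx.1 hy.1)
    (fun g x hx => ⟨iS g x hx.1, iW g x hx.2⟩) W (fun x hx => hx.2) F h2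
  rw [show finrank ℝ W = 4371 from Des.finrank_ax ha] at key
  obtain ⟨σ, h1, h3⟩ := key
  have hU := Leech.sqNorm_leechU
  have hc : center (centralizer ({a} : Set MG)) ≤ σ.ker := fun g hg => h1 g fun x hx => by
    change (g : MG).1 x = x
    rcases (if1.mem_center ha).1 hg with e | e <;> rw [e]
    · rfl
    · have := Ax.mem_eigen.1 hx.2
      simp only [a] at this ⊢
      rw [← Lm.miy_one, ax_miy hU, Ax.axv_eq hU] at this
      rw [← Lm.miy_one, Ax.miy_eq hU]
      exact ((Ax.data _ 1).eig4_iff.1 this).1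
  have hB := if1.isB ha
  have := hB.1
  obtain ⟨e⟩ := baby_iso
  suffices Function.Injective (QuotientGroup.lift _ σ hc) from
    ⟨(QuotientGroup.lift _ σ hc).comp e.toMonoidHom, this.comp e.injective⟩
  refine (MonoidHom.ker_eq_bot_iff _).1
    ((IsSimpleGroup.eq_bot_or_eq_top_of_normal _ inferInstance).resolve_right fun ht => ?_)
  have triv : ∀ g, σ g = 1 := fun g =>
    (ht ▸ mem_top (g : BQ a) : (g : BQ a) ∈ (QuotientGroup.lift _ σ hc).ker)
  -- the elements acting trivially on the lattice form a normal subgroup containing all involutions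
  let N : Subgroup (centralizer ({a} : Set MG)) :=
    { carrier := {g | ∀ x ∈ S ⊓ W.restrictScalars ℤ, (g : MG).1 x = x}
      one_mem' := fun _ _ => rfl
      mul_mem' := fun {g k} hg hk x hx => by
        change (g : MG).1 ((k : MG).1 x) = x
        rw [hk x hx, hg x hx]
      inv_mem' := fun {g} hg x hx => (g : MG).1.injective (by
        rw [hg x hx]; exact (g : MG).1.apply_symm_apply x) }
  have hN : N.Normal := ⟨fun g hg k x hx => by
    change (k : MG).1 ((g : MG).1 (((k⁻¹ : centralizer ({a} : Set MG)) : MG).1 x)) = x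
    rw [hg _ ⟨iS _ x hx.1, iW _ x hx.2⟩]
    exact (k : MG).1.apply_symm_apply x⟩
  obtain ⟨b, hb⟩ := if1.exists_D ha
  let b' : centralizer ({a} : Set MG) := ⟨b, mem_centralizer_singleton_iff.2 (Des.comm_of_Dt ha hb)⟩
  have hb' : b' ∈ N := h3 b' (Subtype.ext (Des.sq_A hb.1)) (triv b')
  have hN' : N.map (QuotientGroup.mk' (center _)) = ⊤ :=
    (IsSimpleGroup.eq_bot_or_eq_top_of_normal _
      (hN.map _ (QuotientGroup.mk'_surjective _))).resolve_left fun e0 => by
      rcases (if1.mk_eq_one ha).1 (mem_bot.1 (e0 ▸ mem_map_of_mem _ hb')) with e1 | e1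
      · exact if0.ne_one_A hb.1 e1
      · exact if0.ne_one_A hb.2 (by rw [show b = a from e1, Des.sq_A ha])
  have all : ∀ g, g ∈ N := fun g => by
    obtain ⟨k, hk, e1⟩ := mem_map.1 (hN' ▸ mem_top (g : BQ a))
    have e2 := QuotientGroup.eq.1 e1
    have e3 : k⁻¹ * g ∈ N := h3 (k⁻¹ * g) (Subtype.ext (by
      rcases (if1.mem_center ha).1 e2 with e | e <;> rw [coe_mul, e]
      · rfl
      · exact Des.sq_A ha)) (triv _)
    simpa using N.mul_mem hk e3
  obtain ⟨v, hv, v0, hv'⟩ := exists_vec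
  obtain ⟨α, β, e1⟩ := Des.fix_a ha (x := v) fun g hg =>
    all ⟨g, mem_centralizer_singleton_iff.2 (by rw [← mul_inv_eq_iff_eq_mul, hg])⟩ v
      ⟨hv, Ax.mem_eigen.2 hv'⟩
  have o1 : F32 (ax a) v = 0 := Sak.eig_orth amb (c := 1) (by rw [Des.ax_idem ha, one_smul]) hv'
    (by norm_num)
  have o2 : F32 one v = 0 := by
    have := amb.assoc one (ax a) v
    rw [hv', map_smul, one_mul', o1, smul_eq_mul] at this
    linarith
  have := amb.pos v v0
  nth_rewrite 1 [e1] at this
  simp [o1, o2] at this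

end Cfsg.Agent.Mon
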