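import Cfsg.Agent.Mon.BvUniq
import Cfsg.Agent.Mon.BOut
import Cfsg.Agent.Mon.IsoB

/-! The faithful modules of dimension at most `4371` of the Baby Monster. -/

set_option autoImplicit false

namespace Cfsg.Agent.Mon

open Module Cfsg Cfsg.Spor Cfsg.Agent.Spor Cfsg.Agent.Spor.Leech Cfsg.Agent.TT Cfsg.Agent.LES
  Subgroup Bv

theorem If1.geo {G : Type} [Group G] [Finite G] {z : G} {Q : Subgroup G}
    {π : centralizer ({z} : Set G) →* Co1} {ψ : leechLattice → G} {lam : G → G → ℝ}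
    (h : If1 z Q π ψ lam) : ∃ (Pt : BQ (ψ leechU) → Prop) (T : _) (y s : BQ (ψ leechU)), Geo Pt T ∧
      Ln Pt y s ∧ ∀ K : Subgroup (BQ (ψ leechU)),
        (∀ c, c * y = y * c ∨ c * s = s * c → c ∈ K) → K = ⊤ := by
  have ha : ψ leechU ∈ cA ψ := IsConj.refl _
  have q := h.invQuot
  obtain ⟨y, R, γ, φ, d, hn⟩ := babyData_of (h.baby_BQ ha)
  obtain ⟨T', G'⟩ := exists_geo d hn
  obtain ⟨T, hT⟩ := (h.xs.isPGroup.comap_subtype (K := centralizer {ψ leechU})).exists_le_sylow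
  have xs := q.xs (by rw [h.mon.card]; norm_num)
  obtain ⟨g, hg⟩ := isConj_of_central d.lx (T.mapSurjective q.surj) xs.z_ne (by
    rintro _ ⟨x, hx, rfl⟩
    exact q.comm_iff.2 (mem_centralizer_singleton_iff.1 (h.le_C_of_two q.t_mem q.t_mem
      (h.cent_one ha q.t_mem) (T.isPGroup'.map (Subgroup.subtype _))
      (fun a ha e _ => ⟨⟨a, mem_centralizer_singleton_iff.2 e⟩, hT ha, rfl⟩) ⟨x, hx, rfl⟩)))
  obtain ⟨k, k1, k2, k3⟩ := h.mon.exists_comm_conj h.nwc (.inl rfl) sqNorm_leechU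
  let k' : centralizer {ψ leechU} := ⟨k, mem_centralizer_singleton_iff.2 k1⟩
  have p : IsConj y _ := isConj_iff.2 ⟨g, hg⟩
  refine ⟨_, T', _, QuotientGroup.mk' _ (k' * ⟨z, q.z_mem⟩ * k'⁻¹), G', ⟨p, p.trans (isConj_iff.2
    ⟨QuotientGroup.mk' _ k', by rw [map_mul, map_mul, map_inv]⟩),
    le_O2C xs.isPGroup xs.z_comm q.norm (q.mem_iff.2 k2), fun e => k3 (conj_eq_of_comm
      (q.comm_iff (h := k').1 (comm_of_conj_eq (by rwa [map_mul, map_mul, map_inv] at e))))⟩,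
    fun K hK => eq_top_iff.2 fun x _ => ?_⟩
  obtain ⟨x, rfl⟩ := q.surj x
  obtain ⟨w, hw, e⟩ := h.gen ha q.t_mem k2 k3
    ⟨k, rfl, by rw [mul_assoc, ← k1, inv_mul_cancel_left]; exact q.t_mem⟩
    (F := (K.comap (QuotientGroup.mk' _)).map (Subgroup.subtype _))
    (fun c h1 h2 => ⟨⟨c, mem_centralizer_singleton_iff.2 h1⟩, hK _ (.inl (q.comm_iff.2 h2)), rfl⟩)
    (fun c h1 h2 => ⟨⟨c, mem_centralizer_singleton_iff.2 h1⟩,
      hK _ (.inr (congrArg QuotientGroup.mk (Subtype.ext h2))), rfl⟩) x.2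
  obtain rfl := Subtype.ext e
  exact hw

variable {F : Type*} [Field F] [NeZero (2 : F)] {V V' : Type*} [AddCommGroup V] [Module F V]
  [AddCommGroup V'] [Module F V'] [FiniteDimensional F V] [FiniteDimensional F V']
  {ρ : BabyMonster →* End F V} {ρ' : BabyMonster →* End F V'}

theorem baby_irred (h : Function.Injective ρ) (hn : finrank F V ≤ 4371) (U : Submodule F V)
    (hU : ∀ g, ∀ v ∈ U, ρ g v ∈ U) : U = ⊥ ∨ U = ⊤ := by
  obtain ⟨e⟩ := baby_iso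
  obtain ⟨Pt, T, y, s, G, l, -⟩ := if1.geo
  exact G.irred (ρ := ρ.comp e.symm.toMonoidHom) l.p (fun a => (G.xs l.p).z_ne
    (e.symm.injective (h (a.trans (by simp))))) hn U fun g => hU _

theorem baby_uniq (h : Function.Injective ρ) (h' : Function.Injective ρ')
    (hn : finrank F V ≤ 4371) (hn' : finrank F V' ≤ 4371) :
    ∃ f : V ≃ₗ[F] V', ∀ g v, f (ρ g v) = ρ' g (f v) := by
  obtain ⟨e⟩ := baby_iso
  obtain ⟨Pt, T, y, s, G, l, gen⟩ := if1.geo
  obtain ⟨f, hf⟩ := G.uniq (ρ := ρ.comp e.symm.toMonoidHom) (ρ' := ρ'.comp e.symm.toMonoidHom) l gen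
    (fun a => (G.xs l.p).z_ne (e.symm.injective (h (a.trans (by simp)))))
    (fun a => (G.xs l.p).z_ne (e.symm.injective (h' (a.trans (by simp))))) hn hn'
  exact ⟨f, fun g v => by simpa using hf (e g) v⟩

end Cfsg.Agent.Mon
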