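import Cfsg.Agent.Comp.Basic

/-! Generic tools for the 2-rank of the Monster: counting by fibres, families of sets closed under
symmetric difference, rank by elimination, and a search through elementary abelian subgroups. -/

set_option autoImplicit false

namespace Cfsg.Agent.Mon.RkM

open Cfsg.Agent.Comp
open scoped symmDiff

/-- Counting by fibres. -/
theorem card_le_of_fib {α T K : Type*} [Finite T] [Finite K] (A : α → T → Prop)
    (R : α → α → K → Prop) (exA : ∀ x, ∃ t, A x t)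
    (ex : ∀ x y t, A x t → A y t → ∃ k, R x y k)
    (uniq : ∀ x y y' t k, A y t → A y' t → R x y k → R x y' k → y = y') :
    Nat.card α ≤ Nat.card T * Nat.card K := by
  classical
  choose g hg using exA
  have h1 : ∀ y, ∃ x, A x (g y) ∧ ∀ y', g y' = g y → ∀ h : ∃ x, A x (g y'), h.choose = x :=
    fun y => ⟨(⟨y, hg y⟩ : ∃ x, A x (g y)).choose, (⟨y, hg y⟩ : ∃ x, A x (g y)).choose_spec,
      fun y' e h => by congr 1; rw [e]⟩
  choose r hr hr' using h1
  choose k hk using fun y => ex (r y) y (g y) (hr y) (hg y)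
  rw [← Nat.card_prod]
  refine Nat.card_le_card_of_injective (fun y => (g y, k y)) fun y y' e => ?_
  have e1 : g y = g y' := congrArg Prod.fst e
  have e2 : k y = k y' := congrArg Prod.snd e
  have e3 : r y = r y' := (hr' y y rfl ⟨y, hg y⟩).symm.trans (hr' y' y e1 _)
  exact uniq (r y) y y' (g y) (k y) (hg y) (e1 ▸ hg y') (hk y) (by rw [e3, e2]; exact hk y')

section Cl

variable {Ω : Type*} [DecidableEq Ω] [Fintype Ω]

/-- A family of sets closed under symmetric difference. -/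
structure Cl (X : Set (Finset Ω)) : Prop where
  emp : ∅ ∈ X
  sd : ∀ a ∈ X, ∀ b ∈ X, a ∆ b ∈ X

omit [Fintype Ω] in
theorem Cl.inter {X Y : Set (Finset Ω)} (hX : Cl X) (hY : Cl Y) : Cl (X ∩ Y) :=
  ⟨⟨hX.emp, hY.emp⟩, fun a ha b hb => ⟨hX.sd a ha.1 b hb.1, hY.sd a ha.2 b hb.2⟩⟩

theorem Cl.two_mul {X Y : Set (Finset Ω)} (hX : Cl X) (hY : Cl Y) (h : X ⊆ Y) {u : Finset Ω}
    (hu : u ∈ Y) (hu' : u ∉ X) : 2 * X.ncard ≤ Y.ncard := by
  have hi : Function.Injective fun a : Finset Ω => u ∆ a := symmDiff_right_injective u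
  rw [_root_.two_mul]
  nth_rewrite 2 [← Set.ncard_image_of_injective X hi]
  rw [← Set.ncard_union_eq (Set.disjoint_left.2 ?_)]
  · refine Set.ncard_le_ncard (Set.union_subset h ?_)
    rintro _ ⟨a, ha, rfl⟩
    exact hY.sd _ hu _ (h ha)
  · rintro _ hb ⟨a, ha, rfl⟩
    exact hu' (by simpa using hX.sd _ hb _ ha)

theorem Cl.mul_le {D Z X : Set (Finset Ω)} (hD : Cl D) (hZ : Cl Z)
    (hX : ∀ a ∈ D, ∀ b ∈ Z, a ∆ b ∈ X) : D.ncard * Z.ncard ≤ X.ncard * (D ∩ Z).ncard := by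
  simp only [← Nat.card_coe_set_eq]
  rw [← Nat.card_prod]
  refine card_le_of_fib (fun x t => x.1.1 ∆ x.2.1 = t.1) (fun x y k => x.1.1 ∆ y.1.1 = k.1)
    (fun x => ⟨⟨_, hX _ x.1.2 _ x.2.2⟩, rfl⟩) (fun x y t h1 h2 => ⟨⟨_, hD.sd _ x.1.2 _ y.1.2, ?_⟩, rfl⟩)
    fun x y y' t k h1 h2 h3 h4 => ?_
  · have : x.1.1 ∆ y.1.1 = x.2.1 ∆ y.2.1 := by
      rw [← symmDiff_eq_bot, symmDiff_symmDiff_symmDiff_comm, h1, h2, symmDiff_self]
    rw [this]; exact hZ.sd _ x.2.2 _ y.2.2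
  · have e : y.1.1 = y'.1.1 := symmDiff_right_injective _ (h3.trans h4.symm)
    refine Prod.ext (Subtype.ext e) (Subtype.ext (symmDiff_right_injective y.1.1 ?_))
    exact h1.trans (by rw [e]; exact h2.symm)

theorem card_inter_sd (a b w : Finset Ω) :
    ((a ∆ b) ∩ w).card % 2 = ((a ∩ w).card + (b ∩ w).card) % 2 := by
  have h1 : (a ∆ b) ∩ w = (a ∩ w) ∆ (b ∩ w) := by
    ext; simp only [Finset.mem_inter, Finset.mem_symmDiff]; tauto
  have h2 := Finset.card_union_add_card_inter (a ∩ w) (b ∩ w)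
  have h3 : ((a ∩ w) ∆ (b ∩ w)).card + ((a ∩ w) ∩ (b ∩ w)).card = ((a ∩ w) ∪ (b ∩ w)).card := by
    rw [← Finset.card_union_of_disjoint (disjoint_symmDiff_inf _ _)]
    exact congrArg _ (symmDiff_sup_inf _ _)
  rw [h1]; omega

theorem sum_sign {S : Finset (Finset Ω)} (hS : ∀ a ∈ S, ∀ b ∈ S, a ∆ b ∈ S) {u w : Finset Ω}
    (hu : u ∈ S) (h : (u ∩ w).card % 2 = 1) : ∑ a ∈ S, (-1 : ℤ) ^ (a ∩ w).card = 0 := by
  refine Finset.sum_involution (fun a _ => u ∆ a) (fun a _ => ?_) (fun a _ _ e => ?_)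
    (fun a ha => hS _ hu _ ha) fun a _ => symmDiff_symmDiff_cancel_left _ _
  · rw [neg_one_pow_eq_pow_mod_two ((u ∆ a) ∩ w).card, card_inter_sd,
      neg_one_pow_eq_pow_mod_two (a ∩ w).card]
    rcases Nat.mod_two_eq_zero_or_one (a ∩ w).card with e | e
    · rw [e, show ((u ∩ w).card + (a ∩ w).card) % 2 = 1 by omega]; rfl
    · rw [e, show ((u ∩ w).card + (a ∩ w).card) % 2 = 0 by omega]; rfl
  · rw [symmDiff_eq_right.1 e] at h; simp at h

/-- Duality bound. -/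
theorem Cl.perp_le {Y B : Set (Finset Ω)} (hY : Cl Y)
    (h : ∀ u ∈ B, ∀ y ∈ Y, (y ∩ u).card % 2 = 0) :
    B.ncard * Y.ncard ≤ 2 ^ Fintype.card Ω := by
  classical
  have h1 : ∑ y ∈ Y.toFinset, ∑ u : Finset Ω, (-1 : ℤ) ^ (u ∩ y).card = 2 ^ Fintype.card Ω := by
    rw [Finset.sum_eq_single_of_mem ∅ (Set.mem_toFinset.2 hY.emp) fun y _ hy => ?_]
    · simp
    · obtain ⟨p, hp⟩ := Finset.nonempty_iff_ne_empty.2 hy
      exact sum_sign (fun _ _ _ _ => Finset.mem_univ _) (Finset.mem_univ {p})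
        (by rw [Finset.singleton_inter_of_mem hp]; rfl)
  have h2 : ∑ u ∈ B.toFinset, (Y.ncard : ℤ) ≤
      ∑ u : Finset Ω, ∑ y ∈ Y.toFinset, (-1 : ℤ) ^ (u ∩ y).card := by
    refine le_trans (Finset.sum_le_sum fun u hu => le_of_eq ?_)
      (Finset.sum_le_sum_of_subset_of_nonneg (Finset.subset_univ _) fun u _ _ => ?_)
    · rw [Finset.sum_congr rfl (g := fun _ => 1) fun y hy => ?_]
      · simp [Set.ncard_eq_toFinset_card']
      · rw [neg_one_pow_eq_pow_mod_two, Finset.inter_comm,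
          h u (Set.mem_toFinset.1 hu) y (Set.mem_toFinset.1 hy)]; rfl
    · by_cases e : ∃ y ∈ Y, (y ∩ u).card % 2 = 1
      · obtain ⟨y, hy, e⟩ := e
        simp only [Finset.inter_comm u]
        exact (sum_sign (fun a ha b hb => Set.mem_toFinset.2
          (hY.sd _ (Set.mem_toFinset.1 ha) _ (Set.mem_toFinset.1 hb))) (Set.mem_toFinset.2 hy) e).ge
      · refine Finset.sum_nonneg fun y hy => ?_
        rw [neg_one_pow_eq_pow_mod_two, Finset.inter_comm, (Nat.mod_two_eq_zero_or_one _).resolve_right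
          fun e' => e ⟨y, Set.mem_toFinset.1 hy, e'⟩]
        norm_num
  rw [Finset.sum_comm, h1, Finset.sum_const, ← Set.ncard_eq_toFinset_card', nsmul_eq_mul] at h2
  exact_mod_cast h2

end Cl

/-- Reduction of `v` modulo `w` at the pivot `p`. -/
noncomputable def md (p w v : ℕ) : ℕ := ite' (tb v p) (Nat.xor v w) v

theorem md_eq (p w v : ℕ) : md p w v = if v.testBit p = true then v ^^^ w else v := by
  rw [md, ite'_eq, tb_eq]; rfl

theorem md_zero (p w : ℕ) : md p w 0 = 0 := by simp [md_eq]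

theorem md_self {p w : ℕ} (h : w.testBit p = true) : md p w w = 0 := by simp [md_eq, h]

theorem md_xor (p w a b : ℕ) : md p w (a ^^^ b) = md p w a ^^^ md p w b := by
  simp only [md_eq, Nat.testBit_xor]
  cases a.testBit p <;> cases b.testBit p <;> simp
  · rw [Nat.xor_assoc]
  · rw [Nat.xor_assoc, Nat.xor_assoc, Nat.xor_comm w]
  · rw [Nat.xor_assoc, Nat.xor_comm b, ← Nat.xor_assoc w, Nat.xor_self, Nat.zero_xor]

/-- The rank (capped at the second argument) of the values of the third argument on a list. -/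
noncomputable def rkL (L : List ℕ) : ℕ → (ℕ → ℕ) → ℕ :=
  List.rec (motive := fun _ => ℕ → (ℕ → ℕ) → ℕ) (fun _ _ => 0)
    (fun x _ ih t r => Nat.rec (motive := fun _ => ℕ) 0
      (fun t' _ => force (r x) fun w => ite' (Nat.beq w 0) (ih (Nat.succ t') r)
        (force (Nat.log2 w) fun p => Nat.succ (ih t' fun y => force (r y) (md p w)))) t) L

theorem rkL_sound {Ω : Type*} [DecidableEq Ω] [Fintype Ω] {X : Set (Finset Ω)} (hX : Cl X)
    (φ : Finset Ω → ℕ) (h0 : ∀ x ∈ X, φ x = 0) (L : List ℕ) : ∀ (t : ℕ) (r : ℕ → ℕ)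
    (Y : Set (Finset Ω)), Cl Y → X ⊆ Y → (∀ a ∈ Y, ∀ b ∈ Y, φ (a ∆ b) = φ a ^^^ φ b) →
    (∀ x ∈ L, ∃ u ∈ Y, φ u = r x) → 2 ^ rkL L t r * X.ncard ≤ Y.ncard := by
  induction L with
  | nil =>
    intro t r Y _ h _ _
    exact (one_mul _).le.trans (Set.ncard_le_ncard h)
  | cons x L ih =>
    intro t r Y hY h hφ hL
    cases t with
    | zero => exact (one_mul _).le.trans (Set.ncard_le_ncard h)
    | succ t =>
      have e : rkL (x :: L) (t + 1) r = force (r x) fun w => ite' (Nat.beq w 0) (rkL L (t + 1) r)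
        (force (Nat.log2 w) fun p => Nat.succ (rkL L t fun y => force (r y) (md p w))) := rfl
      rw [e, force_eq, ite'_eq]
      split_ifs with hw
      · exact ih _ r Y hY h hφ fun y hy => hL y (List.mem_cons_of_mem _ hy)
      rw [beq_iff] at hw
      have hp : (r x).testBit (r x).log2 = true := Nat.testBit_log2 hw
      obtain ⟨u, hu, hux⟩ := hL x List.mem_cons_self
      let Y' : Set (Finset Ω) := {a ∈ Y | (φ a).testBit (r x).log2 = false}
      have hY' : Cl Y' := ⟨⟨hY.emp, by rw [h0 _ hX.emp]; simp⟩, fun a ha b hb =>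
        ⟨hY.sd _ ha.1 _ hb.1, by rw [hφ _ ha.1 _ hb.1, Nat.testBit_xor, ha.2, hb.2]; rfl⟩⟩
      have h1 := ih t (fun y => force (r y) (md (r x).log2 (r x))) Y' hY'
        (fun a ha => ⟨h ha, by rw [h0 _ ha]; simp⟩) (fun a ha b hb => hφ _ ha.1 _ hb.1) fun y hy => by
          obtain ⟨v, hv, hvy⟩ := hL y (List.mem_cons_of_mem _ hy)
          rw [force_eq, md_eq]
          split_ifs with hb
          · exact ⟨v ∆ u, ⟨hY.sd _ hv _ hu, by rw [hφ _ hv _ hu, hvy, hux, Nat.testBit_xor, hb, hp]; rfl⟩,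
              by rw [hφ _ hv _ hu, hvy, hux]⟩
          · exact ⟨v, ⟨hv, by rw [hvy]; simpa using hb⟩, hvy⟩
      have h2 := hY'.two_mul hY (fun _ ha => ha.1) hu fun hu' => by
        have := hu'.2; rw [hux, hp] at this; exact absurd this (by simp)
      rw [force_eq, pow_succ, mul_comm _ 2, mul_assoc]
      omega

/-- The products with the elements of a list, and their mask. -/
noncomputable def ext (row : ℕ) (sp : List ℕ) : (List ℕ → ℕ → Bool) → Bool :=
  List.rec (motive := fun _ => (List ℕ → ℕ → Bool) → Bool) (fun k => k [] 0)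
    (fun s _ ih k => force (dig 8 255 row s) fun p =>
      ih fun l m => k (p :: s :: l) (Nat.lor m (Nat.shiftLeft 1 p))) sp

theorem ext_spec (row : ℕ) (sp : List ℕ) : ∃ (l : List ℕ) (m : ℕ), (∀ k, ext row sp k = k l m) ∧
    (∀ a, a ∈ l ↔ a ∈ sp ∨ ∃ s ∈ sp, dig 8 255 row s = a) ∧
    ∀ a, m.testBit a = true ↔ ∃ s ∈ sp, dig 8 255 row s = a := by
  induction sp with
  | nil => exact ⟨[], 0, fun _ => rfl, by simp, by simp⟩
  | cons s sp ih =>
    obtain ⟨l, m, h1, h2, h3⟩ := ih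
    refine ⟨dig 8 255 row s :: s :: l, m ||| 2 ^ dig 8 255 row s, fun k => ?_, fun a => ?_, fun a => ?_⟩
    · have e : ext row (s :: sp) k = force (dig 8 255 row s) fun p =>
        ext row sp fun l m => k (p :: s :: l) (Nat.lor m (Nat.shiftLeft 1 p)) := rfl
      rw [e, force_eq, h1, ← Nat.one_shiftLeft]; rfl
    · simp only [List.mem_cons, h2, exists_eq_or_imp]; tauto
    · simp only [Nat.testBit_or, Bool.or_eq_true, h3, Nat.testBit_two_pow, decide_eq_true_eq,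
        List.mem_cons, exists_eq_or_imp]; exact or_comm

/-- One step of the loop. -/
noncomputable def step (ch ih : ℕ → Bool) (c C : ℕ) : Bool :=
  and' (ite' (Nat.beq (Nat.land c C) C) (ch (Nat.xor c (Nat.land c C))) true)
    (ih (Nat.xor c (Nat.land c C)))

/-- The loop over the candidates. -/
noncomputable def loop (PR : ℕ → ℕ) (sp : List ℕ) (child : ℕ → List ℕ → ℕ → Bool) (n : ℕ) :
    ℕ → Bool :=
  Nat.rec (motive := fun _ => ℕ → Bool) (fun _ => false)
    (fun _ ih c => ite' (Nat.beq c 0) true (force (Nat.log2 c) fun x =>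
      ext (PR x) sp fun l m => step (child x (x :: l)) ih c (Nat.lor m (Nat.shiftLeft 1 x)))) n

/-- The search through the elementary abelian subgroups. -/
noncomputable def node (PR CM RW : ℕ → ℕ) (rk : List ℕ → ℕ) (T d f : ℕ) :
    ℕ → List ℕ → List ℕ → ℕ → Bool :=
  Nat.rec (motive := fun _ => ℕ → List ℕ → List ℕ → ℕ → Bool) (fun _ _ _ _ => false)
    (fun _ ih j gs sp c => force (rk gs) fun r => or' (Nat.ble T r) (and' (Nat.ble j (Nat.add r d))
      (loop PR sp (fun x l c' => ih (Nat.succ j) (RW x :: gs) l (Nat.land c' (CM x))) 192 c))) f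

section Dfs

variable {G : Type*} [Group G]

/-- A table of involutions. -/
structure Tab (I : ℕ → G) (n : ℕ) (PR CM : ℕ → ℕ) : Prop where
  inj : ∀ a < n, ∀ b < n, I a = I b → a = b
  pr : ∀ a < n, ∀ b < n, dig 8 255 (PR a) b < n → I a * I b = I (dig 8 255 (PR a) b)
  cm : ∀ a < n, ∀ b < n, a ≠ b → I a * I b = I b * I a →
    dig 8 255 (PR a) b < n ∧ (CM a).testBit b = true

/-- The invariant of the search. -/
structure Inv (I : ℕ → G) (n : ℕ) (F H : Subgroup G) (sp : List ℕ) (c : ℕ) : Prop where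
  le : H ≤ F
  sp1 : ∀ s ∈ sp, s < n ∧ I s ∈ H
  sp2 : ∀ t ∈ H, t = 1 ∨ ∃ s ∈ sp, I s = t
  c1 : ∀ a, c.testBit a = true → a < n ∧ I a ∉ H
  c2 : ∀ a < n, I a ∈ F → I a ∉ H → c.testBit a = true

theorem comm_of_sq {F : Subgroup G} (hF : ∀ x ∈ F, x * x = 1) {x y : G} (hx : x ∈ F) (hy : y ∈ F) :
    x * y = y * x := by
  rw [← inv_eq_of_mul_eq_one_right (hF _ (mul_mem hx hy)), mul_inv_rev,
    inv_eq_of_mul_eq_one_right (hF _ hx), inv_eq_of_mul_eq_one_right (hF _ hy)]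

theorem exists_double [Finite G] {F H : Subgroup G} (hF : ∀ x ∈ F, x * x = 1) (hH : H ≤ F) {t : G}
    (ht : t ∈ F) (ht' : t ∉ H) : ∃ K : Subgroup G, (∀ y, y ∈ K ↔ y ∈ H ∨ ∃ h ∈ H, y = t * h) ∧
      Nat.card K = 2 * Nat.card H := by
  have hc := fun x hx y hy => comm_of_sq hF (x := x) (y := y) hx hy
  refine ⟨⟨⟨⟨{y | y ∈ H ∨ ∃ h ∈ H, y = t * h}, ?_⟩, Or.inl (one_mem _)⟩, ?_⟩, fun _ => Iff.rfl, ?_⟩
  · rintro a b (ha | ⟨a, ha, rfl⟩) (hb | ⟨b, hb, rfl⟩)
    · exact Or.inl (mul_mem ha hb)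
    · exact Or.inr ⟨_, mul_mem ha hb, by rw [← mul_assoc, hc a (hH ha) t ht, mul_assoc]⟩
    · exact Or.inr ⟨_, mul_mem ha hb, mul_assoc _ _ _⟩
    · refine Or.inl ?_
      rw [hc t ht a (hH ha), mul_assoc, ← mul_assoc t, hF t ht, one_mul]
      exact mul_mem ha hb
  · rintro a (ha | ⟨a, ha, rfl⟩)
    · exact Or.inl (inv_mem ha)
    · exact Or.inr ⟨a, ha, inv_eq_of_mul_eq_one_right (hF _ (mul_mem ht (hH ha)))⟩
  · have e : {y | y ∈ H ∨ ∃ h ∈ H, y = t * h} = (H : Set G) ∪ (fun h => t * h) '' H := by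
      ext; simp only [Set.mem_ofPred_eq, Set.mem_union, SetLike.mem_coe, Set.mem_image, eq_comm]
    change Nat.card {y | y ∈ H ∨ ∃ h ∈ H, y = t * h} = 2 * Nat.card (H : Set G)
    rw [Nat.card_coe_set_eq, Nat.card_coe_set_eq, e, Set.ncard_union_eq (Set.disjoint_left.2 ?_),
      Set.ncard_image_of_injective _ (mul_right_injective t), two_mul]
    rintro _ h1 ⟨a, ha, rfl⟩
    exact ht' ((mul_mem_cancel_right ha).1 h1)

theorem loop_sound [Finite G] {I : ℕ → G} {n : ℕ} {PR CM : ℕ → ℕ} (tab : Tab I n PR CM)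
    {F H : Subgroup G} (hF : ∀ x ∈ F, x * x = 1) {sp : List ℕ} {child : ℕ → List ℕ → ℕ → Bool}
    {P : Prop} (hch : ∀ x < n, I x ∈ F → ∀ (K : Subgroup G) l c, Nat.card K = 2 * Nat.card H →
      Inv I n F K l (c &&& CM x) → child x l c = true → P)
    {a : ℕ} (ha : a < n) (haF : I a ∈ F) (haH : I a ∉ H) (k : ℕ) :
    ∀ c, Inv I n F H sp c → loop PR sp child k c = true → P := by
  induction k with
  | zero => intro c _ h; exact absurd h Bool.false_ne_true
  | succ k ih =>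
    intro c hi h
    have e : loop PR sp child (k + 1) c = ite' (Nat.beq c 0) true (force (Nat.log2 c) fun x =>
      ext (PR x) sp fun l m => step (child x (x :: l)) (loop PR sp child k) c
        (Nat.lor m (Nat.shiftLeft 1 x))) := rfl
    have hc : c ≠ 0 := fun e => by have := hi.c2 a ha haF haH; simp [e] at this
    have hp : c.testBit c.log2 = true := Nat.testBit_log2 hc
    obtain ⟨hx, hxH⟩ := hi.c1 _ hp
    generalize c.log2 = x at e hp hx hxH
    obtain ⟨l, m, h1, h2, h3⟩ := ext_spec (PR x) sp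
    rw [e, ite'_eq, if_neg (by rwa [beq_iff]), force_eq, h1] at h
    simp only [step, and'_eq_true, ite'_eq, beq_iff] at h
    have hC : ∀ b, (Nat.lor m (Nat.shiftLeft 1 x)).testBit b = true ↔
        (∃ s ∈ sp, dig 8 255 (PR x) s = b) ∨ x = b := fun b => by
      change (m ||| 1 <<< x).testBit b = true ↔ _
      rw [Nat.one_shiftLeft, Nat.testBit_or, Bool.or_eq_true, h3, Nat.testBit_two_pow]; simp
    generalize Nat.lor m (Nat.shiftLeft 1 x) = C at h hC
    have hc' : ∀ b, (Nat.xor c (Nat.land c C)).testBit b = true ↔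
        c.testBit b = true ∧ ¬ C.testBit b = true := fun b => by
      change (c ^^^ (c &&& C)).testBit b = true ↔ _
      rw [Nat.testBit_xor, Nat.testBit_and]
      cases c.testBit b <;> cases C.testBit b <;> simp
    by_cases hxF : I x ∈ F
    · have hpr : ∀ s ∈ sp, dig 8 255 (PR x) s < n ∧ I x * I s = I (dig 8 255 (PR x) s) := fun s hs => by
        have := (tab.cm x hx s (hi.sp1 s hs).1 (fun e => hxH (e ▸ (hi.sp1 s hs).2))
          (comm_of_sq hF hxF (hi.le (hi.sp1 s hs).2))).1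
        exact ⟨this, tab.pr x hx s (hi.sp1 s hs).1 this⟩
      obtain ⟨K, hK, hK'⟩ := exists_double hF hi.le hxF hxH
      have hb : Nat.land c C = C := Nat.eq_of_testBit_eq fun b => by
        change (c &&& C).testBit b = _
        rw [Nat.testBit_and]
        cases hCb : C.testBit b
        · simp
        · rcases (hC b).1 hCb with ⟨s, hs, rfl⟩ | rfl
          · rw [hi.c2 _ (hpr s hs).1 ((hpr s hs).2 ▸ mul_mem hxF (hi.le (hi.sp1 s hs).2))
              fun e => hxH ((mul_mem_cancel_right (hi.sp1 s hs).2).1 ((hpr s hs).2 ▸ e))]; rfl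
          · rw [hp]; rfl
      have hKC : ∀ b < n, I b ∉ H → (I b ∈ K ↔ C.testBit b = true) := fun b hb hbH => by
        rw [hK, hC, or_iff_right hbH]
        constructor
        · rintro ⟨h, hh, e⟩
          rcases hi.sp2 h hh with rfl | ⟨s, hs, rfl⟩
          · exact Or.inr (tab.inj _ hx _ hb (by rw [e, mul_one]))
          · exact Or.inl ⟨s, hs, tab.inj _ (hpr s hs).1 _ hb (by rw [e, (hpr s hs).2])⟩
        · rintro (⟨s, hs, rfl⟩ | rfl)
          · exact ⟨_, (hi.sp1 s hs).2, (hpr s hs).2.symm⟩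
          · exact ⟨1, one_mem _, (mul_one _).symm⟩
      refine hch x hx hxF K (x :: l) _ hK' ⟨fun y hy => ?_, fun s hs => ?_, fun t ht => ?_,
        fun b hb => ?_, fun b hb hbF hbK => ?_⟩ ((if_pos hb).symm.trans h.1)
      · rcases (hK y).1 hy with e | ⟨h, hh, rfl⟩
        exacts [hi.le e, mul_mem hxF (hi.le hh)]
      · rw [hK]
        rcases List.mem_cons.1 hs with rfl | hs
        · exact ⟨hx, Or.inr ⟨1, one_mem _, (mul_one _).symm⟩⟩
        rcases (h2 s).1 hs with hs | ⟨u, hu, rfl⟩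
        · exact ⟨(hi.sp1 s hs).1, Or.inl (hi.sp1 s hs).2⟩
        · exact ⟨(hpr u hu).1, Or.inr ⟨_, (hi.sp1 u hu).2, (hpr u hu).2.symm⟩⟩
      · rcases (hK t).1 ht with e | ⟨h, hh, rfl⟩
        · exact (hi.sp2 t e).imp_right fun ⟨s, hs, e⟩ =>
            ⟨s, List.mem_cons_of_mem _ ((h2 s).2 (Or.inl hs)), e⟩
        rcases hi.sp2 h hh with rfl | ⟨s, hs, rfl⟩
        · exact Or.inr ⟨x, List.mem_cons_self, (mul_one _).symm⟩
        · exact Or.inr ⟨_, List.mem_cons_of_mem _ ((h2 _).2 (Or.inr ⟨s, hs, rfl⟩)), (hpr s hs).2.symm⟩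
      · rw [Nat.testBit_and, Bool.and_eq_true, hc'] at hb
        obtain ⟨h4, h5⟩ := hi.c1 b hb.1.1
        exact ⟨h4, fun e => hb.1.2 ((hKC b h4 h5).1 e)⟩
      · have h5 : I b ∉ H := fun e => hbK ((hK _).2 (Or.inl e))
        have h6 : ¬ C.testBit b = true := fun e => hbK ((hKC b hb h5).2 e)
        rw [Nat.testBit_and, Bool.and_eq_true, hc']
        exact ⟨⟨hi.c2 b hb hbF h5, h6⟩, (tab.cm x hx b hb (fun e => h6 ((hC b).2 (Or.inr e)))
          (comm_of_sq hF hxF hbF)).2⟩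
    · refine ih _ ⟨hi.le, hi.sp1, hi.sp2, fun b hb => hi.c1 b ((hc' b).1 hb).1, fun b hb hbF hbH =>
        (hc' b).2 ⟨hi.c2 b hb hbF hbH, fun e => ?_⟩⟩ h.2
      rcases (hC b).1 e with ⟨s, hs, rfl⟩ | rfl
      · rw [← tab.pr x hx s (hi.sp1 s hs).1 hb] at hbF
        exact hxF ((mul_mem_cancel_right (hi.le (hi.sp1 s hs).2)).1 hbF)
      · exact hxF hbF

theorem node_sound [Finite G] {I : ℕ → G} {n : ℕ} {PR CM RW : ℕ → ℕ} (tab : Tab I n PR CM)
    {F : Subgroup G} (hF : ∀ x ∈ F, x * x = 1) (hI : ∀ t ∈ F, t = 1 ∨ ∃ a < n, I a = t)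
    {rk : List ℕ → ℕ} {P : ℕ → Prop}
    (hP : ∀ gs, (∀ R ∈ gs, ∃ a < n, I a ∈ F ∧ RW a = R) → P (rk gs)) {T d : ℕ}
    (hT : Nat.card F ≤ 2 ^ (T + d)) (f : ℕ) :
    ∀ (j : ℕ) (gs sp : List ℕ) (c : ℕ) (H : Subgroup G), Nat.card H = 2 ^ j → Inv I n F H sp c →
      (∀ R ∈ gs, ∃ a < n, I a ∈ F ∧ RW a = R) → node PR CM RW rk T d f j gs sp c = true →
      ∃ r, P r ∧ Nat.card F ≤ 2 ^ (r + d) := by
  induction f with
  | zero => intro _ _ _ _ _ _ _ _ h; exact absurd h Bool.false_ne_true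
  | succ f ih =>
    intro j gs sp c H hH hi hgs h
    have e : node PR CM RW rk T d (f + 1) j gs sp c = force (rk gs) fun r => or' (Nat.ble T r)
      (and' (Nat.ble j (Nat.add r d)) (loop PR sp (fun x l c' =>
        node PR CM RW rk T d f (j + 1) (RW x :: gs) l (Nat.land c' (CM x))) 192 c)) := rfl
    rw [e, force_eq, or'_eq_true, and'_eq_true, ble_iff, ble_iff] at h
    rcases h with h | ⟨h1, h2⟩
    · exact ⟨_, hP gs hgs, hT.trans (Nat.pow_le_pow_right (by norm_num) (by omega))⟩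
    by_cases hle : F ≤ H
    · rw [← le_antisymm hi.le hle, hH]
      exact ⟨_, hP gs hgs, Nat.pow_le_pow_right (by norm_num) h1⟩
    obtain ⟨t, ht, ht'⟩ := SetLike.not_le_iff_exists.1 hle
    obtain ⟨a, ha, rfl⟩ := (hI t ht).resolve_left fun e => ht' (e ▸ one_mem _)
    exact loop_sound tab hF (fun x hx hxF K l c' hK hi' h => ih _ _ _ _ K (by rw [hK, hH, pow_succ'])
      hi' (List.forall_mem_cons.2 ⟨⟨x, hx, hxF, rfl⟩, hgs⟩) h) ha ht ht' 192 c hi h2

/-- The search below the involution with the largest number. -/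
noncomputable def root (PR CM RW : ℕ → ℕ) (rk : List ℕ → ℕ) (T d c a : ℕ) : Bool :=
  node PR CM RW rk T d 6 1 [RW a] [a] (Nat.land (Nat.mod c (Nat.shiftLeft 1 a)) (CM a))

theorem root_sound [Finite G] {I : ℕ → G} {n : ℕ} {PR CM RW : ℕ → ℕ} (tab : Tab I n PR CM)
    (h1 : ∀ a < n, I a ≠ 1) {F : Subgroup G} (hF : ∀ x ∈ F, x * x = 1)
    (hI : ∀ t ∈ F, t = 1 ∨ ∃ a < n, I a = t) {rk : List ℕ → ℕ} {P : ℕ → Prop}
    (hP : ∀ gs, (∀ R ∈ gs, ∃ a < n, I a ∈ F ∧ RW a = R) → P (rk gs)) {T d : ℕ}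
    (hT : Nat.card F ≤ 2 ^ (T + d)) {c a : ℕ} (ha : a < n) (haF : I a ∈ F)
    (hm : ∀ b < n, I b ∈ F → b ≤ a) (hc : ∀ b < n, I b ∈ F → c.testBit b = true)
    (h : root PR CM RW rk T d c a = true) : ∃ r, P r ∧ Nat.card F ≤ 2 ^ (r + d) := by
  obtain ⟨K, hK, hK'⟩ := exists_double hF bot_le haF (h1 a ha)
  have hK2 : ∀ y, y ∈ K ↔ y = 1 ∨ y = I a := fun y => by simp [hK]
  have hb : ∀ b, (Nat.land (Nat.mod c (Nat.shiftLeft 1 a)) (CM a)).testBit b = true ↔
      (b < a ∧ c.testBit b = true) ∧ (CM a).testBit b = true := fun b => by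
    change (c % (1 <<< a) &&& CM a).testBit b = true ↔ _
    rw [Nat.one_shiftLeft, Nat.testBit_and, Nat.testBit_mod_two_pow]; simp
  refine node_sound tab hF hI hP hT 6 1 _ _ _ K (by simpa using hK') ⟨fun y hy => ?_, fun s hs => ?_,
    fun t ht => ?_, fun b h => ?_, fun b h2 h3 h4 => ?_⟩
    (List.forall_mem_singleton.2 ⟨a, ha, haF, rfl⟩) h
  · rcases (hK2 y).1 hy with rfl | rfl
    exacts [one_mem _, haF]
  · rw [List.mem_singleton.1 hs]; exact ⟨ha, (hK2 _).2 (Or.inr rfl)⟩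
  · exact ((hK2 t).1 ht).imp_right fun e => ⟨a, List.mem_singleton_self _, e.symm⟩
  · have h2 := ((hb b).1 h).1.1
    exact ⟨h2.trans ha, fun e => ((hK2 _).1 e).elim (h1 b (h2.trans ha))
      fun e => h2.ne (tab.inj _ (h2.trans ha) _ ha e)⟩
  · have h5 : a ≠ b := fun e => h4 ((hK2 _).2 (Or.inr (e ▸ rfl)))
    exact (hb b).2 ⟨⟨lt_of_le_of_ne (hm b h2 h3) h5.symm, hc b h2 h3⟩,
      (tab.cm a ha b h2 h5 (comm_of_sq hF haF h3)).2⟩

end Dfs

end Cfsg.Agent.Mon.RkM
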