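import Cfsg.Agent.Mon.CuRkA
import Cfsg.Agent.Mon.CuRkT
import Cfsg.Agent.Spor.M24Chain
import Cfsg.Agent.Spor.M24Enum

/-! A Sylow 2-subgroup of `M24`, its involutions and their action on the Golay code. -/

set_option autoImplicit false

namespace Cfsg.Agent.Mon.RkM

open Cfsg Cfsg.Agent.Comp Cfsg.Agent.Spor Cfsg.Agent.Spor.M24C
open scoped Pointwise symmDiff

/-- An entry of a table of codes. -/
noncomputable def cd (T i : ℕ) : ℕ := dig 120 1329227995784915872903807060280344575 T i
/-- Left multiplication. -/
noncomputable def nx (i : ℕ) : ℕ := dig 10 1023 NX i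
/-- A row of the product table. -/
noncomputable def PR (a : ℕ) : ℕ := dig 1528 (Nat.sub (Nat.shiftLeft 1 1528) 1) PT a
/-- A row of the commuting graph. -/
noncomputable def CM (a : ℕ) : ℕ := dig 191 (Nat.sub (Nat.shiftLeft 1 191) 1) CT a
/-- A row of the action table. -/
noncomputable def RW (a : ℕ) : ℕ := dig 1608 (Nat.sub (Nat.shiftLeft 1 1608) 1) RT a

theorem chk0 : allLT 4 (fun g => force (cd GN g) fun c => and' (okM c) (and' (Nat.beq (mulC c c) oneC)
    (and' (Nat.beq (imgC c 5279) 5279) (fixF 3 c tr0)))) = true := by decide +kernel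

theorem chk1 : allB 1024 (fun i => force (cd TB i) fun c => allLT 4 fun g =>
    force (cd GN g) fun a => Nat.beq (mulC a c) (cd TB (nx (Nat.add (Nat.mul 4 i) g)))) = true := by
  decide +kernel

theorem chk2 : and' (Nat.beq (cd TB 0) oneC) (allB 1024 fun i => or' (Nat.beq i 0)
    (force (dig 12 4095 PA i) fun p => and' (Nat.blt p (Nat.mul 4 i)) (Nat.beq (nx p) i))) = true := by
  decide +kernel

theorem chk3 : allB 1023 (fun j =>
    Nat.blt (cd TB (dig 10 1023 OD j)) (cd TB (dig 10 1023 OD (Nat.succ j)))) = true := by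
  decide +kernel

theorem chk4 : allB 1024 (fun i => force (cd TB i) fun c => or' (not' (Nat.beq (mulC c c) oneC))
    (or' (Nat.beq c oneC) (force (dig 8 255 II i) fun a =>
      and' (Nat.blt a 191) (Nat.beq (cd IV a) c)))) = true := by decide +kernel

theorem chk5 : allB 191 (fun a => force (cd IV a) fun c => force (PR a) fun r => force (CM a) fun m =>
    and' (okM c) (and' (not' (Nat.beq c oneC)) (allB 191 fun b => force (cd IV b) fun e =>
      and' (or' (Nat.beq a b) (not' (Nat.beq c e))) (force (dig 8 255 r b) fun p =>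
        ite' (Nat.blt p 191) (and' (Nat.beq (mulC c e) (cd IV p)) (tb m b))
          (or' (Nat.beq a b) (anyLT 24 fun i => not' (Nat.beq (dg c (dg e i)) (dg e (dg c i))))))))) =
    true := by decide +kernel

theorem chk6 : allB 191 (fun a => force (cd IV a) fun c => force (RW a) fun R =>
    and' (or' (tb cT a) (not' (Nat.beq (imgC c 8077824) 8077824))) (allLT 64 fun i =>
      and' (Nat.beq (dig 12 4095 R i) (Nat.land (force (enc i) (imgC c)) 4095))
        (Nat.beq (dig 12 4095 R (Nat.add 64 i))
          (Nat.land (force (enc (Nat.shiftLeft i 6)) (imgC c)) 4095)))) = true := by decide +kernel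

/-- The action of an involution on messages. -/
noncomputable def act (R u : ℕ) : ℕ :=
  Nat.xor (dig 12 4095 R (Nat.land u 63)) (dig 12 4095 R (Nat.add 64 (Nat.shiftRight u 6)))

/-- A commutator. -/
noncomputable def cv (R i : ℕ) : ℕ := force (dig 12 4095 R i) fun u => Nat.xor u (act R u)

/-- The commutators. -/
noncomputable def vecs (gs : List ℕ) : List ℕ :=
  List.rec (motive := fun _ => List ℕ) []
    (fun R _ ih => cv R 128 :: cv R 129 :: cv R 130 :: cv R 131 :: cv R 132 :: cv R 133 :: ih) gs

/-- All commutators of a word with the generators. -/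
noncomputable def fold (f : ℕ → ℕ) (gs : List ℕ) (u : ℕ) : ℕ :=
  List.rec (motive := fun _ => ℕ) 0
    (fun R _ ih => Nat.xor (Nat.shiftLeft ih 12) (force (Nat.xor u (act R u)) f)) gs

/-- The intersection with an octad, modulo the octad. -/
noncomputable def oc (p O u : ℕ) : ℕ := force (Nat.land (enc u) O) (md p O)

/-- The search over all classes. -/
noncomputable def run (rk : List ℕ → ℕ) (T d c : ℕ) : Bool :=
  allB 191 fun a => or' (not' (and' (Nat.beq (dig 8 255 TP a) a) (tb c a))) (root PR CM RW rk T d c a)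

theorem run0 : run (fun gs => rkL (vecs gs) 4 fun x => force x (fold (md 0 4095) gs))
    4 2 (2 ^ 191 - 1) = true := by decide +kernel

theorem runO : run (fun gs => rkL (vecs gs) 5 fun x => force x fun u =>
    Nat.xor (fold (md 0 4095) gs u) (Nat.shiftLeft (oc 0 5279 u) 84))
    5 1 (2 ^ 191 - 1) = true := by decide +kernel

theorem runT : run (fun gs => rkL (vecs gs) 6 fun x => force x fun u =>
    Nat.xor (oc 0 5279 u) (Nat.xor (oc 9 8077824 u) (oc 5 8694112 u))) 6 0 cT = true := by
  decide +kernel

theorem runD : run (fun gs => rkL (vecs gs) 6 fun x => force x (md 0 4095))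
    6 0 (2 ^ 191 - 1) = true := by decide +kernel

theorem runK : run (fun gs => rkL [1, 2, 4, 8, 16, 32, 64, 128, 256, 512, 1024, 2048] 5
    (fold (fun u => u) gs)) 5 1 (2 ^ 191 - 1) = true := by decide +kernel

theorem chk7 : allB 191 (fun a => force (dig 8 255 TP a) fun b => or' (Nat.beq b a)
    (and' (Nat.blt a b) (and' (Nat.blt b 191) (force (cd TB (dig 10 1023 KJ a)) fun k =>
      force (cd IV a) fun c => Nat.beq (conjC k c) (cd IV b))))) = true := by decide +kernel

theorem chk8 : cntPow 8 (fun a => and' (Nat.blt a 191) (Nat.ble 126 (force (CM a) (pop 191)))) = 7 := by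
  decide +kernel

end Cfsg.Agent.Mon.RkM
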