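import Cfsg.Agent.Mon.CxA
import Cfsg.Agent.CO2T.TC
import Cfsg.Agent.CO2T.SurjD
import Cfsg.Agent.Spor.Co0Simple
import Cfsg.Agent.Grp.Clifford

/-! Local data in the permutation model of `Co₂` for the splitting of extensions. -/

set_option autoImplicit false
set_option maxRecDepth 100000

namespace Cfsg.Agent.Mon.Cx

open Subgroup Cfsg.Agent.TT Cfsg.Agent.Comp.BN Cfsg.Agent.XSC Cfsg.Agent.CO2T

/-- The amalgam of three parabolic subgroups presents `Co₂`. -/
theorem gr_all {G : Type*} [Group G] [Finite G] {x : ℕ → G × MM}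
    (h : St x m val II [27197390, M2, M1] []) (out : ∀ k, 25 ≤ k → x k = 1) : Gr (gen x) := by
  have o1 := stepS (QU_k h) out TU.done TU_x TU_c
  have o := QG_k ⟨o1.toOv, ⟨o1.gr.1, o1.gr.2.2⟩, trivial⟩
  have c := TG_c
  simp only [band_eq, allL_eq, Nat.blt_eq, Nat.beq_eq] at c
  obtain ⟨c1, c2, c3⟩ := c
  have pt : ∀ W, run (opP 12 25 tabs) 2042 W = (ev x W).2.1 2042 := fun W => by
    rw [o.snd_ev]
    exact run_opP (fun k hk => tabOK k (hk.trans (by norm_num))) hlt W (by norm_num)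
  have hx := o.sat TG_x
  have le : gen x ≤ gen (subT x wsTG) := gen_le fun k => by
    by_cases hk : k < 25
    · exact genOn_le_gen_subT (S := ones 25) out (by decide +kernel)
        (mem_genOn (by simpa [testBit_ones] using hk))
    · rw [out k (by omega)]; exact one_mem _
  classical
  refine (Gr.step_count TG.done hx (H := genW x (TG.doneC.loops.map (subst wsTG)))
    ((o.grS (S := 27197407) (by decide)).mono (genW_le ?_)) (fun W hW => ?_) (fun g => g.1 2042)
    (fun g γ hγ => ?_) (LG.map (run (opP 12 25 tabs) 2042)).toFinset (fun a ha => ?_) ?_).mono le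
  · simpa only [List.forall_mem_map] using fun W hW => ev_mem_genOn (c3 W hW).1
  · rw [← ev_subst]; exact mem_genW (List.mem_map_of_mem hW)
  · refine congrArg g.1 (genW_le (H := (MulAction.stabilizer MM 2042).comap (MonoidHom.snd G MM))
      (List.forall_mem_map.2 fun W hW => ?_) hγ)
    exact (pt _).symm.trans (c3 W hW).2
  · obtain ⟨W, -, rfl⟩ := List.mem_map.1 (List.mem_toFinset.1 ha)
    exact ⟨_, le (ev_mem_gen x W), (pt W).symm⟩
  · rwa [List.toFinset_card_of_nodup (incC_spec c1).2, List.length_map]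

/-- the letters of `E` -/
def SE : ℕ := 4097920
def SB : ℕ := 4194286
def S12 : ℕ := 4194287
def SD2 : ℕ := 12582894
def SD1 : ℕ := 20971502
def SP : ℕ := 29360110

/-- the group generated by a set of letters -/
noncomputable abbrev gg (S : ℕ) : Subgroup MM := genOn m S

theorem sub_of {S T : ℕ} (h : Nat.land S T = S) {k : ℕ} (hk : S.testBit k = true) :
    T.testBit k = true := by
  rw [← h, Nat.land_eq, Nat.testBit_and, Bool.and_eq_true] at hk
  exact hk.2

theorem gg_le {S T : ℕ} (h : Nat.land S T = S) : gg S ≤ gg T :=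
  genOn_le fun _ hk => mem_genOn (sub_of h hk)

theorem m_inv (k : ℕ) : (m k)⁻¹ = m k := inv_eq_of_mul_eq_one_left (m_sq k)

theorem m_pair (k l : ℕ) : (m k * m l) ^ 24 = 1 := by
  have c : allN (fun k => allN (fun l => eqC val (powW [k, l] 24) []) 25) 25 = true := by
    decide +kernel
  by_cases hk : k < 25
  · by_cases hl : l < 25
    · simpa [ev_powW] using orc.eq ((allN_eq _ _).1 ((allN_eq _ _).1 c k hk) l hl)
    · rw [m_out (k := l) (by omega), mul_one, show 24 = 2 * 12 from rfl, pow_mul, pow_two, m_sq, one_pow]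
  · rw [m_out (k := k) (by omega), one_mul, show 24 = 2 * 12 from rfl, pow_mul, pow_two, m_sq, one_pow]

/-- the elements of `E` -/
noncomputable def fe (b : ℕ) : MM := ev m (bw El b)

theorem El_comm {k j : ℕ} (hk : k ∈ El) (hj : j ∈ El) : m k * m j = m j * m k := by
  have := (allL_eq _ _).1 ((allL_eq _ _).1 e1 k hk) j hj
  simp only [eqOn, band_eq] at this
  simpa using orc.eq this.2

theorem fe_add (a b : ℕ) : fe (a ^^^ b) = fe a * fe b :=
  (ev_bw_xor (x := m) (z := 1) (one_mul 1) (by simp) (fun k _ => Or.inl (m_sq k))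
    (fun k hk j hj => Or.inl (El_comm hk hj)) a b).elim id fun e => e.trans (mul_one _)

theorem fe_zero : fe 0 = 1 := by rw [fe, bw_zero]; rfl

theorem fe_mem (b : ℕ) : fe b ∈ gg SE := ev_mem_of fun k hk =>
  mem_genOn ((show ∀ k ∈ El, SE.testBit k = true by decide) k (bw_mem hk))

theorem fe_inj {a b : ℕ} (ha : a < 1024) (hb : b < 1024) (e : fe a = fe b) : a = b := by
  have h := Nat.xor_lt_two_pow (n := 10) ha hb
  rcases (bor_eq _ _).1 ((allN_eq _ _).1 e3 _ h) with c | c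
  · exact Nat.eq_of_xor_eq_zero (Nat.eq_of_beq_eq_true c)
  · exact absurd (by rw [← fe, fe_add, e, ← fe_add, Nat.xor_self, fe_zero]; rfl) (orc.ne c)

theorem SE_mem {k : ℕ} (h : SE.testBit k = true) : ∃ i < 10, nth 0 El i = k ∧ fe (2 ^ i) = m k := by
  have c : maskAll SE 25 (fun k => anyL (fun i => band (Nat.beq (nth 0 El i) k)
      (eqC val (bw El (Nat.pow 2 i)) [k])) [0, 1, 2, 3, 4, 5, 6, 7, 8, 9]) = true := by
    decide +kernel
  obtain ⟨i, hi, e⟩ := (anyL_eq _ _).1 (maskAll_spec c h)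
  rw [band_eq] at e
  exact ⟨i, by simp at hi; omega, Nat.eq_of_beq_eq_true e.1, by simpa [fe] using orc.eq e.2⟩

theorem mem_E {g : MM} (h : g ∈ gg SE) : ∃ b < 1024, fe b = g := by
  induction h using closure_induction with
  | mem g hg =>
    obtain ⟨k, hk, rfl⟩ := hg
    obtain ⟨i, hi, -, e⟩ := SE_mem hk
    exact ⟨_, Nat.pow_lt_pow_right (n := 10) (by norm_num) hi, e⟩
  | one => exact ⟨0, by norm_num, fe_zero⟩
  | mul a b _ _ ha hb =>
    obtain ⟨a, a1, rfl⟩ := ha
    obtain ⟨b, b1, rfl⟩ := hb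
    exact ⟨_, Nat.xor_lt_two_pow (n := 10) a1 b1, fe_add a b⟩
  | inv a _ ha =>
    obtain ⟨a, a1, rfl⟩ := ha
    exact ⟨a, a1, eq_inv_of_mul_eq_one_left (by rw [← fe_add, Nat.xor_self, fe_zero])⟩

theorem card_E : Nat.card (gg SE) = 1024 := by
  rw [← Nat.card_eq_of_bijective (fun b : Fin 1024 => (⟨fe b, fe_mem b⟩ : gg SE))
    ⟨fun a b e => Fin.ext (fe_inj a.2 b.2 (congrArg Subtype.val e)), fun g =>
      let ⟨b, h, e⟩ := mem_E g.2; ⟨⟨b, h⟩, Subtype.ext e⟩⟩]
  simp

theorem cj_E {k i : ℕ} (hk : M2.testBit k = true) (hi : i < 10) :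
    m k * m (nth 0 El i) * m k = fe (ptE [k] (2 ^ i)) := by
  have c : maskAll M2 25 (fun k => allN (fun i => eqC val [k, nth 0 El i, k]
      (bw El (ptE [k] (Nat.pow 2 i)))) 10) = true := by decide +kernel
  simpa [mul_assoc, fe] using orc.eq ((allN_eq _ _).1 (maskAll_spec c hk) i hi)

theorem norm_E : gg M2 ≤ normalizer (gg SE : Set MM) := genOn_le fun k hk =>
  mem_normalizer_fintype fun g hg => by
    have : gg SE ≤ (gg SE).comap (MulAut.conj (m k)).toMonoidHom := genOn_le fun l hl => by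
      obtain ⟨i, hi, rfl, -⟩ := SE_mem hl
      change m k * _ * (m k)⁻¹ ∈ gg SE
      rw [m_inv, cj_E hk hi]
      exact fe_mem _
    exact this hg

theorem hn_E {S : ℕ} (h : Nat.land S M2 = S) : ∀ a ∈ gg S, ∀ o ∈ gg SE, a⁻¹ * o * a ∈ gg SE :=
  fun a ha o ho => by
    simpa using (mem_normalizer_iff.1 (inv_mem (norm_E (gg_le h ha))) o).1 ho

theorem card_MM : Nat.card MM = 42305421312000 := Spor.ModelCo2.G_card

theorem simple_MM : IsSimpleGroup MM :=
  haveI := Spor.Leech.simple_co2 Spor.Leech.sqNorm_leechU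
  Spor.ModelCo2.equiv0.symm.isSimpleGroup

theorem card_cent {u : MM} (h1 : u ≠ 1) (h2 : u * u = 1) :
    Nat.card (centralizer ({u} : Set MM)) ∣ 2 ^ 18 * 3 ^ 4 * 5 * 7 := by
  let e := Spor.ModelCo2.equiv
  have a : Nat.card (centralizer ({u} : Set MM)) = Nat.card (centralizer {e.symm u}) :=
    Nat.card_congr (e.symm.toEquiv.subtypeEquiv fun g => by
      rw [mem_centralizer_singleton_iff, mem_centralizer_singleton_iff]
      change _ ↔ e.symm g * e.symm u = e.symm u * e.symm g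
      rw [← map_mul, ← map_mul, e.symm.injective.eq_iff])
  rw [a]
  rcases Sj.cls (e.symm u) (by
    rw [MulEquiv.orderOf_eq]; exact orderOf_eq_prime (by rwa [pow_two]) h1) with c | c | c <;>
    rw [Sj.card_cent_conj c]
  · rw [Sj.cA]; norm_num
  · rw [Sj.cB]; norm_num
  · rw [Sj.cC]; norm_num

theorem M1_le : gg M1 ≤ centralizer {m 15} := genOn_le fun k hk => by
  have c : maskAll M1 25 (fun k => eqC val [k, 15] [15, k]) = true := by decide +kernel
  rw [mem_centralizer_singleton_iff]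
  simpa using orc.eq (maskAll_spec c hk)

theorem card_M1 : Nat.card (gg M1) ∣ 2 ^ 18 * 3 ^ 4 * 5 * 7 :=
  (card_dvd_of_le M1_le).trans (card_cent (by
    simpa using orc.ne (U := [15]) (V := []) (by decide +kernel)) (m_sq 15))

theorem not_dvd_M2 {p n : ℕ} [Fact p.Prime] (h1 : ¬ 1024 ≡ 1 [MOD p])
    (h2 : ¬ p ^ n ∣ 2 ^ 18 * 3 ^ 4 * 5 * 7) : ¬ p ^ n ∣ Nat.card (gg M2) := fun h => by
  obtain ⟨P, hP⟩ := Sylow.exists_subgroup_card_pow_prime p h
  let φ : P →* MulAut (gg SE) := (gg SE).normalizerMonoidHom.comp ((inclusion norm_E).comp P.subtype)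
  let _ : MulAction P (gg SE) := MulAction.compHom _ φ
  have c := (IsPGroup.of_card hP).card_modEq_card_fixedPoints (gg SE)
  rw [card_E] at c
  have : ∃ u ∈ MulAction.fixedPoints P (gg SE), u ≠ 1 := by
    by_contra e
    push Not at e
    refine h1 (c.trans ?_)
    rw [Nat.card_eq_one_iff_unique.2 ⟨⟨fun a b => Subtype.ext ((e _ a.2).trans (e _ b.2).symm)⟩,
      ⟨⟨1, fun g => map_one (φ g)⟩⟩⟩]
  obtain ⟨u, u1, u2⟩ := this
  obtain ⟨b, -, hb⟩ := mem_E u.2
  refine h2 (Dvd.dvd.trans ?_ (card_cent (u := u) (fun e => u2 (Subtype.ext e))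
    (by rw [← hb, ← fe_add, Nat.xor_self, fe_zero])))
  rw [← hP, ← card_map_of_injective (gg M2).subtype_injective]
  refine card_dvd_of_le ?_
  rintro _ ⟨g, hg, rfl⟩
  exact mem_centralizer_singleton_iff.2
    (mul_inv_eq_iff_eq_mul.1 (congrArg Subtype.val (u1 ⟨g, hg⟩)))

noncomputable def cosT : List (List (List ℕ × List ℕ)) := [[], [([], [1]), ([24], [6]), ([20, 24], [6])], [([], [2]), ([24], [2]), ([20, 24], [2])], [([], [3]), ([24], [3]), ([20, 24], [1])], [], [([], [5]), ([24], [21, 20, 16]), ([20, 24], [21, 20, 16])], [([], [6]), ([24], [1]), ([20, 24], [3])], [([], [7]), ([24], [7]), ([20, 24], [7])], [([], [8]), ([24], [11, 9, 8]), ([20, 24], [11, 9, 8])], [([], [9]), ([24], [9]), ([20, 24], [9])], [([], [10]), ([24], [15, 13, 10]), ([20, 24], [15, 13, 10])], [([], [11]), ([24], [11]), ([20, 24], [8])], [([], [12]), ([24], [13, 12, 7]), ([20, 24], [15, 12, 10])], [([], [13]), ([24], [13]), ([20, 24], [10])], [([], [14]), ([24], [15, 14,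 9]), ([20, 24], [14])], [([], [15]), ([24], [15]), ([20, 24], [15])], [([], [16]), ([24], [16]), ([20, 24], [5])], [([], [17]), ([24], [3, 1]), ([20, 24], [3, 1])], [([], [18]), ([24], [2, 3, 1, 2]), ([20, 24], [2, 3, 1, 2])], [([], [19]), ([24], [6, 2, 3, 1, 2, 6]), ([20, 24], [6, 2, 3, 1, 2, 6])], [([], [20]), ([20, 24], []), ([24], [])], [([], [21]), ([20, 24], [16, 5]), ([24], [16, 5])], [], [([], [23]), ([24], [1, 2, 6, 1, 2, 1, 23]), ([20, 24], [19, 3, 1, 23])], [([24], []), ([], []), ([20, 24], [20])]]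

noncomputable def cosC (S K : ℕ) : Bool := maskAll S 25 fun k => all2 (fun w p =>
  band (band (anyL (eqL p.1) [[], [24], [20, 24]]) (onC K p.2))
    (eqC val (k :: w) (appendL p.1 p.2))) [[], [24], [20, 24]] (nth [] cosT k)

theorem idx3 {S K : ℕ} (c : cosC S K = true) :
    (gg K).relIndex (gg S) ≠ 0 ∧ (gg K).relIndex (gg S) ≤ 3 := by
  refine relIndex_le (by rintro _ ⟨k, hk, rfl⟩; exact ⟨k, hk, (m_inv k).symm⟩)
    ([[], [24], [20, 24]].map (ev m)) (by simp) ?_
  rintro _ ⟨k, hk, rfl⟩ _ hw'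
  obtain ⟨w, hw, rfl⟩ := List.mem_map.1 hw'
  obtain ⟨p, hp⟩ := all2_spec (maskAll_spec c hk) w hw
  simp only [band_eq, anyL_eq] at hp
  obtain ⟨⟨⟨u, u1, u2⟩, p2⟩, p3⟩ := hp
  refine ⟨_, List.mem_map_of_mem u1, ?_⟩
  rw [← ev_cons, orc.eq p3, ev_app, eqL_spec u2, inv_mul_cancel_left]
  exact ev_mem_genOn p2

theorem idx_P : (gg SD2).relIndex (gg SP) ≠ 0 ∧ (gg SD2).relIndex (gg SP) ≤ 3 :=
  idx3 (by decide +kernel)

theorem idx_D : (gg SB).relIndex (gg SD1) ≠ 0 ∧ (gg SB).relIndex (gg SD1) ≤ 3 :=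
  idx3 (by decide +kernel)

/-- The parity of the common bits. -/
noncomputable def pr (n : ℕ) : ℕ → ℕ → Bool :=
  Nat.rec (motive := fun _ => ℕ → ℕ → Bool) (fun _ _ => false)
    (fun _ ih a b => xor (band (tb a 0) (tb b 0)) (ih (Nat.shiftRight a 1) (Nat.shiftRight b 1))) n

/-- The letter `k` moves the character `a` to `b`. -/
noncomputable def rel (k a b : ℕ) : Bool :=
  allN (fun i => Bool.rec (motive := fun _ => Bool) (bif' (tb b i) false true) (tb b i)
    (pr 10 a (ptE [k] (Nat.pow 2 i)))) 10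

noncomputable def pT : ℕ := nat_lit 0x8ecff048f9a35d2f3fe143c37d64bbff81297fc092ab41bc5869574a3fd808d5a75e623f4146b6997833fc81033a05ead349bc95e857992d5ef507ae5e7f07eb51d1bd69e6d66f4dbf782a8beb15536a1796c7fad38faa5e2275dbc3a6ad7914d46f3d3f182864beb00883d6a28f6814f1de8a61cdfba621a979a8ee4529e6c5e5ccd1ba6e5516a17356f4766f5e1bec8b2539b978e8ecc527e685e19dc8b26176028e08a2d28f445ab8bae120d79009ba4a2d14a615ebeccbba0598179447a2d37ca45a843a8b23018d7934f081143245a83ca8b20f99174e4ee81211f2da69fb904b934b6901116c98072da3a7b3bd14fb42ad5f585499de5d357d4146dfaa2876e16d1cfd98232bd11240acb6432f3054bb42da2fc65b4cef9e2adc496c837e40a587ad049c7942962eb6f43de389167afbd5df8a2a0bf0c526be10aa2ca5b21af557a95e6810d3f9da33f9e152504d78cee78139e79da5fb9b154b7342a5b24ed5c219dabe794154e85d79cd0a6f527c9827add3b003041798b8cec9a81f5d38c37bd3371e24c80eef386185d37773b4d2fa764477cec8f1c3820e43fbc3af0a2a85bced4c929dab18b3b41087579291def4283e5e75509b4fe8fd79fb1e6e90c74daab87bba458e179b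11fef39814da127741412de804b3bc811e43d5d266f10428ad36a321b6f2cd75829136e14b00c9747518ef51ac4d92beed05648d5782cb9810b9b38a8dc67bd668d97a311aee87e305eb3869ba09013691ab68135bffda10b3e14d7b7f6ac017ed3576f8244a1fb007e7428da27ed0701fda6b2dfb47f4ff6abff86f5cff55e23f3114f6da004978fec8794fda476c9043665e286afcef0ad678280f7fb4e56542a62fd6e895938934ff7bc76ff974b2bfed13761811c0bfb40583f6a82d7050455d829ff5e14f636569e5d644010405eac489bd39d780873d585323ab8a71b54153f6aa2af7e4ad5e5598211ab105482e56835aa813eba6891a74e125f92d79b6ab812004d5e3474b1457e94242a7cad31e4e5e68895ba62d4804ada881255a1092a741140c680287ea6811c9f25a5a699047a63e2aac112c859885eb6a04b227e3429dbc5852194b823d71fbcdae2a28e5e12c90b8c5e92dc4b20b52008aca28147f868a57c64b4a2e1e2ad2c24492cc25a8ce8d024a5180ac4c185441865e972850559d080ad3c26e999225ab628102115000476936f263235e826fe1258dfe2ab9be45145245e83a41bc965476a92dd81509bb8209af414094c769b2dc808ef205d19249bc536e00af4da809572e5d1d063b55b98768c248ed31b295e59e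eb14c2ca1782db98502b2a5eae3a3b57f5ca246c946f2cb2d5e99653ba12ec008eb776f4c3fada75115b009d7e28f3156d128ec5e08ebb1540eb80872d581321ab829f75504783b97ae376ef5239ada11eb1148bba5782a8d6d192e65e6deae150b1ab6468d38094ce15e25775b41b554246e73ef470aad931aa414a8b8d784cbd6c938e55d2a341040be80000ece81299fc5a95118b4d056d7811162d5df6c0a6cedb148ddb429c8262d1c36b8a6c2d41513d7d7a87ae6f5d59c5a092bbbcf75a029c9ca811ed4c5a4ec78b42bd9e291eb245037505d27ecb12575457a15ab6e89393828aec41242631689cb0c48e72c5935ac11406831641e4bef5e1f75aac90eb21dd3e288713ad07c775a30d23bc3fd34288c23ad21b4b8a5d2ceb5004dd64b84a6f34789828b92bba04a4174628bad469468a55c6eb22d99d69ce4eef0aa985e8f539bc56d1429d94f6f533438a60d3fbd0126974d9bbad55a9c5e90931ba0801d68825def313fa5a77e79047736969e09e451fb3f8243e14b4d74f80a75252d3481a5a5ed7dbc7e2ed7afae52d5db9a5804973bd552f174535b6f247368a25e6902272c978989a44919378212b74b2414d80454998085eb75e64fb4b50d2d978089881008b05e14969bc1a0296860b9ef549f15a8963e1238cb00a45ba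6f1832f825a2ebba215c17af820ad5971b892c2edbc04cc5698a8cc51b119090f631146a2c569998b055e37b5d11062b413de97a86bcef1bf14090e62b1427498084dbd6f13d2382837a2b248c4a2a119081273785e4d8a2b222805645d616f294c75eb0587bc5c31979c162ee8e52c0aa3989bca94780a24636f5951b82052541246cdf68d78c810db97d908181bc5b315784f93048711582c059dbc6f450041d4bed0b6c7dab476fb438b31792f918513f2389163afb4a361f6abc90c5425210a6f0afb21881f688e856e9930d813961e1488c3e248a166d2210f8132a1b14f143424e6266c9c01cda112d9b446c2a2a58e66d5410c5e1e9d9b4f1c357a5283052d54cda7e879b4bc1b36a3c4e6d5b7040aabe0d0526fb3696e7e6d472acda6a7b9b52441d7ababe6d48d2cdaa60b9b0080336a8c7e81188fd825adfe151534f686250ef37ea45e315fb1544a957b00516f5ae13d9185f4121ba9974297c8082aa05e2d1c7b5042857a0489ed2b0f68a2ede904a13d008bc7a45286f40a17767b455aa174ba57ee91eaa5e907a7b5372ad785fb9ed14123d9260a7b22300f6913d46d4d56b5e1ddbe143db636a5f146d3ceef820edbb14245636a7c246d4d2db8a24ad1b00a4e36915748112198da116d9bd7ada5743e8c6d3eee581279ae1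433390091fb26e8cac8d9282cbbc18d817858b3ef164e3825d7b1b4b8b4a249abc6c8d728da276c3bc17b4028ef7705074dd827491cb4f43be281e172d126ec0a7921cb53a579698e272d4d0db80056dcb43cb7d79ea74c522ce90a0f1bbbd732f968646a808cd4e5a84c7cb236b9e249d6b81060d05e7e1cb124db9429507185166e38a31dafbcda63964cf70c494ae10a4b5c1140b03968a38bef443125eb159e1432b556a8a886f0e0cc0abcd9b141bd556a0589ef337165d24a25ba31c5d7a8fe2ad39795590ea2bba2bc41782b8d6f15d455a5258e142d31e28fa4aad0b2c7827018b145ab142a1c7aad510a5590d3aab22e30a298c8cef3392559038aab22b0156aa5d42d2f4be8a33110b531cfd79e19e6f552bc0a958fd04f91f8083f3d81102bb8a7bed0b53b4ed700de42d38b3d5ebf0f105404f179259b6e82f48590b96e149f1a1681398ee920c85a0a16b1265cd579415985154a859135641215e2169279aef0d7305e26669bc00821647bd1ad3b09e8a5d8d904a69b008bd7a6f266f15e56debba20a742aa74d853286b82569edba2accd64b4e1ad43af55e301e3bc2a260293289ad5a0968ab5066b20e25e24487cef372940a2e766b47ca54245e31812daff5eb0ba6b561988082eb9ad261235a5bdf9ba0424028d2d2ed4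9eae8a4290bb24ad19790312ec847405e5755b14fb5576a35a36f3e05b812395414934d764df54c5291445e58d511414ad7640c2a8152945da8c06bb4eed2d795452451014d5d1e94b147bd31790ea5ee8cf4e5e93a95bd7fa8a286150c540ea10a4169bba019400888d76c9c3fed938917bc8323e24c7176d19a885d3449d04be23424bd45848fa4b8241d1fbce9a2a2981e76d4aa8c5e3a9ddb4341200afd22813fe868a4887db55f1bb688a23815c8840a4250b15307bb6a497f6d4a0aeda9e7bdb523e3b69d6426f5992eda42d0bb80390009f33f0544dfd5a5f51ab48cb756a533e455d8245e5e57d0572af808403d850401d5a472dab4e24f5690412ee018205ea8ddab5772e004ac8ead03e2e5e0f4ee126d1de242d5b811bacd59140eb14cb9d429405981414ad591fce412262c808d358812c92d5a4a1610401ac008d5d32d2b8ad82860be123797e29a6f4ee972af8232fd1bc58d5968dcf56f3e25b8a4f0b41241cd96a7bf6ee9bca982321ccb454960299a8b2c867e65e54d4904dd95e2a9e4b2d16ec65a9036cb206954299ef3ee86ca65a9c7acb50fe196a0650810a1265a833c3ba0214024404e8127a5a5e76901b4c31be2977364529c6c0a75d3d0266a780918206d32a6b8930cd414544c36a224c809af90da4b9c1b429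a6008f84a814586689168ce14dc25009d1486c80a505eb3d2d049b945745f31853bc93826f4afbd7498a2ab630c5148610a741210200803686ecbee9a44e8928b2dbc6c93e24d8c86f1067bd936f23bc7f934244bc9ee8fc4b8a38ad7b4d092a2982ca6f1c79bda6a91104196417a6f23050879f5e22c8e14cb1af6aa1ceef56acbda7f90d055efaf6add41814d99b5ebad05054d62f6af6bded52e818224731b80182f68f11e812423e8a25b75bc9d0f009f91e450f876da4807d0453ee1789a1d81097ba5e8047414924db64cedc6e94396d9341cdb2292db6ac71a81175b35e5586e151699b69551b81446c6da8bc6b15640d429597b6d46c338217b67bc5f0ca2443188084db05d24cadb21081b6a1b39ee96e1e892205904078b004873a6f486715d144ebbc039c174c11580900725e1f4edbd4fcf7697fe6ed330755e610e3bce10602a573f6f0827b5ea702e153b9b7688513815be2782ac37bb53d7b768c67eed2bcadda210f7bcfa1f97ade3eef5b32dda944bbb002840281d1704949fb591e787bd39070048916450202c092d83d04cfd6d64be25ac96bc35e99f8fbc737097a5a14c54d79b5a97851147daed6ae80a813b94b5a2184e15541ad6a9b0b814e0cb5a4084b156b7ad6a3e11852e0238aaac44146873d7a59e66f5c011826039bb80102d680506800140e8801017bc0503e200b102d004085c0241d04030342001058000000020301fbc0d02a281c048101c0c5e18dc0b4000000419030480c058103c0e12051816402006e860040901c0b120c01804280180828a05909004120881d7413026e84e01810000000000000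

noncomputable def pk (a : ℕ) : ℕ := Nat.land (dg 27 pT a) 31
noncomputable def pp (a : ℕ) : ℕ := Nat.land (Nat.shiftRight (dg 27 pT a) 5) 1023
noncomputable def rk (a : ℕ) : ℕ := Nat.land (Nat.shiftRight (dg 27 pT a) 15) 1023
noncomputable def rt (a : ℕ) : ℕ := nth 0 [22, 1, 16] (Nat.shiftRight (dg 27 pT a) 25)

theorem cT : allN (fun a => bor (bor (Nat.beq a 0) (Nat.beq (rt a) a)) (force (pk a) fun k =>
    force (pp a) fun b => band (band (band (tb M2 k) (Nat.blt 0 b)) (band (Nat.blt b 1024)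
      (Nat.blt (rk b) (rk a)))) (band (Nat.beq (rt b) (rt a)) (band (rel k a b) (rel k b a))))) 1024 =
    true := by
  decide +kernel

def oL (r : ℕ) : List ℕ :=
  if r = 22 then [22, 23, 25, 27, 29, 30, 32, 64, 128, 242, 256, 371, 437, 468, 512, 625, 703, 732, 826, 856, 912, 992]
  else if r = 1 then [1, 3, 4, 6, 9, 11, 12, 13, 14, 160, 170, 192, 200, 288, 303, 320, 385, 498, 640, 656, 864, 968]
  else [16, 18, 21, 24, 26, 28, 31, 58, 88, 92, 224, 352, 363, 565, 596, 610, 611, 672, 699, 742, 756, 832]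

theorem cO : allN (fun a => bor (Nat.beq a 0) (anyL (Nat.beq (rt a)) [22, 1, 16])) 1024 = true ∧
    allL (fun r => allL (fun b => band (band (Nat.blt 0 b) (Nat.blt b 1024)) (Nat.beq (rt b) r))
      (oL r)) [22, 1, 16] = true := by
  decide +kernel

theorem oL_spec (r : ℕ) : (oL r).Nodup ∧ (oL r).length = 22 := by
  unfold oL; split_ifs <;> decide

variable {F U : Type*} [Field F] [AddCommGroup U] [Module F U] (ρ : MM →* Module.End F U)

/-- The sign of a bit. -/
def sb (F : Type*) [Field F] (b : Bool) : F := if b then -1 else 1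

theorem sb_xor (a b : Bool) : sb F (xor a b) = sb F a * sb F b := by
  cases a <;> cases b <;> simp [sb]

theorem sb_inj (h2 : (2 : F) ≠ 0) {a b : Bool} (h : sb F a = sb F b) : a = b := by
  have : (1 : F) ≠ -1 := fun e => h2 (by linear_combination e)
  cases a <;> cases b <;> simp_all [sb, this.symm]

theorem wt_bw (l : List ℕ) {v : U} (a b : ℕ)
    (h : ∀ i < l.length, ρ (m (nth 0 l i)) v = sb F (a.testBit i) • v) :
    ρ (ev m (bw l b)) v = sb F (pr l.length a b) • v := by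
  induction l generalizing a b with
  | nil => simp [bw, pr, sb]
  | cons k l ih =>
    have h1 := ih (a / 2) (b / 2) fun i hi => by
      rw [← Nat.testBit_succ]; exact h (i + 1) (by simpa using hi)
    have h2 : ρ (m k) v = sb F (a.testBit 0) • v := h 0 (by simp)
    have e : pr (k :: l).length a b = xor (band (tb a 0) (tb b 0)) (pr l.length (a >>> 1) (b >>> 1)) :=
      rfl
    rw [e, bw_cons, sb_xor, Nat.shiftRight_one, Nat.shiftRight_one, tb_eq, tb_eq]
    cases hb : b.testBit 0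
    · rw [if_neg (by simp), h1]; cases a.testBit 0 <;> simp [sb, band]
    · rw [if_pos rfl, ev_cons, mul_ap, h1, map_smul, h2, smul_smul, mul_comm]
      cases a.testBit 0 <;> simp [sb, band]

/-- The character `a` of `E` occurs. -/
def Wt (a : ℕ) : Prop := ∃ v ≠ 0, ∀ i < 10, ρ (m (nth 0 El i)) v = sb F (a.testBit i) • v

variable {ρ}

theorem Wt.rel {k a b : ℕ} (h : Wt ρ a) (hk : M2.testBit k = true) (c : rel k a b = true) :
    Wt ρ b := by
  obtain ⟨v, v0, hv⟩ := h
  refine ⟨ρ (m k) v, fun e => v0 (by rw [← inv_ap (ρ := ρ) (m k) v, e, map_zero]), fun i hi => ?_⟩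
  have h1 := wt_bw ρ El a (ptE [k] (2 ^ i)) hv
  have h2 := (allN_eq _ _).1 c i hi
  rw [← fe, ← cj_E hk hi, mul_ap, mul_ap] at h1
  rw [← inv_ap (ρ := ρ) (m k) (ρ (m (nth 0 El i)) _), h1, m_inv, map_smul]
  congr 2
  rw [tb_eq] at h2
  revert h2
  change Bool.rec _ _ (pr 10 a (ptE [k] (Nat.pow 2 i))) = true → pr 10 a (ptE [k] (Nat.pow 2 i)) = _
  cases pr 10 a (ptE [k] (Nat.pow 2 i)) <;> cases b.testBit i <;> simp [bif']

theorem wt_root {a : ℕ} (h0 : 0 < a) (h1 : a < 1024) : Wt ρ a ↔ Wt ρ (rt a) := by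
  induction h : rk a using Nat.strong_induction_on generalizing a with
  | _ n ih =>
    have c := (allN_eq _ _).1 cT a h1
    simp only [bor_eq, band_eq, force_eq, Nat.beq_eq, Nat.blt_eq, tb_eq] at c
    rcases c with (c | c) | ⟨⟨⟨c1, c2⟩, c3, c4⟩, c5, c6, c7⟩
    · omega
    · rw [c]
    · rw [← c5, ← ih _ (h ▸ c4) c2 c3 rfl]
      exact ⟨fun e => e.rel c1 c6, fun e => e.rel c1 c7⟩

theorem exists_bits (f : ℕ → Bool) (n : ℕ) : ∃ a < 2 ^ n, ∀ i < n, a.testBit i = f i := by
  induction n generalizing f with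
  | zero => exact ⟨0, by simp, by simp⟩
  | succ n ih =>
    obtain ⟨a, a1, a2⟩ := ih fun i => f (i + 1)
    refine ⟨Nat.bit (f 0) a, by rw [Nat.bit_val]; cases f 0 <;> simp <;> omega, fun i hi => ?_⟩
    cases i with
    | zero => simp
    | succ i => rw [Nat.testBit_bit_succ, a2 i (by omega)]

/-- Either the action is trivial or the fixed space of `E` is small. -/
theorem fix_E [FiniteDimensional F U] (h2 : (2 : F) ≠ 0) (hd : Module.finrank F U ≤ 23) :
    (∀ g, ρ g = 1) ∨ Module.finrank F (fixS ρ (gg SE)) ≤ 1 := by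
  by_cases h : ∀ v, ρ (m 15) v = v
  · have := simple_MM
    rcases ρ.normal_ker.eq_bot_or_eq_top with e | e
    · exact absurd (e.le (show m 15 ∈ ρ.ker from LinearMap.ext h)) (by
        simpa using orc.ne (U := [15]) (V := []) (by decide +kernel))
    · exact Or.inl fun g => e.ge (mem_top g)
  push Not at h
  obtain ⟨w, hw⟩ := h
  have hm : ∀ i : Fin 10, nth 0 El i ∈ El := fun i => nth_mem _ _ _ i.2
  obtain ⟨v, v1, v0, hv⟩ := Cliff.exists_eigen (LinearMap.ker (ρ (m 15) + 1)).toAddSubgroup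
    (fun i : Fin 10 => (ρ (m (nth 0 El i))).toAddMonoidHom) (fun i x hx => by
      have : ρ (m 15) x + x = 0 := hx
      change ρ (m 15) (ρ _ x) + ρ _ x = 0
      rw [← mul_ap, ← El_comm (hm i) (by decide), mul_ap, ← map_add, this, map_zero])
    (fun i x => by change ρ _ (ρ _ x) = x; rw [← mul_ap, m_sq]; simp)
    (fun i j x => by change ρ _ (ρ _ x) = ρ _ (ρ _ x); rw [← mul_ap, El_comm (hm i) (hm j), mul_ap])
    (x₀ := w - ρ (m 15) w) (by
      change ρ (m 15) _ + _ = 0
      rw [map_sub, ← mul_ap, m_sq]; simp) (sub_ne_zero.2 hw.symm)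
  have n1 : ∀ {x : U}, x ≠ 0 → x ≠ -x := fun {x} h e => h (by
    rw [← smul_eq_zero_iff_right h2, two_smul]; exact add_eq_zero_iff_eq_neg.2 e)
  classical
  obtain ⟨a, a1, a2⟩ := exists_bits (fun i => decide (ρ (m (nth 0 El i)) v = -v)) 10
  have wa : Wt ρ a := ⟨v, v0, fun i hi => by
    rw [a2 i hi]
    rcases hv ⟨i, hi⟩ with e | e <;> change ρ (m (nth 0 El i)) v = _ at e <;> rw [e] <;>
      simp [sb, n1 v0]⟩
  have a0 : 0 < a := Nat.pos_of_ne_zero fun e => by
    have := a2 4 (by norm_num)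
    rw [e, Nat.zero_testBit, eq_comm, decide_eq_false_iff_not] at this
    exact this (eq_neg_of_add_eq_zero_left v1)
  obtain ⟨r, r1, r2⟩ := (anyL_eq _ _).1 (((bor_eq _ _).1 ((allN_eq _ _).1 cO.1 a a1)).resolve_left
    (by simp; omega))
  have r3 := (allL_eq _ _).1 ((allL_eq _ _).1 cO.2 r r1)
  simp only [band_eq, Nat.blt_eq, Nat.beq_eq] at r3 r2
  have key : ∀ {b c : ℕ}, b < 1024 → c < 1024 →
      ((fun i : Fin 10 => sb F (b.testBit i)) = fun i : Fin 10 => sb F (c.testBit i)) → b = c :=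
    fun {b c} hb hc e => Nat.eq_of_testBit_eq fun i => by
      by_cases hi : i < 10
      · exact sb_inj h2 (congrFun e ⟨i, hi⟩)
      · have : 1024 ≤ 2 ^ i := Nat.pow_le_pow_right (n := 2) (i := 10) (by norm_num) (by omega)
        rw [Nat.testBit_lt_two_pow (by omega), Nat.testBit_lt_two_pow (by omega)]
  have := wt_card (fun i : Fin 10 => ρ (m (nth 0 El i))) (fun b i => sb F (b.testBit i))
    (oL r).toFinset (fun b hb c hc => key (r3 b (by simpa using hb)).1.2 (r3 c (by simpa using hc)).1.2)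
    (fun b hb => by
      obtain ⟨⟨b1, b2⟩, b3⟩ := r3 b (by simpa using hb)
      obtain ⟨u, u0, hu⟩ := (wt_root b1 b2).2 (b3 ▸ r2 ▸ (wt_root a0 a1).1 wa)
      exact ⟨u, u0, fun i => hu i i.2⟩) (fun i => sb F ((0 : ℕ).testBit i)) (fun b hb e => by
      obtain ⟨⟨b1, b2⟩, -⟩ := r3 b (by simpa using hb)
      exact b1.ne' (key b2 (by norm_num) e)) (fixS ρ (gg SE)) fun w hw i => by
      rw [hw _ (mem_genOn ((show ∀ k ∈ El, SE.testBit k = true by decide) _ (hm i)))]; simp [sb]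
  rw [List.toFinset_card_of_nodup (oL_spec r).1, (oL_spec r).2] at this
  exact Or.inr (by omega)

end Cfsg.Agent.Mon.Cx
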