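import Cfsg.Agent.Mont.C5

/-!
# The action of `A5 ≀ 2` on the fixed classes of an element of order 5: tables
-/

set_option autoImplicit false
set_option maxRecDepth 4096

namespace Cfsg.Agent.Mon.HN

open Subgroup Cfsg.Agent.Comp Cfsg.Agent.Mont Cfsg.Agent.Spor.Leech

/-- The permutation model of `A5 ≀ 2` on 256 points. -/
noncomputable abbrev Γ : Subgroup (Equiv.Perm ℕ) := gen C5.ns C5.G_ss0

/-- The mask of the non-singular points. -/
def Qf : ℕ := 0xf99fac3560f9caac6006ca53f960acca5335069fca536006caac60f953ca0660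

/-- The orbit of length 60. -/
def D60 : ℕ := 0x4600282060211019f380080040f133000080020310c130920418a008810991a

/-- The bilinear form. -/
def bf (i j : ℕ) : Bool := xor (xor (Qf.testBit (i ^^^ j)) (Qf.testBit i)) (Qf.testBit j)

/-- `i` is orthogonal to the points of `l`. -/
def pp (l : List ℕ) (i : ℕ) : Bool := l.all fun a => !bf i a

/-- Linear combination. -/
def comb : List ℕ → ℕ → ℕ
  | [], _ => 0
  | a :: l, c => (if c % 2 = 1 then a else 0) ^^^ comb l (c / 2)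

def LT : List (List ℕ) :=
  [[2,0,2,2,0,0,2,0,0,0,2,2], [2,2,0,2,0,2,0,2,2,0,2,0,2], [2,0,0,2,2,0,2,0,0,2,0,0,2,0,2],
   [0,0,2,0,0,0,2,0,2,2,0,2,2], [2,0,0,2,0,0,2,2,0,0,0,2,0,2,2], [2,0,0,2,2,0,2,0,2,0,0,2,0,2],
   [2,0,0,2,2,0,2,0,0,0,2,0,0,2,0,2], [0,0,2,0,2,0,2,2,0,0,2], [2,0,2,2,0,2,0,0,2,0,0,2,2,0],
   [0,0,2,0,0,0,2,2,0,2,0,2,0,0,0,2], [2,2,0,2,0,2,2,0,2,0,2,0,0,2],
   [0,2,0,2,0,2,2,0,2,0,0,2,2,0], [0,0,0,2,2,0,2,2,0,2,0,2,0,0], [0,0,0,2,0,0,2,2,0,0,0,2,0,0,0],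
   [0,0,2,0,0,2,2,0,2,0,0,2], [2,0,2,2,0,0,0,2,0,2,0,0,0], [0,2,2,0,2,0,2,0,0,2,2],
   [2,2,0,2,0,0,2,2,0,2,0,0,0,2,0,0,0], [2,0,2,0,2,0,2,2,0,0,2,2],
   [2,0,0,2,0,2,0,2,2,0,2,2,0,2,2], [0,0,0,2,0,2,0,0,2,2,0,2,0,0,0],
   [2,2,0,2,0,0,2,0,0,2,2,0,0,2,2], [0,0,2,2,0,2,2,0,2,0,0,0],
   [2,0,2,0,2,0,0,0,2,0,2,0,0,0,2,0,0,0], [0,2,2,0,0,0,2,0,0,0,2,0,0],
   [0,2,0,0,2,0,2,0,0,2,0,2,0,2,0,2,2,0], [0,2,2,0,2,0,0,2,0,2,0], [0,0,0,2,0,2,0,2,0,0],
   [2,2,0,0,2,2,0,2,0,2,0,2,2,0,2], [0,0,0,2,0,2,0,2,0,2,2,0,0,2,0],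
   [0,2,0,0,2,0,0,2,0,0,2,0,2,0,0,2,0], [2,0,2,2,0,2,0,2,0,0,0], [0,0,2,0,0,2,0,2,0,0,0,2,0,2,0],
   [0,2,0,2,0,0,0,2,2,0,0,0,2,0], [2,0,2,0,0,0,2,2,0,2,0,0,2,0,0], [], [0,2,0,2,0,0,0,2,2,0,2,0],
   [0,0,0,2,2,0,0,2,0], [0,2,0,2,2,0,2,0,0,0,2,0,0,2], [2,0,0,2,0,2,2,0,2,0,0,0,2,0,0],
   [2,2,0,2,0,0,2,0,0,2,0,2,0,0,2,0], [2,0,0,2,2,0,2,0,0,2,0], [2,2,0,2,0,0,0,2,0,0,2,0,2,2],
   [0,0,2,0,2,0,2,2,0,2,2,0,0,0], [2,0,0,2,2,0,2,2,0], [2,0,2,2,0,2,0,0,2,0,2,0,0,2,2],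
   [2,2,0,2,0,0,2,0,0,2,0,2,2,0], [2,0,2,0,0,2,0,2,0,2,2,0,2,2], [2,0,0,2,0,2,2,0,0,2,0,0,0],
   [0,0,2,0,2,0,0,2,0,0,2,0,0], [2,2,0,2,2,0,2,0,0,0,2,0,0,2,2,0], [2,0,0,2,2,0,2,0,2,0],
   [2,2,0,2,0,2,0,2,2], [2,0,2,2,0,0,2,0,0,0,2,2,0,2,0,2], [0,2,0,0,2,0,2,2,0,2,0,2,0,0,2],
   [2,0,0,2,2,0,2,0,0,0,2,0], [0,2,0,0,0,2,0,0,2,2,0,2,2,0,0,2],
   [2,2,0,0,2,2,0,2,2,0,2,2,0,2,2,0], [2,0,0,0,2,0,2,0,2,0,2,2,0,0,0],
   [2,0,0,2,2,0,2,0,2,2,0,2,0,2,0,0], [0,2,0,2,0,0,0,2,0,0,0,2,0,0,2,2],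
   [2,0,2,0,0,2,0,0,2,2,0,0], [0,0,0,2,0,0,2,2,0,0,0,2,2,0,2], [2,0,2,0,2,0,0,2,0,2,0,2,2,0,0],
   [2,0,2,2,0,2,0,0,2,0,0,2,0,2,0], [0,0,2,2,0,2,0,2,0,2,2,0,2,2,0],
   [0,2,0,2,2,0,2,2,0,2,0,2,0,0,0], [2,0,2,2,0,2,2,0,0,0,2,0,0], [0,2,0,2,0,0,0,2,0,2,0,2,0,0],
   [0,2,0,2,0,2,2,0,2,0,0,2,0,2,0], [2,0,2,2,0,0,0,2,0,2,2,0,2], [2,0,0,0,2,0,2,0,2,0,0,2],
   [0,0,0,2,2,0,2,0], [2,2,0,0,0,2,2,0,0,2,2,0,0,2,0], [2,0,0,2,2,0,0,2,0,2,0,0],
   [0,2,0,2,0,2,0,2], [2,0,2,0,0,0,2,0,0,2], [0,0,2,0,0,2,0,2,0,0,0,2,2,0],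
   [0,0,0,2,2,0,0,0,2,0], [2,0,0,0,2,0,2,2,0,0,2,2,0,0], [0,0,0,2,0,2,0,2,0,2,2,0,2,0],
   [2,0,2,0,0,2,2,0,2,2,0,2,0,0], [0,0,0,2,0,0,0,2,0,0,2,2], [0,2,0,0,2,0,2,0,2,2,0,2,0,2],
   [2,0,0,2,0,2,0,2,0,2,2,0,0], [0,0,2,0,0,2,0,2,2,0,2,0,0], [2,0,2,2,0,2,0,2,2,0,2],
   [2,0,0,2,0,2,0,0,0,2,0,0,0,2], [0,2,2,0,2,0,0,2,0,0,2,0], [0,0,2,2,0,0,0,2,0,0,2,2,0,2,2],
   [0,2,0,0,2,0,2,0,2,2], [0,0,0,2,0,0,0,2,0,0,2,2,0,2,0,2], [2,0,2,2,0,2,0,2,2,0,2,0,2,0,2],
   [0,0,2,2,0,2,0,2,0,0,0,2,2], [0,2,2,0,2,0,0,2,2,0], [2,2,0,0,2,2,0,2,0,2,0,2,0,0,0],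
   [0,0,2,0,0,2,0,0,0,2,2,0,2,2], [0,0,0,2,2,0,2,0,0,2,0,2], [0,2,0,2],
   [0,0,0,2,0,0,2,0,0,2,2,0,0,2,0,0], [2,2,0,0,2,0,2,0,0,2,0,0], [0,2,0,2,0,0,0,2,2,0,0,2,0],
   [2,0,2,0,0,0,2,0,2,2,0,0,0], [0,0,2,2,0,2,0,0,2,0,2,0,0,0], [0,0,2,2,0,2,2,0,2,2,0,2],
   [2,2,0,0,0,2,0,2,0,0,0,2,0,2,0,0], [0,2,0,0,2,0,0,2,0,0,2,2,0,0,2,2],
   [2,0,2,0,2,2,0,2,2,0,2,0,2,2,0], [0,2,0,0,2,2,0,2,0,0,2,0,0,0],
   [2,0,0,0,2,2,0,2,0,0,2,2,0,0,2,2], [2,2,0,2,2,0,2,0,0,2,2,0,2], [2,0,0,0,2,0,0,2,2,0,2,0,0],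
   [0,0,0,2,0,2,0,0,2,2,0,2,2,0,2], [2,0,0,0,2,0,0,2,2,0,2,0,2,2,0,2,0],
   [2,0,2,0,0,2,0,0,2,0,2,2,0,2,0,0,0], [2,2,0,0,0,2,0,2,0,2,0,0,2,2],
   [2,0,2,0,2,0,2,0,0,2,0,2,0,0], [0,2,0,0,2,2,0,2,0,0,2,2,0,2], [0,2,2,0,2,0,0,0,2,0,2,0,0],
   [2,0,0,0,2,0,0,2,0,0,2,0,0,2,2]]

def CL : List ℕ :=
  [8808961306, 8808962581, 8825717197, 8825720257, 12228181222, 12228224572, 12278313448,
   12278360113, 55869052186, 55869053461, 56069642459, 56069643224, 59086023398, 59086071338,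
   59286563048, 59286612008, 60163998157, 60164001217, 60347832539, 60347833304, 60483578417,
   60483580202, 60567136316, 60567141416, 90430908977, 90430910762, 90631438861, 90631441666,
   90869390310, 90869393115, 91203617256, 91203627201, 111905417276, 111905422376, 112022389261,
   112022392066, 112377059560, 112377063640, 112494038502, 112494044877, 172155001830,
   172155004635, 172806704666, 172806707726, 175051911640, 175051954225, 175703657933,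
   175703706893, 180828100840, 180828104920, 181212417557, 181212419342, 183843044571,
   183843085116, 184260824513, 184260870413, 210892410342, 210892416717, 211159748117,
   211159749902, 214092490945, 214092529960, 214359868123, 214359923458, 258053030376,
   258053040321, 258370506266, 258370509326, 261387332301, 261387373866, 261571150552,
   261571205122, 829160237798, 829160285738, 829614993880, 829615036465, 832368869902,
   832368872962, 832823629116, 832823639061, 880699058408, 880699107368, 881188027611,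
   881188068156, 883707150862, 883707153922, 884329814577, 884329820442, 927760858342,
   927760901692, 928550234305, 928550273320, 931387280654, 931387280909, 931608468010,
   931608472090, 940645560808, 940645607473, 941619555021, 941619596586, 944221850894,
   944221851149, 944460535080, 944460539925, 988560559553, 988560605453, 988863464152,
   988863518722, 991284566577, 991284572442, 991520625960, 991520630805, 997116153293,
   997116202253, 997268652763, 997268708098, 999673042236, 999673052181, 1000059509290,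
   1000059513370]

/-- The elements of the point stabilizer. -/
noncomputable def W (k : ℕ) : Equiv.Perm ℕ := wp C5.ns (subW C5.G_ss0 (getL [] LT k))

theorem W_mem (k : ℕ) : W k ∈ Γ := subW_mem _ _ _

theorem supp {p : Equiv.Perm ℕ} (hp : p ∈ Γ) : Supp 256 p := gen_le_supp C5.ctx.ok _ hp

theorem lt256 {p : Equiv.Perm ℕ} (hp : p ∈ Γ) {i : ℕ} (hi : i < 256) : p i < 256 := (supp hp).lt hi

theorem eq_one {p : Equiv.Perm ℕ} (hp : p ∈ Γ) (h : ∀ i < 256, p i = i) : p = 1 :=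
  Equiv.ext fun i => (lt_or_ge i 256).elim (h i) (supp hp i)

instance : Finite Γ := finite_gen C5.ctx.ok _

noncomputable def chk (q : ℕ → (ℕ → ℕ) → Bool) : Bool :=
  withRL 256 8 fun R L => allLT 120 fun k =>
    force (appW R C5.ns (subW C5.G_ss0 (getL [] LT k)) L) fun T =>
      q k fun i => ite' (Nat.blt i 256) (val 256 R T i) i

theorem of_chk {q : ℕ → (ℕ → ℕ) → Bool} (h : chk q = true) {k : ℕ} (hk : k < 120) :
    q k (W k) = true := by
  simp only [chk, withRL_eq C5.ctx.pos, force_eq, allLT_iff] at h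
  convert h k hk with i
  rw [ite'_eq]
  split_ifs with hi
  · rw [((tab_idP C5.ctx.le).appW C5.ctx.ok _).val (by norm_num) C5.ctx.le ((blt_iff _ _).1 hi),
      one_mul, W]
  · exact supp (W_mem k) i (by simpa [blt_iff] using hi)

theorem orb60 {i : ℕ} (hi : i < 256) (h : D60.testBit i = true) : ∃ p ∈ Γ, p 1 = i :=
  exists_of_orb C5.ctx.ok (fun _ hu => wp_mem_gen _ hu) (n := 8) hi
    ((show orb C5.ns C5.G_ss0 8 1 = D60 by decide +kernel) ▸ h)

/-- The stabilizer of the point `1`. -/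
noncomputable def St : Subgroup (Equiv.Perm ℕ) := Γ ⊓ MulAction.stabilizer _ (1 : ℕ)

theorem mem_St {p : Equiv.Perm ℕ} : p ∈ St ↔ p ∈ Γ ∧ p 1 = 1 := Iff.rfl

theorem card_St : Nat.card St = 120 := by
  have h := card_eq_orbit_mul_stab Γ (1 : ℕ)
  have e : {i | ∃ g ∈ Γ, g • (1 : ℕ) = i} = (mset 256 D60 : Set ℕ) := by
    ext i
    rw [Finset.mem_coe, mem_mset]
    constructor
    · rintro ⟨g, hg, rfl⟩
      exact ⟨lt256 hg (by norm_num), (inv_of_invAll C5.ctx.ok (x := D60) (by decide +kernel) hg 1).trans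
        (by decide +kernel)⟩
    · exact fun h => orb60 h.1 h.2
  rw [e, C5.G_card, Set.ncard_coe_finset, ← pcN_eq (w := 8) (by norm_num),
    show pcN 256 8 D60 = 60 by decide +kernel] at h
  change 7200 = 60 * Nat.card St at h
  omega

def code (p : ℕ → ℕ) : ℕ := p 2 + 256 * (p 13 + 256 * (p 14 + 256 * (p 21 + 256 * p 26)))

theorem chk0 : chk (fun k p => and' (Nat.beq (p 1) 1) (Nat.beq (code p) (getL 0 CL k))) = true := by
  decide +kernel

theorem W_St {k : ℕ} (hk : k < 120) : W k ∈ St := by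
  have := of_chk chk0 hk
  simp only [and'_eq_true, beq_iff] at this
  exact ⟨W_mem k, this.1⟩

theorem all_St {p : Equiv.Perm ℕ} (hp : p ∈ St) : ∃ k < 120, p = W k := by
  have : Finite St := Nat.finite_of_card_ne_zero (by rw [card_St]; norm_num)
  let f : Fin 120 → St := fun k => ⟨W k, W_St k.2⟩
  have h1 : ∀ k : Fin 120, code (f k : Equiv.Perm ℕ) = getL 0 CL k := fun k => by
    have := of_chk chk0 k.2
    simp only [and'_eq_true, beq_iff] at this
    exact this.2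
  have h2 : StrictMono fun k : Fin 120 => getL 0 CL k := Fin.strictMono_iff_lt_succ.2 fun k =>
    (show ∀ k < 119, getL 0 CL k < getL 0 CL (k + 1) by
      have : allLT 119 (fun k => Nat.blt (getL 0 CL k) (getL 0 CL (k + 1))) = true := by
        decide +kernel
      simpa only [allLT_iff, blt_iff] using this) k k.2
  have h3 : Function.Injective f := fun a b e => h2.injective (by
    simp only [← h1, e])
  obtain ⟨k, hk⟩ := ((Nat.bijective_iff_injective_and_card f).2 ⟨h3, by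
    rw [card_St]; simp⟩).2 ⟨p, hp⟩
  exact ⟨k, k.2, (congrArg Subtype.val hk).symm⟩

theorem of_chk' {q : (ℕ → ℕ) → Bool} (h : chk (fun _ => q) = true) {p : Equiv.Perm ℕ}
    (hp : p ∈ St) : q p = true := by
  obtain ⟨k, hk, rfl⟩ := all_St hp
  exact of_chk h hk

theorem E1 {p : Equiv.Perm ℕ} (hp : p ∈ St) : p 254 = 254 ∨ p 254 = 255 := by
  simpa only [or'_eq_true, beq_iff] using
    of_chk' (q := fun p => or' (Nat.beq (p 254) 254) (Nat.beq (p 254) 255)) (by decide +kernel) hp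

theorem E2 {p : Equiv.Perm ℕ} (hp : p ∈ St) (h2 : p * p = 1) (h1 : p ≠ 1) (hf : p 254 = 254) :
    ∃ v < 256, p v ^^^ v = 254 := by
  have := of_chk' (q := fun p => or' (Nat.beq (p 254) 255) (or' (allLT 256 fun i => Nat.beq (p i) i)
    (or' (anyLT 256 fun i => not' (Nat.beq (p (p i)) i))
      (anyLT 256 fun v => Nat.beq (Nat.xor (p v) v) 254)))) (by decide +kernel) hp
  simp only [or'_eq_true, beq_iff, allLT_iff, anyLT_iff, not'_eq_true] at this
  rcases this with h | h | ⟨i, -, h⟩ | h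
  · omega
  · exact absurd (eq_one hp.1 h) h1
  · exact absurd (DFunLike.congr_fun h2 i) h
  · exact h

theorem E3 : ∃ p ∈ St, p 254 = 255 := by
  refine ⟨W 1, W_St (by norm_num), ?_⟩
  simpa [or'_eq_true, beq_iff] using of_chk (q := fun k p => or' (not' (Nat.beq k 1))
    (Nat.beq (p 254) 255)) (by decide +kernel) (k := 1) (by norm_num)

theorem E4 : {p | p ∈ St ∧ p 2 = 2 ∧ p 40 = 40}.ncard ≤ 4 := by
  refine le_trans (Set.ncard_le_ncard (t := W '' (({35, 63, 85, 107} : Finset ℕ) : Set ℕ)) ?_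
    (Set.toFinite _)) ((Set.ncard_image_le (Set.toFinite _)).trans (by
      rw [Set.ncard_coe_finset]; decide))
  rintro p ⟨hp, h1, h2⟩
  obtain ⟨k, hk, rfl⟩ := all_St hp
  have := of_chk (q := fun k p => or' (not' (and' (Nat.beq (p 2) 2) (Nat.beq (p 40) 40)))
    (anyL [35, 63, 85, 107] (Nat.beq k))) (by decide +kernel) hk
  simp only [or'_eq_true, not'_eq_true, and'_eq_true, beq_iff, anyL_iff, h1, h2, and_self,
    not_true, false_or, exists_eq_right'] at this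
  exact ⟨k, by simpa using this, rfl⟩

theorem E5 {p : Equiv.Perm ℕ} (hp : p ∈ St) (h : ∀ a ∈ [254, 2, 12, 20, 36], p a = a) : p = 1 := by
  have := of_chk' (q := fun p => or' (not' (allL [254, 2, 12, 20, 36] fun a => Nat.beq (p a) a))
    (allLT 256 fun i => Nat.beq (p i) i)) (by decide +kernel) hp
  simp only [or'_eq_true, not'_eq_true, beq_iff, allL_iff, allLT_iff] at this
  exact eq_one hp.1 (this.resolve_left fun e => e h)

theorem E7 : ∀ w ∈ [1, 254, 2, 12, 20, 36], ∃ p ∈ St, ∃ v < 256, bf v 1 = false ∧ p v ^^^ v = w := by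
  have h := fun k => of_chk (k := k) (q := fun k p => allL [(72, 36, 1), (72, 80, 254), (72, 70, 2), (27, 116, 12), (98, 60, 20), (72, 110, 36)] fun e =>
    or' (not' (Nat.beq k e.1)) (Nat.beq (Nat.xor (p e.2.1) e.2.1) e.2.2)) (by decide +kernel)
  simp only [or'_eq_true, not'_eq_true, beq_iff, allL_iff] at h
  intro w hw
  simp only [List.mem_cons, List.not_mem_nil, or_false] at hw
  rcases hw with rfl | rfl | rfl | rfl | rfl | rfl
  · exact ⟨_, W_St (k := 72) (by norm_num), 36, by norm_num, by decide +kernel,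
      (h 72 (by norm_num) (72, 36, 1) (by simp)).resolve_left fun e => e rfl⟩
  · exact ⟨_, W_St (k := 72) (by norm_num), 80, by norm_num, by decide +kernel,
      (h 72 (by norm_num) (72, 80, 254) (by simp)).resolve_left fun e => e rfl⟩
  · exact ⟨_, W_St (k := 72) (by norm_num), 70, by norm_num, by decide +kernel,
      (h 72 (by norm_num) (72, 70, 2) (by simp)).resolve_left fun e => e rfl⟩
  · exact ⟨_, W_St (k := 27) (by norm_num), 116, by norm_num, by decide +kernel,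
      (h 27 (by norm_num) (27, 116, 12) (by simp)).resolve_left fun e => e rfl⟩
  · exact ⟨_, W_St (k := 98) (by norm_num), 60, by norm_num, by decide +kernel,
      (h 98 (by norm_num) (98, 60, 20) (by simp)).resolve_left fun e => e rfl⟩
  · exact ⟨_, W_St (k := 72) (by norm_num), 110, by norm_num, by decide +kernel,
      (h 72 (by norm_num) (72, 110, 36) (by simp)).resolve_left fun e => e rfl⟩

/-- The five triples. -/
def trip (i : Fin 5) : List ℕ :=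
  ![[2, 40, 42], [13, 49, 60], [14, 230, 232], [21, 205, 216], [26, 193, 219]] i

theorem exists_beta : Nonempty (St ≃* Equiv.Perm (Fin 5)) := by
  have ex : ∀ (p : St) (i : Fin 5), ∃ j, ∀ x ∈ trip i, (p : Equiv.Perm ℕ) x ∈ trip j := fun p => by
    simpa only [decide_eq_true_eq] using of_chk' (q := fun p =>
      decide (∀ i : Fin 5, ∃ j, ∀ x ∈ trip i, p x ∈ trip j)) (by decide +kernel) p.2
  choose τ hτ using ex
  have uq : ∀ i j : Fin 5, ∀ x ∈ trip i, x ∈ trip j → i = j := by decide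
  have ne : ∀ i : Fin 5, ∃ x, x ∈ trip i := fun i => by fin_cases i <;> simp [trip]
  let _ : MulAction St (Fin 5) :=
    { smul := τ
      one_smul := fun i => by
        obtain ⟨x, hx⟩ := ne i
        exact uq _ _ x (hτ 1 i x hx) hx
      mul_smul := fun p p' i => by
        obtain ⟨x, hx⟩ := ne i
        exact uq _ _ _ (hτ (p * p') i x hx) (hτ p _ _ (hτ p' i x hx)) }
  refine ⟨MulEquiv.ofBijective (MulAction.toPermHom St (Fin 5))
    ((Nat.bijective_iff_injective_and_card _).2 ⟨?_, by rw [card_St]; simp [Fintype.card_perm, Nat.factorial]⟩)⟩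
  rw [injective_iff_map_eq_one]
  intro p hp
  have := of_chk' (q := fun p => or' (not' (decide (∀ i : Fin 5, ∀ x ∈ trip i, p x ∈ trip i)))
    (allLT 256 fun i => Nat.beq (p i) i)) (by decide +kernel) p.2
  simp only [or'_eq_true, not'_eq_true, beq_iff, allLT_iff, decide_eq_true_eq] at this
  refine Subtype.ext (eq_one p.2.1 (this.resolve_left fun e => e fun i x hx => ?_))
  have h1 : τ p i = i := DFunLike.congr_fun hp i
  exact h1 ▸ hτ p i x hx

theorem gen_fix : ∀ u ∈ C5.G_ss0, ∃ j < 256, D60.testBit j = true ∧ wp C5.ns u j = j := by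
  intro u hu
  simp only [C5.G_ss0, List.mem_cons, List.not_mem_nil, or_false] at hu
  rcases hu with rfl | rfl
  · exact ⟨64, by norm_num, by decide +kernel,
      wp_apply_of_mapsW C5.ctx.ok (by norm_num) (by decide +kernel)⟩
  · exact ⟨3, by norm_num, by decide +kernel,
      wp_apply_of_mapsW C5.ctx.ok (by norm_num) (by decide +kernel)⟩

/-! ### Tables of points -/

theorem T1 : ∀ i < 256, Qf.testBit i = false →
    i = 0 ∨ C5.D4.testBit i = true ∨ D60.testBit i = true := by decide +kernel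

theorem Tb2 : ∀ i < 256, pp [1, 254] i = true → D60.testBit i = true →
    D60.testBit (i ^^^ 1) = false := by decide +kernel

theorem T3 : ∀ i < 256, pp [1, 254, 2, 12, 20, 36] i = true →
    pp [1, 254] i = true ∧ (bf i 144 = false → i = 0 ∨ i = 1) := by decide +kernel

theorem T4 : ∀ i < 256, pp [1, 254] i = true → ∃ c < 64, comb [1, 254, 2, 12, 20, 36] c = i := by
  decide +kernel

theorem T5 : ∀ i < 256, comb [2, 7, 13, 14, 16, 33, 68, 128]
    (comb [13, 1, 14, 7, 16, 45, 78, 128] i) = i := by decide +kernel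

theorem T6 : ((Finset.range 256).filter fun i => pp [1, 254, 144, 4] i = true).card = 16 := by
  rw [← cntLT_eq]; decide +kernel

theorem T6' : ((Finset.range 256).filter fun i => pp [1, 2, 40] i = true).card = 32 := by
  rw [← cntLT_eq]; decide +kernel

theorem T7 : ∀ i < 256, pp [1, 254, 144, 4] i = true → pp [3, 20, 40, 204] i = true → i = 0 := by
  decide +kernel

theorem T8 : ∀ i < 256, pp [1, 254] i = true → ∃ a ∈ [0, 1, 254, 255],
    pp [1, 254, 144, 4] (i ^^^ a) = true := by decide +kernel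

theorem T9 : ∀ i < 256, pp [1] i = true → pp [1, 254] i = true ∨ pp [1, 254] (i ^^^ 144) = true := by
  decide +kernel

theorem xor_lt {i j : ℕ} (hi : i < 256) (hj : j < 256) : i ^^^ j < 256 :=
  Nat.xor_lt_two_pow (n := 8) hi hj

theorem comb_lt {l : List ℕ} (h : ∀ a ∈ l, a < 256) (c : ℕ) : comb l c < 256 := by
  induction l generalizing c with
  | nil => simp [comb]
  | cons a l ih =>
    refine xor_lt ?_ (ih (fun b hb => h b (List.mem_cons_of_mem _ hb)) _)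
    split_ifs
    exacts [h a List.mem_cons_self, by norm_num]

end Cfsg.Agent.Mon.HN
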