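import Cfsg.Agent.Mon.HNa
import Cfsg.Agent.LES.Setting
import Cfsg.Agent.Transfer.ThompsonTransfer

/-!
# Groups with an involution centralizer `2^{1+8}.(A5 ≀ 2)`: the index two subgroup of `C(t)`
-/

set_option autoImplicit false

namespace Cfsg.Agent.Mon.HN

open Subgroup Cfsg Cfsg.Agent.TT Cfsg.Agent.LES Cfsg.Agent.Mont Cfsg.Agent.PLocal.Amb

variable {X : Type*} [Group X]

/-- `h` acts on the points as `p`. -/
def Ac (z : X) (ψ : ℕ → X) (h : X) (p : Equiv.Perm ℕ) : Prop :=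
  ∀ i < 256, Eqv z (ψ (p i)) (h * ψ i * h⁻¹)

/-- The local data: `R = O_2(C(z))` with coordinates `ψ`, and a class `A` of involutions. -/
structure HD (z : X) (R : Subgroup X) (ψ : ℕ → X) (A : Set X) : Prop where
  lx : LX R z
  mem : ∀ i, ψ i ∈ R
  add : ∀ i < 256, ∀ j < 256, Eqv z (ψ (i ^^^ j)) (ψ i * ψ j)
  onto : ∀ r ∈ R, ∃ i < 256, Eqv z r (ψ i)
  inj : ∀ i < 256, ∀ j < 256, Eqv z (ψ i) (ψ j) → i = j
  sq : ∀ i < 256, (ψ i * ψ i = 1 ↔ Qf.testBit i = false)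
  act : ∀ h, h * z = z * h → ∃ p ∈ Γ, Ac z ψ h p
  lift : ∀ p ∈ Γ, ∃ h, h * z = z * h ∧ Ac z ψ h p
  cjA : ∀ a ∈ A, ∀ g, g * a * g⁻¹ ∈ A
  sqA : ∀ a ∈ A, a * a = 1
  oneA : 1 ∉ A
  zA : z ∉ A
  d4 : ∀ i < 256, C5.D4.testBit i = true → IsConj z (ψ i)
  tA : ψ 1 ∈ A
  l1 : ∀ u ∈ A, u * z ∈ A → u ∈ R

/-- The centralizer in `R` of some points. -/
def Cp (R : Subgroup X) (ψ : ℕ → X) (l : List ℕ) : Subgroup X :=
  R ⊓ centralizer (ψ '' {a | a ∈ l})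

theorem mem_Cp {R : Subgroup X} {ψ : ℕ → X} {l : List ℕ} {r : X} :
    r ∈ Cp R ψ l ↔ r ∈ R ∧ ∀ a ∈ l, r * ψ a = ψ a * r := by
  simp only [Cp, mem_inf, mem_centralizer_iff, Set.forall_mem_image, Set.mem_ofPred_eq]
  exact and_congr_right fun _ => forall₂_congr fun _ _ => eq_comm

namespace HD

variable {z : X} {R : Subgroup X} {ψ : ℕ → X} {A : Set X}

theorem xs (h : HD z R ψ A) : XS R z := h.lx.toXS

theorem zz (h : HD z R ψ A) : z * z = 1 := h.lx.z_sq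

theorem zc (h : HD z R ψ A) (i : ℕ) : ψ i * z = z * ψ i := h.lx.z_comm _ (h.mem i)

theorem mem' (h : HD z R ψ A) {r : X} {i : ℕ} (e : Eqv z r (ψ i)) : r ∈ R :=
  e.mem h.lx.z_mem (h.mem i)

theorem zero (h : HD z R ψ A) : Eqv z (ψ 0) 1 := by
  have := (h.add 0 (by norm_num) 0 (by norm_num)).mul_left (ψ 0)⁻¹
  simp only [Nat.xor_self, inv_mul_cancel, inv_mul_cancel_left] at this
  exact this.symm h.zz

theorem add' (h : HD z R ψ A) {r s : X} {i j : ℕ} (hi : i < 256) (hj : j < 256)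
    (e : Eqv z r (ψ i)) (e' : Eqv z s (ψ j)) : Eqv z (r * s) (ψ (i ^^^ j)) :=
  (eqv_mul h.xs (h.mem j) e e').trans h.zz ((h.add i hi j hj).symm h.zz)

theorem inj' (h : HD z R ψ A) {r : X} {i j : ℕ} (hi : i < 256) (hj : j < 256)
    (e : Eqv z r (ψ i)) (e' : Eqv z r (ψ j)) : i = j := h.inj i hi j hj ((e.symm h.zz).trans h.zz e')

theorem ne (h : HD z R ψ A) {r : X} {i : ℕ} (hi : i < 256) (h0 : i ≠ 0) (e : Eqv z r (ψ i)) :
    r ≠ 1 ∧ r ≠ z := by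
  rw [← not_or, ← eqv_one_iff]
  exact fun a => h0 (h.inj' hi (by norm_num) e (a.trans h.zz (h.zero.symm h.zz)))

theorem comm_iff (h : HD z R ψ A) {i j : ℕ} (hi : i < 256) (hj : j < 256) :
    ψ i * ψ j = ψ j * ψ i ↔ bf i j = false := by
  have s : ∀ k < 256, sqv (ψ k) = if Qf.testBit k then 1 else 0 := fun k hk => by
    split_ifs with a
    · rw [sqv_eq_one, Ne, h.sq k hk, a]; simp
    · rw [sqv_eq_zero, h.sq k hk]; simpa using a
  have e := sqv_mul h.xs (h.mem i) (h.mem j)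
  rw [← sqv_eqv h.xs (mul_mem (h.mem i) (h.mem j)) (h.add i hi j hj), s _ (xor_lt hi hj), s i hi,
    s j hj] at e
  rw [← cmv_eq_zero, bf]
  revert e
  generalize cmv (ψ i) (ψ j) = c
  generalize Qf.testBit (i ^^^ j) = b1
  generalize Qf.testBit i = b2
  generalize Qf.testBit j = b3
  revert c b1 b2 b3
  decide

theorem comm_iff' (h : HD z R ψ A) {r : X} {i j : ℕ} (hi : i < 256) (hj : j < 256)
    (e : Eqv z r (ψ i)) : r * ψ j = ψ j * r ↔ bf i j = false :=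
  (eqv_comm_iff h.xs (h.mem j) e).trans (h.comm_iff hi hj)

theorem cm (h : HD z R ψ A) (i j : ℕ) (hb : (i < 256 ∧ j < 256) ∧ bf i j = false) :
    ψ i * ψ j = ψ j * ψ i := (h.comm_iff hb.1.1 hb.1.2).2 hb.2

theorem ncm (h : HD z R ψ A) (i j : ℕ) (hb : (i < 256 ∧ j < 256) ∧ bf i j = true) :
    ψ i * ψ j * (ψ i)⁻¹ = ψ j * z := h.xs.conj_of_ne (h.mem i) (h.mem j) fun e => by
  simpa [hb.2] using (h.comm_iff hb.1.1 hb.1.2).1 e

theorem mem_Cp' (h : HD z R ψ A) {l : List ℕ} (hl : ∀ a ∈ l, a < 256) {r : X} {i : ℕ}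
    (hi : i < 256) (e : Eqv z r (ψ i)) : r ∈ Cp R ψ l ↔ pp l i = true := by
  simp only [mem_Cp, h.mem' e, true_and, pp, List.all_eq_true, Bool.not_eq_true']
  exact forall₂_congr fun a ha => h.comm_iff' hi (hl a ha) e

theorem z_mem_Cp (h : HD z R ψ A) (l : List ℕ) : z ∈ Cp R ψ l :=
  mem_Cp.2 ⟨h.lx.z_mem, fun a _ => (h.zc a).symm⟩

theorem psi_mem (h : HD z R ψ A) (l : List ℕ) (i : ℕ)
    (hb : ((∀ a ∈ l, a < 256) ∧ i < 256) ∧ pp l i = true) : ψ i ∈ Cp R ψ l :=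
  (h.mem_Cp' hb.1.1 hb.1.2 (Eqv.refl _ _)).2 hb.2

theorem card_Cp (h : HD z R ψ A) {l : List ℕ} (hl : ∀ a ∈ l, a < 256) :
    Nat.card (Cp R ψ l) = 2 * ((Finset.range 256).filter fun i => pp l i = true).card := by
  set S := (Finset.range 256).filter fun i => pp l i = true
  have hS : ∀ i, i ∈ S ↔ i < 256 ∧ pp l i = true := fun i => by simp [S]
  have ev : ∀ (i : ℕ) (b : Bool), Eqv z (if b then ψ i * z else ψ i) (ψ i) := fun i b => by
    cases b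
    exacts [Or.inl rfl, Or.inr rfl]
  let f : Bool × S → Cp R ψ l := fun x => ⟨if x.1 then ψ x.2 * z else ψ x.2,
    (h.mem_Cp' hl ((hS _).1 x.2.2).1 (ev _ _)).2 ((hS _).1 x.2.2).2⟩
  rw [← Nat.card_eq_of_bijective f ⟨?_, ?_⟩, Nat.card_prod, Nat.card_eq_finsetCard]
  · simp
  · rintro ⟨b, i, hi⟩ ⟨c, j, hj⟩ e
    have e1 : (if b then ψ i * z else ψ i) = if c then ψ j * z else ψ j := congrArg Subtype.val e
    obtain rfl := h.inj' ((hS _).1 hi).1 ((hS _).1 hj).1 (ev i b) (e1 ▸ ev j c)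
    have := h.lx.z_ne
    cases b <;> cases c <;> simp_all
  · rintro ⟨r, hr⟩
    obtain ⟨i, hi, e⟩ := h.onto r hr.1
    have hi' := (hS i).2 ⟨hi, (h.mem_Cp' hl hi e).1 hr⟩
    rcases e with rfl | rfl
    exacts [⟨(false, ⟨i, hi'⟩), rfl⟩, ⟨(true, ⟨i, hi'⟩), rfl⟩]

theorem span_mem (h : HD z R ψ A) {H : Subgroup X} (hz : z ∈ H) {l : List ℕ}
    (hl : ∀ a ∈ l, a < 256 ∧ ψ a ∈ H) (c : ℕ) : ψ (comb l c) ∈ H := by
  induction l generalizing c with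
  | nil => exact h.zero.mem hz H.one_mem
  | cons a l ih =>
    have h1 := hl a List.mem_cons_self
    have h2 : ∀ b ∈ l, b < 256 ∧ ψ b ∈ H := fun b hb => hl b (List.mem_cons_of_mem _ hb)
    have h3 := comb_lt (fun b hb => (h2 b hb).1) (c / 2)
    rw [comb]
    split_ifs
    · exact (h.add _ h1.1 _ h3).mem hz (mul_mem h1.2 (ih h2 _))
    · rw [Nat.zero_xor]; exact ih h2 _

theorem isConj_eqv [Finite X] (h : HD z R ψ A) {r : X} {i : ℕ} (hi : i < 256) (h0 : i ≠ 0)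
    (e : Eqv z r (ψ i)) : ∃ q ∈ R, q * ψ i * q⁻¹ = r :=
  exists_conj_of_eqv h.xs (h.mem i) (h.ne hi h0 (Eqv.refl _ _)).1 (h.ne hi h0 (Eqv.refl _ _)).2 e

theorem memA [Finite X] (h : HD z R ψ A) {r : X} {i : ℕ} (hi : i < 256)
    (hd : D60.testBit i = true) (e : Eqv z r (ψ i)) : r ∈ A := by
  obtain ⟨p, hp, rfl⟩ := orb60 hi hd
  obtain ⟨g, hg, ha⟩ := h.lift p hp
  have h1 := (((e.trans h.zz (ha 1 (by norm_num))).conj (a := g⁻¹) (comm_inv_left hg)))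
  simp only [inv_inv, ← mul_assoc, inv_mul_cancel, one_mul, inv_mul_cancel_right] at h1
  obtain ⟨q, -, hq⟩ := h.isConj_eqv (by norm_num) (by norm_num) h1
  have := h.cjA _ (hq ▸ h.cjA _ h.tA q) g
  simpa [mul_assoc] using this

theorem conjz [Finite X] (h : HD z R ψ A) {r : X} {i : ℕ} (hi : i < 256)
    (hd : C5.D4.testBit i = true) (e : Eqv z r (ψ i)) : IsConj z r := by
  obtain ⟨q, -, hq⟩ := h.isConj_eqv hi (by rintro rfl; revert hd; decide +kernel) e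
  exact (h.d4 i hi hd).trans (isConj_iff.2 ⟨q, hq⟩)

theorem notA (h : HD z R ψ A) {r : X} (hc : IsConj z r) : r ∉ A := fun a => by
  obtain ⟨g, rfl⟩ := isConj_iff.1 hc
  exact h.zA (by simpa [mul_assoc] using h.cjA _ a g⁻¹)

theorem d60 [Finite X] (h : HD z R ψ A) {r : X} {i : ℕ} (hi : i < 256) (e : Eqv z r (ψ i))
    (ha : r ∈ A) : D60.testBit i = true := by
  rcases T1 i hi ((h.sq i hi).1 (by rw [← eqv_sq h.xs (h.mem i) e, h.sqA r ha])) with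
    rfl | a | a
  · rcases eqv_one_iff.1 (e.trans h.zz h.zero) with rfl | rfl
    exacts [absurd ha h.oneA, absurd ha h.zA]
  · exact absurd ha (h.notA (h.conjz hi a e))
  · exact a

theorem ac_mul (h : HD z R ψ A) {g g' : X} {p p' : Equiv.Perm ℕ} (hg : g * z = z * g)
    (hp' : p' ∈ Γ) (a : Ac z ψ g p) (a' : Ac z ψ g' p') : Ac z ψ (g * g') (p * p') := fun i hi => by
  have := (a _ (lt256 hp' hi)).trans h.zz ((a' i hi).conj hg)
  simpa [mul_assoc] using this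

theorem ac_uniq (h : HD z R ψ A) {g : X} {p p' : Equiv.Perm ℕ} (hp : p ∈ Γ) (hp' : p' ∈ Γ)
    (a : Ac z ψ g p) (a' : Ac z ψ g p') : p = p' :=
  Equiv.ext fun i => (lt_or_ge i 256).elim (fun hi => h.inj _ (lt256 hp hi) _ (lt256 hp' hi)
    ((a i hi).trans h.zz ((a' i hi).symm h.zz))) fun hi => (supp hp i hi).trans (supp hp' i hi).symm

theorem ac_one (h : HD z R ψ A) {r : X} (hr : r ∈ R) : Ac z ψ r 1 := fun i _ =>
  Eqv.symm h.zz (h.xs.conj hr (h.mem i))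

theorem mem_of_ac [Finite X] (h : HD z R ψ A) {g : X} (hg : g * z = z * g) (a : Ac z ψ g 1) :
    g ∈ R := h.lx.mem_of_trivial fun x hx => by
  obtain ⟨i, hi, e⟩ := h.onto x hx
  exact ((e.conj hg).trans h.zz ((a i hi).symm h.zz)).trans h.zz (e.symm h.zz)

theorem exists_hom [Finite X] (h : HD z R ψ A) : ∃ γ : centralizer ({z} : Set X) →* Γ,
    Function.Surjective γ ∧ (∀ g : centralizer ({z} : Set X), Ac z ψ g (γ g)) ∧
    ∀ g, γ g = 1 ↔ (g : X) ∈ R := by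
  obtain ⟨γ, hγ⟩ := exists_hom_of_rel (fun (g : centralizer ({z} : Set X)) (p : Γ) => Ac z ψ g p)
    (fun g => by
      obtain ⟨p, hp, a⟩ := h.act g (mem_centralizer_singleton_iff.1 g.2)
      exact ⟨⟨p, hp⟩, a⟩)
    (fun g p p' a a' => Subtype.ext (h.ac_uniq p.2 p'.2 a a'))
    fun g p g' p' a a' => h.ac_mul (mem_centralizer_singleton_iff.1 g.2) p'.2 a a'
  refine ⟨γ, fun p => ?_, hγ, fun g => ⟨fun e => h.mem_of_ac (mem_centralizer_singleton_iff.1 g.2)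
    (by simpa [e] using hγ g), fun e => Subtype.ext (h.ac_uniq (γ g).2 (one_mem _) (hγ g)
      (h.ac_one e))⟩⟩
  obtain ⟨g, hg, a⟩ := h.lift p p.2
  exact ⟨⟨g, mem_centralizer_singleton_iff.2 hg⟩, Subtype.ext (h.ac_uniq (γ _).2 p.2 (hγ _) a)⟩

theorem fix (h : HD z R ψ A) {g : X} {p : Equiv.Perm ℕ} (hp : p ∈ Γ) (a : Ac z ψ g p) {i : ℕ}
    (hi : i < 256) (e : g * ψ i = ψ i * g) : p i = i :=
  h.inj _ (lt256 hp hi) _ hi (by simpa only [conj_eq_of_comm e] using a i hi)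

theorem actP (h : HD z R ψ A) {g : X} (hz : g * z = z * g) (ht : g * ψ 1 = ψ 1 * g) :
    ∃ p ∈ St, Ac z ψ g p := by
  obtain ⟨p, hp, a⟩ := h.act g hz
  exact ⟨p, ⟨hp, h.fix hp a (by norm_num) ht⟩, a⟩

theorem liftP (h : HD z R ψ A) {p : Equiv.Perm ℕ} (hp : p ∈ St) :
    ∃ g, g * z = z * g ∧ g * ψ 1 = ψ 1 * g ∧ Ac z ψ g p := by
  obtain ⟨g, hg, a⟩ := h.lift p hp.1
  have e := (a 1 (by norm_num)).symm h.zz
  rw [(mem_St.1 hp).2] at e
  rcases e with e | e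
  · exact ⟨g, hg, comm_of_conj_eq e, a⟩
  · refine ⟨g * ψ 4, comm_mul_left hg (h.zc 4), comm_of_conj_eq ?_, by
      simpa using h.ac_mul hg (one_mem _) a (h.ac_one (h.mem 4))⟩
    calc g * ψ 4 * ψ 1 * (g * ψ 4)⁻¹ = g * (ψ 4 * ψ 1 * (ψ 4)⁻¹) * g⁻¹ := by group
      _ = g * ψ 1 * g⁻¹ * (g * z * g⁻¹) := by rw [h.ncm 4 1 (by decide +kernel)]; group
      _ = _ := by rw [e, conj_eq_of_comm hg, h.xs.mul_z_z]

theorem tt (h : HD z R ψ A) : ψ 1 * ψ 1 = 1 := h.sqA _ h.tA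

theorem ff (h : HD z R ψ A) : ψ 254 * ψ 254 = z :=
  (h.xs.sq (h.mem 254)).resolve_left fun e =>
    absurd ((h.sq 254 (by norm_num)).1 e) (by decide +kernel)

theorem conj_f (h : HD z R ψ A) {g : X} {p : Equiv.Perm ℕ} (hp : p ∈ St) (a : Ac z ψ g p) :
    p 254 = 254 ∧ Eqv z (g * ψ 254 * g⁻¹) (ψ 254) ∨
      p 254 = 255 ∧ Eqv z (g * ψ 254 * g⁻¹) (ψ 254 * ψ 1) := by
  have e := (a 254 (by norm_num)).symm h.zz
  refine (E1 hp).imp (fun b => ⟨b, by rwa [b] at e⟩) fun b => ⟨b, ?_⟩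
  rw [b] at e
  exact e.trans h.zz (h.add 254 (by norm_num) 1 (by norm_num))

theorem cent_W [Finite X] (h : HD z R ψ A) {c : X} (hz : c * z = z * c)
    (hc : ∀ a ∈ [1, 254, 2, 12, 20, 36], c * ψ a = ψ a * c) : c ∈ Cp R ψ [1, 254] ∧
      (c * ψ 144 = ψ 144 * c → Eqv z c 1 ∨ Eqv z c (ψ 1)) := by
  obtain ⟨p, hp, a⟩ := h.actP hz (hc 1 (by simp))
  obtain rfl := E5 hp fun i hi => h.fix hp.1 a (by revert i; decide)
    (hc i (List.mem_cons_of_mem _ hi))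
  have hR := h.mem_of_ac hz a
  obtain ⟨i, hi, e⟩ := h.onto c hR
  obtain ⟨h1, h2⟩ := T3 i hi ((h.mem_Cp' (by decide) hi e).1 (mem_Cp.2 ⟨hR, hc⟩))
  refine ⟨(h.mem_Cp' (by decide) hi e).2 h1, fun hu => ?_⟩
  rcases h2 ((h.comm_iff' hi (by norm_num) e).1 hu) with rfl | rfl
  exacts [Or.inl (e.trans h.zz h.zero), Or.inr e]

theorem eq_z [Finite X] (h : HD z R ψ A) {c : X} (hc : IsConj z c)
    (e : Eqv z c 1 ∨ Eqv z c (ψ 1)) : c = z := by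
  rcases e with e | e
  · exact (eqv_one_iff.1 e).resolve_left fun a => h.lx.z_ne (isConj_one_left.1 (a ▸ hc))
  · exact absurd (h.memA (by norm_num) (by decide +kernel) e) (h.notA hc)

/-- The centralizer of `t` and `z`. -/
def P (z : X) (ψ : ℕ → X) : Subgroup X := centralizer {ψ 1} ⊓ centralizer {z}

theorem mem_P {g : X} : g ∈ P z ψ ↔ g * ψ 1 = ψ 1 * g ∧ g * z = z * g := by
  simp only [P, mem_inf, mem_centralizer_singleton_iff]

theorem Cp_le (h : HD z R ψ A) {l : List ℕ} (hl : 1 ∈ l) : Cp R ψ l ≤ P z ψ := fun r hr =>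
  mem_P.2 ⟨(mem_Cp.1 hr).2 1 hl, h.lx.z_comm r hr.1⟩

theorem odd_index [Finite X] (h : HD z R ψ A) :
    Odd ((P z ψ).subgroupOf (centralizer {ψ 1})).index := by
  obtain ⟨T, hT, hle⟩ := exists_isSyl_ge (p := 2) (h.xs.isPGroup.to_le inf_le_left)
    (h.Cp_le (l := [1]) (by simp))
  have h1 : centralizer {ψ 1} ⊓ normalizer (T : Set X) ≤ P z ψ := by
    rintro n ⟨hn, hn'⟩
    refine ⟨hn, mem_centralizer_singleton_iff.2 (comm_of_conj_eq ?_)⟩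
    have h2 : ∀ x ∈ T, n * z * n⁻¹ * x = x * (n * z * n⁻¹) := fun x hx => by
      have := (mem_P.1 (hT.le ((mem_normalizer_iff''.1 hn' x).1 hx))).2
      calc n * z * n⁻¹ * x = n * (z * (n⁻¹ * x * n)) * n⁻¹ := by group
        _ = _ := by rw [← this]; group
    refine h.eq_z (isConj_iff.2 ⟨n, rfl⟩) ((h.cent_W (h2 z (hle (h.z_mem_Cp _))) fun a ha =>
      h2 _ (hle (h.psi_mem _ a ?_))).2 (h2 _ (hle (h.psi_mem _ 144 (by decide +kernel)))))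
    revert a; decide +kernel
  have h2 := (isSyl_of_isSyl_normalizer (hT.mono (le_inf (hT.le.trans inf_le_left)
    le_normalizer) h1)).not_dvd_relIndex
  exact Nat.not_even_iff_odd.1 fun e => h2 (e.two_dvd.trans (relIndex_dvd_of_le_left _ hT.le))

theorem tz_sq (h : HD z R ψ A) : ψ 1 * z * (ψ 1 * z) = 1 := by
  rw [mul_assoc, ← mul_assoc z, ← h.zc 1, h.xs.mul_z_z, h.tt]

theorem comm_tz {g : X} (hg : g ∈ P z ψ) : g * (ψ 1 * z) = ψ 1 * z * g :=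
  (comm_mul_left (mem_P.1 hg).1.symm (mem_P.1 hg).2.symm).symm

/-- The subgroup of index two of `P`. -/
def Q1 (h : HD z R ψ A) : Subgroup X where
  carrier := {g | g ∈ P z ψ ∧ Eqv (ψ 1 * z) (g * ψ 254 * g⁻¹) (ψ 254)}
  one_mem' := ⟨one_mem _, Or.inl (by simp)⟩
  mul_mem' := fun {a b} ha hb => ⟨mul_mem ha.1 hb.1, by
    have := (hb.2.conj (comm_tz ha.1)).trans h.tz_sq ha.2
    simpa [mul_assoc] using this⟩
  inv_mem' := fun {a} ha => ⟨inv_mem ha.1, by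
    have := (ha.2.conj (comm_tz (inv_mem ha.1))).symm h.tz_sq
    simpa [mul_assoc] using this⟩

theorem u_mem (h : HD z R ψ A) : ψ 144 ∈ P z ψ := mem_P.2 ⟨h.cm 144 1 (by decide +kernel), h.zc _⟩

theorem t_ne (h : HD z R ψ A) : ψ 1 ≠ 1 ∧ ψ 1 ≠ z := h.ne (by norm_num) (by norm_num) (Eqv.refl _ _)

theorem relIndex_Q1 (h : HD z R ψ A) : h.Q1.relIndex (P z ψ) = 2 := by
  refine index_eq_two_iff.2 ⟨⟨ψ 144, h.u_mem⟩, fun b => ?_⟩
  obtain ⟨p, hp, a⟩ := h.actP (mem_P.1 b.2).2 (mem_P.1 b.2).1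
  have e : (b : X) * ψ 144 * ψ 254 * (b * ψ 144 : X)⁻¹ = b * ψ 254 * (b : X)⁻¹ * z := by
    calc (b : X) * ψ 144 * ψ 254 * (b * ψ 144 : X)⁻¹
        = b * (ψ 144 * ψ 254 * (ψ 144)⁻¹) * (b : X)⁻¹ := by group
      _ = b * ψ 254 * (b : X)⁻¹ * (b * z * (b : X)⁻¹) := by
        rw [h.ncm 144 254 (by decide +kernel)]; group
      _ = _ := by rw [conj_eq_of_comm (mem_P.1 b.2).2]
  have e1 : b * ⟨ψ 144, h.u_mem⟩ ∈ h.Q1.subgroupOf (P z ψ) ↔
      Eqv (ψ 1 * z) (b * ψ 254 * (b : X)⁻¹ * z) (ψ 254) := by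
    rw [← e]; exact and_iff_right (mul_mem b.2 h.u_mem)
  have e2 : b ∈ h.Q1.subgroupOf (P z ψ) ↔ Eqv (ψ 1 * z) (b * ψ 254 * (b : X)⁻¹) (ψ 254) :=
    and_iff_right b.2
  have n1 := h.lx.z_ne
  have n2 := h.t_ne
  have n3 : ψ 1 * z ≠ 1 := fun a => n2.2 (by rw [← h.xs.mul_z_z (ψ 1), a, one_mul])
  rw [e1, e2]
  rcases h.conj_f hp a with ⟨-, c | c⟩ | ⟨-, c | c⟩ <;> rw [c] <;>
    simp [Eqv, Xor, mul_assoc, h.zz, n1, n2.1, n2.1.symm, n3, n1.symm]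

theorem no_conj [Finite X] (h : HD z R ψ A) {e : X} (h1 : e ∈ A) (h2 : e * ψ 1 ∈ A) :
    e ∉ h.Q1 := by
  rintro ⟨hP, hQ⟩
  obtain ⟨ht, hz⟩ := mem_P.1 hP
  have hee := h.sqA e h1
  have hi : e⁻¹ = e := inv_eq_of_mul_eq_one_right hee
  have hR : e ∉ R := fun hR => by
    obtain ⟨i, hi, a⟩ := h.onto e hR
    have hf : e * ψ 254 = ψ 254 * e := by
      rcases hQ with c | c
      · exact comm_of_conj_eq c
      rcases h.xs.conj hR (h.mem 254) with d | d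
      · exact comm_of_conj_eq d
      · rw [d, mul_right_inj] at c
        exact absurd (by simpa using c) h.t_ne.1
    have := Tb2 i hi ((h.mem_Cp' (by decide) hi a).1 (mem_Cp.2 ⟨hR, by simp [ht, hf]⟩))
      (h.d60 hi a h1)
    rw [h.d60 (xor_lt hi (by norm_num)) (h.add' hi (by norm_num) a (Eqv.refl _ _)) h2] at this
    exact absurd this (by simp)
  rcases hQ with c | c
  · obtain ⟨p, hp, a⟩ := h.actP hz ht
    have c' := comm_of_conj_eq c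
    obtain ⟨v, hv, e1⟩ := E2 hp (h.ac_uniq (mul_mem hp.1 hp.1) (one_mem _) (h.ac_mul hz hp.1 a a)
      (hee ▸ h.ac_one (one_mem _))) (fun b => hR (h.mem_of_ac hz (b ▸ a)))
      (h.fix hp.1 a (by norm_num) c')
    have e2 := h.add' (lt256 hp.1 hv) hv ((a v hv).symm h.zz)
      (show Eqv z (ψ v)⁻¹ (ψ v) from h.xs.inv (h.mem v))
    rw [e1] at e2
    have e3 : e * ψ v * e⁻¹ * (ψ v)⁻¹ * e = e * (e * ψ v * e⁻¹ * (ψ v)⁻¹) := by
      rcases e2 with d | d <;> rw [d]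
      · exact c'.symm
      · exact comm_mul_left c'.symm hz.symm
    have e4 := eqv_sq h.xs (h.mem _) e2
    rw [h.ff] at e4
    refine h.lx.z_ne ?_
    calc z = e * (e * ψ v * e⁻¹ * (ψ v)⁻¹ * (e * ψ v * e⁻¹ * (ψ v)⁻¹)) * e⁻¹ := by
          rw [e4, conj_eq_of_comm hz]
      _ = e * (e * ψ v * e⁻¹ * (ψ v)⁻¹) * (e * ψ v * e⁻¹ * (ψ v)⁻¹ * e⁻¹) := by group
      _ = e * (e * ψ v * e⁻¹ * (ψ v)⁻¹) * (e * (e * ψ v * e⁻¹ * (ψ v)⁻¹)) := by
          rw [← e3, hi]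
      _ = (e * e) * (ψ v * (e⁻¹ * ((ψ v)⁻¹ * (e * e) * ψ v) * e⁻¹) * (ψ v)⁻¹) := by group
      _ = 1 := by rw [hee, hi]; simp [hee]
  · refine hR ?_
    have e1 : e * ψ 1 * z = (ψ 254)⁻¹ * e * (ψ 254)⁻¹⁻¹ := by
      rw [inv_inv, mul_assoc (ψ 254)⁻¹, mul_inv_eq_iff_eq_mul.1 c, mul_assoc (ψ 254),
        inv_mul_cancel_left, ← comm_tz hP, mul_assoc]
    have := mul_mem (h.l1 _ h2 (e1 ▸ h.cjA e h1 _)) (h.mem 1)
    rwa [mul_assoc, h.tt, mul_one] at this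

theorem uA [Finite X] (h : HD z R ψ A) : ψ 144 ∈ A ∧ ψ 144 * ψ 1 ∈ A :=
  ⟨h.memA (by norm_num) (by decide +kernel) (Eqv.refl _ _), h.memA (i := 144 ^^^ 1) (by norm_num)
    (by decide +kernel) ((h.add _ (by norm_num) _ (by norm_num)).symm h.zz)⟩

theorem exists_N [Finite X] (h : HD z R ψ A) : ∃ N : Subgroup X, N ≤ centralizer {ψ 1} ∧
    (N.subgroupOf (centralizer {ψ 1})).index = 2 ∧ ψ 144 ∉ N := by
  have hu : orderOf (⟨ψ 144, h.u_mem.1⟩ : centralizer ({ψ 1} : Set X)) = 2 := by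
    rw [orderOf_mk]
    exact orderOf_eq_prime (by rw [pow_two, h.sqA _ h.uA.1]) fun e => h.oneA (e ▸ h.uA.1)
  rcases Transfer.thompson_transfer h.odd_index (Q := h.Q1.subgroupOf _)
    (by rw [relIndex_subgroupOf (K := P z ψ) inf_le_left, h.relIndex_Q1]) hu with ⟨M, -, h1, h2⟩ | ⟨g, hg⟩
  · refine ⟨M.map (Subgroup.subtype _), map_subtype_le _, ?_, fun e => h2 (coe_mem_map_subtype.1 e)⟩
    rwa [subgroupOf, comap_map_eq_self_of_injective (subtype_injective _)]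
  · refine absurd hg (h.no_conj (h.cjA _ h.uA.1 g) ?_)
    have := h.cjA _ h.uA.2 g
    rwa [← conj_mul, conj_eq_of_comm (mem_centralizer_singleton_iff.1 g.2)] at this

end HD

end Cfsg.Agent.Mon.HN
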