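import Cfsg.Agent.SylT.RuE
import Cfsg.Agent.Comp.Cent
import Cfsg.Agent.TT.LX

/-!
# A criterion for the shape `4^3 : GL(3,2)` of the normalizer of an elementary group of order 8
-/

set_option autoImplicit false

namespace Cfsg.Agent.Mon.HN

open Subgroup Cfsg Cfsg.Agent.TT Multiplicative

variable {Y : Type*} [Group Y]

theorem pow_val_add {n : ℕ} [NeZero n] {x : Y} (hx : x ^ n = 1) (a b : ZMod n) :
    x ^ (a + b).val = x ^ a.val * x ^ b.val := by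
  rw [ZMod.val_add, ← pow_eq_pow_mod _ hx, pow_add]

/-- The homomorphism from `(ℤ/n)^3` given by three commuting elements. -/
def hom3 (n : ℕ) [NeZero n] {x y w : Y} (hx : x ^ n = 1) (hy : y ^ n = 1) (hw : w ^ n = 1)
    (xy : Commute x y) (xw : Commute x w) (yw : Commute y w) :
    Multiplicative (ZMod n × ZMod n × ZMod n) →* Y :=
  MonoidHom.mk' (fun a => x ^ a.toAdd.1.val * y ^ a.toAdd.2.1.val * w ^ a.toAdd.2.2.val)
    fun a b => by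
      simp only [toAdd_mul, Prod.fst_add, Prod.snd_add, pow_val_add hx, pow_val_add hy,
        pow_val_add hw, mul_assoc]
      rw [← mul_assoc (w ^ _) (x ^ _), ← (xw.pow_pow _ _).eq, mul_assoc,
        ← mul_assoc (y ^ a.toAdd.2.1.val) (x ^ _), ← (xy.pow_pow _ _).eq, mul_assoc,
        ← mul_assoc (w ^ _) (y ^ _), ← (yw.pow_pow _ _).eq, mul_assoc]

abbrev T2 : Type := ZMod 2 × ZMod 2 × ZMod 2

def stp (k : ℕ) (t : T2 × T2 × T2) : T2 × T2 × T2 :=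
  if k = 0 then (t.1, t.2.1, t.2.2 + t.1) else if k = 1 then (t.1 + t.2.1, t.2.1, t.2.2)
  else (t.1, t.2.1 + t.2.2, t.2.2)

def run (w : List ℕ) : T2 × T2 × T2 := w.foldr stp ((1, 0, 0), (0, 1, 0), (0, 0, 1))

def WL : List (List ℕ) :=
  [[], [0], [1], [2], [1,0], [2,0], [0,1], [2,1], [0,2], [1,2], [0,1,0], [2,1,0], [0,2,0],
   [1,2,0], [1,0,1], [2,0,1], [0,2,1], [1,2,1], [1,0,2], [2,0,2], [0,1,2], [2,1,2], [1,0,1,0],
   [2,0,1,0], [0,2,1,0], [1,2,1,0], [1,0,2,0], [2,0,2,0], [0,1,2,0], [2,1,2,0], [2,1,0,1],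
   [0,2,0,1], [1,2,0,1], [1,0,2,1], [2,0,2,1], [0,1,2,1], [2,1,2,1], [0,1,0,2], [2,1,0,2],
   [1,2,0,2], [1,0,1,2], [2,0,1,2], [0,2,1,2], [2,1,0,1,0], [0,2,0,1,0], [1,2,0,1,0],
   [1,0,2,1,0], [2,0,2,1,0], [0,1,2,1,0], [2,1,2,1,0], [0,1,0,2,0], [2,1,0,2,0], [1,2,0,2,0],
   [1,0,1,2,0], [2,0,1,2,0], [0,2,1,2,0], [0,2,1,0,1], [1,2,1,0,1], [1,0,2,0,1], [2,0,2,0,1],
   [0,1,2,0,1], [2,1,2,0,1], [0,1,0,2,1], [2,1,0,2,1], [1,2,0,2,1], [1,0,1,2,1], [2,0,1,2,1],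
   [0,2,1,2,1], [1,0,1,0,2], [2,0,1,0,2], [0,2,1,0,2], [1,2,1,0,2], [0,1,2,0,2], [2,1,2,0,2],
   [2,1,0,1,2], [0,2,0,1,2], [1,2,0,1,2], [1,0,2,1,2], [2,0,2,1,2], [0,2,1,0,1,0], [1,2,1,0,1,0],
   [1,0,2,0,1,0], [2,0,2,0,1,0], [0,1,2,0,1,0], [2,1,2,0,1,0], [0,1,0,2,1,0], [2,1,0,2,1,0],
   [1,2,0,2,1,0], [1,0,1,2,1,0], [2,0,1,2,1,0], [0,2,1,2,1,0], [1,0,1,0,2,0], [2,0,1,0,2,0],
   [0,2,1,0,2,0], [1,2,1,0,2,0], [0,1,2,0,2,0], [2,1,2,0,2,0], [2,1,0,1,2,0], [0,2,0,1,2,0],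
   [1,2,0,1,2,0], [1,0,2,1,2,0], [2,0,2,1,2,0], [1,0,2,1,0,1], [2,0,2,1,0,1], [0,1,2,1,0,1],
   [2,1,2,1,0,1], [2,1,0,2,0,1], [1,2,0,2,0,1], [1,0,1,2,0,1], [2,0,1,2,0,1], [0,2,1,2,0,1],
   [1,0,1,0,2,1], [2,0,1,0,2,1], [0,2,1,0,2,1], [1,2,1,0,2,1], [0,1,2,0,2,1], [2,1,2,0,2,1],
   [0,2,0,1,2,1], [1,2,0,1,2,1], [1,0,2,1,2,1], [2,0,2,1,2,1], [2,1,0,1,0,2], [1,2,0,1,0,2],
   [1,0,2,1,0,2], [2,0,2,1,0,2], [0,1,2,1,0,2], [2,1,2,1,0,2], [1,0,1,2,0,2], [2,0,1,2,0,2],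
   [0,2,1,0,1,2], [1,0,2,0,1,2], [2,0,2,0,1,2], [0,1,2,0,1,2], [2,1,2,0,1,2], [0,1,0,2,1,2],
   [2,1,0,2,1,2], [1,0,2,1,0,1,0], [0,1,2,1,0,1,0], [2,1,0,2,0,1,0], [1,0,1,2,0,1,0],
   [2,0,1,2,0,1,0], [1,0,1,0,2,1,0], [2,0,1,0,2,1,0], [0,2,1,0,2,1,0], [1,2,1,0,2,1,0],
   [2,1,2,0,2,1,0], [1,2,0,1,2,1,0], [1,2,0,1,0,2,0], [1,0,2,1,0,2,0], [2,0,2,1,0,2,0],
   [2,0,1,2,0,2,0], [1,0,2,0,1,2,0], [2,0,2,0,1,2,0], [0,1,2,0,1,2,0], [2,1,2,0,1,2,0],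
   [2,1,0,2,1,2,0], [2,1,0,2,1,0,1], [2,0,1,2,1,0,1], [0,2,0,1,2,0,1], [2,0,2,1,2,0,1],
   [2,1,2,1,0,2,1], [2,1,0,2,1,2,1], [2,1,0,2,1,0,1,0], [2,0,1,2,1,0,1,0], [0,2,0,1,2,0,1,0],
   [2,1,2,1,0,2,1,0], [1,2,1,0,2,1,0,1], [2,0,2,0,1,2,0,1]]

theorem WL_nodup : (WL.map run).Nodup := by decide +kernel

theorem WL_len : (WL.map run).length = 168 := by decide +kernel

/-- The hypotheses of the criterion. -/
structure VD (v1 v2 v3 t1 t2 t3 f : Y) : Prop where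
  s1 : v1 ^ 2 = 1
  s2 : v2 ^ 2 = 1
  s3 : v3 ^ 2 = 1
  c12 : Commute v1 v2
  c13 : Commute v1 v3
  c23 : Commute v2 v3
  ind : ∀ a < 2, ∀ b < 2, ∀ c < 2, v1 ^ a * v2 ^ b * v3 ^ c = 1 → a = 0 ∧ b = 0 ∧ c = 0
  a1 : t1 * v1 * t1⁻¹ = v1 ∧ t1 * v2 * t1⁻¹ = v2 ∧ t1 * v3 * t1⁻¹ = v3 * v1
  a2 : t2 * v1 * t2⁻¹ = v1 * v2 ∧ t2 * v2 * t2⁻¹ = v2 ∧ t2 * v3 * t2⁻¹ = v3
  a3 : t3 * v1 * t3⁻¹ = v1 ∧ t3 * v2 * t3⁻¹ = v2 * v3 ∧ t3 * v3 * t3⁻¹ = v3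
  ff : f * f = v1
  f2 : Commute f v2
  f3 : Commute f v3
  hf : ∀ h, h * v1 = v1 * h → h * f * h⁻¹ = f ∨ h * f * h⁻¹ = f * v1

namespace VD

variable {v1 v2 v3 t1 t2 t3 f : Y}

/-- The parametrisation of `V`. -/
def e (h : VD v1 v2 v3 t1 t2 t3 f) : Multiplicative T2 →* Y := hom3 2 h.s1 h.s2 h.s3 h.c12 h.c13 h.c23

theorem e_apply (h : VD v1 v2 v3 t1 t2 t3 f) (a : Multiplicative T2) :
    h.e a = v1 ^ a.toAdd.1.val * v2 ^ a.toAdd.2.1.val * v3 ^ a.toAdd.2.2.val := rfl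

theorem e1 (h : VD v1 v2 v3 t1 t2 t3 f) : h.e (ofAdd (1, 0, 0)) = v1 := by
  simp [e_apply, ZMod.val_one]

theorem e2 (h : VD v1 v2 v3 t1 t2 t3 f) : h.e (ofAdd (0, 1, 0)) = v2 := by
  simp [e_apply, ZMod.val_one]

theorem e3 (h : VD v1 v2 v3 t1 t2 t3 f) : h.e (ofAdd (0, 0, 1)) = v3 := by
  simp [e_apply, ZMod.val_one]

theorem e_inj (h : VD v1 v2 v3 t1 t2 t3 f) : Function.Injective h.e := by
  rw [injective_iff_map_eq_one]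
  intro a ha
  obtain ⟨h1, h2, h3⟩ := h.ind _ (ZMod.val_lt _) _ (ZMod.val_lt _) _ (ZMod.val_lt _) ha
  rw [ZMod.val_eq_zero] at h1 h2 h3
  exact toAdd.injective (Prod.ext h1 (Prod.ext h2 h3))

/-- The elementary group of order 8. -/
def V (h : VD v1 v2 v3 t1 t2 t3 f) : Subgroup Y := h.e.range

theorem card_V (h : VD v1 v2 v3 t1 t2 t3 f) : Nat.card h.V = 8 := by
  rw [V, ← Nat.card_congr (MonoidHom.ofInjective h.e_inj).toEquiv]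
  simp

theorem comm_V (h : VD v1 v2 v3 t1 t2 t3 f) : IsMulCommutative h.V := by
  refine ⟨⟨?_⟩⟩
  rintro ⟨_, a, rfl⟩ ⟨_, b, rfl⟩
  exact Subtype.ext (by simp [← map_mul, mul_comm a b])

theorem exp_V (h : VD v1 v2 v3 t1 t2 t3 f) : ∀ v ∈ h.V, v ^ 2 = 1 := by
  rintro _ ⟨a, rfl⟩
  rw [← map_pow, show ∀ a : Multiplicative T2, a ^ 2 = 1 by decide, map_one]

theorem V_le (h : VD v1 v2 v3 t1 t2 t3 f) {H : Subgroup Y} (h1 : v1 ∈ H) (h2 : v2 ∈ H)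
    (h3 : v3 ∈ H) : h.V ≤ H := by
  rintro _ ⟨a, rfl⟩
  exact mul_mem (mul_mem (pow_mem h1 _) (pow_mem h2 _)) (pow_mem h3 _)

theorem mem_cent (h : VD v1 v2 v3 t1 t2 t3 f) {c : Y} : c ∈ centralizer (h.V : Set Y) ↔
    Commute c v1 ∧ Commute c v2 ∧ Commute c v3 := by
  constructor
  · intro hc
    exact ⟨(hc _ ⟨_, h.e1⟩).symm, (hc _ ⟨_, h.e2⟩).symm, (hc _ ⟨_, h.e3⟩).symm⟩
  · rintro ⟨h1, h2, h3⟩ _ ⟨a, rfl⟩
    exact (((h1.pow_right _).mul_right (h2.pow_right _)).mul_right (h3.pow_right _)).eq.symm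

/-- `g` maps the basis to the triple `t`. -/
def Mv (h : VD v1 v2 v3 t1 t2 t3 f) (g : Y) (t : T2 × T2 × T2) : Prop :=
  g * v1 * g⁻¹ = h.e (ofAdd t.1) ∧ g * v2 * g⁻¹ = h.e (ofAdd t.2.1) ∧
    g * v3 * g⁻¹ = h.e (ofAdd t.2.2)

theorem exists_mv (h : VD v1 v2 v3 t1 t2 t3 f) (w : List ℕ) : ∃ g, h.Mv g (run w) := by
  induction w with
  | nil => exact ⟨1, by simpa [run] using h.e1.symm, by simpa [run] using h.e2.symm,
      by simpa [run] using h.e3.symm⟩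
  | cons k w ih =>
    obtain ⟨g, h1, h2, h3⟩ := ih
    have c : ∀ t x : Y, g * t * x * (g * t)⁻¹ = g * (t * x * t⁻¹) * g⁻¹ := fun t x => by group
    have e : run (k :: w) = stp k (run w) := rfl
    rw [e, stp]
    split_ifs
    · exact ⟨g * t1, by rw [c, h.a1.1, h1], by rw [c, h.a1.2.1, h2],
        by rw [c, h.a1.2.2, ← conj_mul, h1, h3, ofAdd_add, map_mul]⟩
    · exact ⟨g * t2, by rw [c, h.a2.1, ← conj_mul, h1, h2, ofAdd_add, map_mul],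
        by rw [c, h.a2.2.1, h2], by rw [c, h.a2.2.2, h3]⟩
    · exact ⟨g * t3, by rw [c, h.a3.1, h1],
        by rw [c, h.a3.2.1, ← conj_mul, h2, h3, ofAdd_add, map_mul], by rw [c, h.a3.2.2, h3]⟩

theorem Mv.norm [Finite Y] {h : VD v1 v2 v3 t1 t2 t3 f} {g : Y} {t : T2 × T2 × T2}
    (hg : h.Mv g t) : g ∈ normalizer (h.V : Set Y) := by
  refine mem_normalizer_fintype ?_
  rintro _ ⟨a, rfl⟩
  rw [e_apply, ← conj_mul, ← conj_mul, ← conj_pow, ← conj_pow, ← conj_pow, hg.1, hg.2.1, hg.2.2]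
  exact h.V.mul_mem (h.V.mul_mem (h.V.pow_mem ⟨_, rfl⟩ _) (h.V.pow_mem ⟨_, rfl⟩ _))
    (h.V.pow_mem ⟨_, rfl⟩ _)

theorem exists_hom [Finite Y] (h : VD v1 v2 v3 t1 t2 t3 f) :
    ∃ F : normalizer (h.V : Set Y) →* GL (Fin 3) (ZMod 2), Function.Surjective F ∧
      F.ker = (centralizer (h.V : Set Y)).subgroupOf _ := by
  have := h.comm_V
  obtain ⟨j, hj⟩ := Misc.AutElem.exists_injective_GL (V := h.V) (p := 2) (n := 3)
    (fun x y => this.is_comm.comm x y) (fun x => Subtype.ext (h.exp_V x x.2))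
    (by rw [h.card_V]; norm_num)
  refine ⟨j.comp h.V.normalizerMonoidHom, ?_, by
    rw [← MonoidHom.comap_ker, (MonoidHom.ker_eq_bot_iff j).2 hj, MonoidHom.comap_bot,
      normalizerMonoidHom_ker]⟩
  have ex : ∀ t : (WL.map run).toFinset, ∃ g : normalizer (h.V : Set Y), h.Mv g t := by
    rintro ⟨t, ht⟩
    obtain ⟨w, -, rfl⟩ := List.mem_map.1 (List.mem_toFinset.1 ht)
    obtain ⟨g, hg⟩ := h.exists_mv w
    exact ⟨⟨g, hg.norm⟩, hg⟩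
  choose g hg using ex
  rw [← MonoidHom.range_eq_top]
  refine eq_top_of_le_card _ ?_
  rw [SylT.Ru.card_GL3, ← WL_len, ← List.toFinset_card_of_nodup WL_nodup, ← Nat.card_eq_finsetCard]
  refine Nat.card_le_card_of_injective (fun t => ⟨_, g t, rfl⟩) fun a b e => ?_
  have e1 : h.V.normalizerMonoidHom (g a) = h.V.normalizerMonoidHom (g b) :=
    hj (congrArg Subtype.val e)
  have e2 : ∀ x ∈ h.V, (g a : Y) * x * (g a : Y)⁻¹ = (g b : Y) * x * (g b : Y)⁻¹ := fun x hx => by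
    have := congrArg Subtype.val (DFunLike.congr_fun e1 ⟨x, hx⟩)
    exact this
  have a1 := e2 v1 ⟨_, h.e1⟩
  have a2 := e2 v2 ⟨_, h.e2⟩
  have a3 := e2 v3 ⟨_, h.e3⟩
  rw [(hg a).1, (hg b).1] at a1
  rw [(hg a).2.1, (hg b).2.1] at a2
  rw [(hg a).2.2, (hg b).2.2] at a3
  exact Subtype.ext (Prod.ext (ofAdd.injective (h.e_inj a1))
    (Prod.ext (ofAdd.injective (h.e_inj a2)) (ofAdd.injective (h.e_inj a3))))

/-- A square root of `v` centralising `V` whose cyclic group is normal in `C(v)`. -/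
def Rt (h : VD v1 v2 v3 t1 t2 t3 f) (v x : Y) : Prop :=
  x * x = v ∧ x ∈ centralizer (h.V : Set Y) ∧
    ∀ c, c * v = v * c → c * x * c⁻¹ = x ∨ c * x * c⁻¹ = x * v

theorem rt1 (h : VD v1 v2 v3 t1 t2 t3 f) : h.Rt v1 f :=
  ⟨h.ff, h.mem_cent.2 ⟨h.ff ▸ (Commute.refl f).mul_right (Commute.refl f), h.f2, h.f3⟩, h.hf⟩

theorem rt_conj [Finite Y] (h : VD v1 v2 v3 t1 t2 t3 f) {g : Y} {t : T2 × T2 × T2}
    (hg : h.Mv g t) : h.Rt (h.e (ofAdd t.1)) (g * f * g⁻¹) := by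
  rw [← hg.1]
  refine ⟨by rw [conj_mul, h.ff], fun x hx => ?_, fun c hc => ?_⟩
  · have := h.rt1.2.1 _ ((mem_normalizer_iff''.1 hg.norm x).1 hx)
    calc x * (g * f * g⁻¹) = g * (g⁻¹ * x * g * f) * g⁻¹ := by group
      _ = _ := by rw [this]; group
  · have e : c * (g * f * g⁻¹) * c⁻¹ = g * (g⁻¹ * c * g * f * (g⁻¹ * c * g)⁻¹) * g⁻¹ := by group
    rw [e, conj_mul]
    refine (h.hf (g⁻¹ * c * g) ?_).imp (fun a => by rw [a]) fun a => by rw [a]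
    calc g⁻¹ * c * g * v1 = g⁻¹ * (c * (g * v1 * g⁻¹)) * g := by group
      _ = _ := by rw [hc]; group

theorem Rt.comm {h : VD v1 v2 v3 t1 t2 t3 f} {v w x y : Y} (hv : v ∈ h.V) (hw : w ∈ h.V)
    (hne : v * w ≠ 1) (hx : h.Rt v x) (hy : h.Rt w y) : Commute x y := by
  rcases hy.2.2 x (hx.2.1 w hw).symm with e | e
  · exact comm_of_conj_eq e
  rcases hx.2.2 y (hy.2.1 v hv).symm with e' | e'
  · exact (comm_of_conj_eq e').symm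
  refine absurd ?_ hne
  have a := mul_inv_eq_iff_eq_mul.1 e
  have b := mul_inv_eq_iff_eq_mul.1 e'
  rw [mul_assoc, hx.2.1 w hw, ← mul_assoc, b, mul_assoc x, hy.2.1 v hv, ← mul_assoc, mul_assoc,
    left_eq_mul] at a
  exact a

theorem exists_equiv [Finite Y] (h : VD v1 v2 v3 t1 t2 t3 f)
    (hc : Nat.card (centralizer (h.V : Set Y)) ≤ 64) :
    Nonempty (centralizer (h.V : Set Y) ≃* Multiplicative (ZMod 4 × ZMod 4 × ZMod 4)) := by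
  obtain ⟨g2, h2⟩ := h.exists_mv [1, 2, 0, 2]
  obtain ⟨g3, h3⟩ := h.exists_mv [1, 2, 1, 0]
  have r1 := h.rt1
  have r2 := h.rt_conj h2
  have r3 := h.rt_conj h3
  rw [show (run [1, 2, 0, 2]).1 = (0, 1, 0) by decide, h.e2] at r2
  rw [show (run [1, 2, 1, 0]).1 = (0, 0, 1) by decide, h.e3] at r3
  generalize g2 * f * g2⁻¹ = x2 at r2
  generalize g3 * f * g3⁻¹ = x3 at r3
  have p4 : ∀ {v x : Y}, v ^ 2 = 1 → h.Rt v x → x ^ 4 = 1 := fun {v x} a b => by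
    rw [show 4 = 2 * 2 from rfl, pow_mul, pow_two x, b.1, a]
  have m1 : v1 ∈ h.V := ⟨_, h.e1⟩
  have m2 : v2 ∈ h.V := ⟨_, h.e2⟩
  have m3 : v3 ∈ h.V := ⟨_, h.e3⟩
  have c12 := r1.comm m1 m2 (fun e => by simpa using h.ind 1 (by omega) 1 (by omega) 0 (by omega) (by simpa using e)) r2
  have c13 := r1.comm m1 m3 (fun e => by simpa using h.ind 1 (by omega) 0 (by omega) 1 (by omega) (by simpa using e)) r3
  have c23 := r2.comm m2 m3 (fun e => by simpa using h.ind 0 (by omega) 1 (by omega) 1 (by omega) (by simpa using e)) r3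
  let j := hom3 4 (p4 h.s1 r1) (p4 h.s2 r2) (p4 h.s3 r3) c12 c13 c23
  have hj : ∀ a, j a = f ^ a.toAdd.1.val * x2 ^ a.toAdd.2.1.val * x3 ^ a.toAdd.2.2.val :=
    fun _ => rfl
  have key : ∀ a b c : ℕ, f ^ (2 * a) * x2 ^ (2 * b) * x3 ^ (2 * c) = 1 →
      a % 2 = 0 ∧ b % 2 = 0 ∧ c % 2 = 0 := fun a b c e => by
    rw [pow_mul, pow_mul, pow_mul, pow_two, pow_two, pow_two, r1.1, r2.1, r3.1,
      pow_eq_pow_mod a h.s1, pow_eq_pow_mod b h.s2, pow_eq_pow_mod c h.s3] at e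
    exact h.ind _ (Nat.mod_lt _ two_pos) _ (Nat.mod_lt _ two_pos) _ (Nat.mod_lt _ two_pos) e
  have inj : Function.Injective j := by
    rw [injective_iff_map_eq_one]
    intro a ha
    rw [hj] at ha
    have l1 := ZMod.val_lt a.toAdd.1
    have l2 := ZMod.val_lt a.toAdd.2.1
    have l3 := ZMod.val_lt a.toAdd.2.2
    have k1 := key a.toAdd.1.val a.toAdd.2.1.val a.toAdd.2.2.val (by
      rw [mul_comm 2, mul_comm 2, mul_comm 2, pow_mul, pow_mul, pow_mul,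
        ← (c12.pow_pow _ _).mul_pow,
        ← ((c13.pow_pow _ _).mul_left (c23.pow_pow _ _)).mul_pow, ha, one_pow])
    have k2 := key (a.toAdd.1.val / 2) (a.toAdd.2.1.val / 2) (a.toAdd.2.2.val / 2) (by
      rw [Nat.mul_div_cancel' (Nat.dvd_of_mod_eq_zero k1.1),
        Nat.mul_div_cancel' (Nat.dvd_of_mod_eq_zero k1.2.1),
        Nat.mul_div_cancel' (Nat.dvd_of_mod_eq_zero k1.2.2), ha])
    exact toAdd.injective (Prod.ext ((ZMod.val_eq_zero _).1 (by omega))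
      (Prod.ext ((ZMod.val_eq_zero _).1 (by omega)) ((ZMod.val_eq_zero _).1 (by omega))))
  have hle : j.range ≤ centralizer (h.V : Set Y) := by
    rintro _ ⟨a, rfl⟩
    exact mul_mem (mul_mem (pow_mem r1.2.1 _) (pow_mem r2.2.1 _)) (pow_mem r3.2.1 _)
  have e := eq_of_le_of_card_ge hle (by
    rw [← Nat.card_congr (MonoidHom.ofInjective inj).toEquiv]; simpa using hc)
  exact ⟨(MulEquiv.subgroupCongr e).symm.trans (MonoidHom.ofInjective inj).symm⟩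

theorem shape [Finite Y] (h : VD v1 v2 v3 t1 t2 t3 f)
    (hc : Nat.card (centralizer (h.V : Set Y)) ≤ 64) :
    Nonempty (pCore 2 (normalizer (h.V : Set Y)) ≃* Multiplicative (ZMod 4 × ZMod 4 × ZMod 4)) ∧
    Nonempty (normalizer (h.V : Set Y) ⧸ pCore 2 (normalizer (h.V : Set Y)) ≃*
      GL (Fin 3) (ZMod 2)) := by
  obtain ⟨F, h1, h2⟩ := h.exists_hom
  obtain ⟨e⟩ := h.exists_equiv hc
  have e' : F.ker ≃* Multiplicative (ZMod 4 × ZMod 4 × ZMod 4) :=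
    ((MulEquiv.subgroupCongr h2).trans (subgroupOfEquivOfLe (centralizer_le_normalizer _))).trans e
  have := SylT.Ru.simple_GL3
  have h3 := Comp.pCore_eq_ker (p := 2) F h1
    (Comp.not_isPGroup_of_card (q := 7) (by norm_num) SylT.Ru.card_GL3 (by norm_num) (by norm_num)
      (by norm_num))
    (IsPGroup.of_card (n := 6) (by rw [Nat.card_congr e'.toEquiv]; simp))
  exact ⟨⟨(MulEquiv.subgroupCongr h3).trans e'⟩, ⟨(QuotientGroup.quotientMulEquivOfEq h3).trans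
    (QuotientGroup.quotientKerEquivOfSurjective F h1)⟩⟩

end VD

end Cfsg.Agent.Mon.HN
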