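import Cfsg.Agent.Mon.HNb
import Cfsg.Agent.Mon.HNv
import Cfsg.Agent.TT.RowW4
import Cfsg.Agent.S3346

/-!
# Groups with an involution centralizer `2^{1+8}.(A5 ≀ 2)`: the Higman–Sims section
-/

set_option autoImplicit false

namespace Cfsg.Agent.Mon.HN

open Subgroup Cfsg Cfsg.Agent.TT Cfsg.Agent.LES Cfsg.Agent.Mont

variable {X Y : Type*} [Group X] [Group Y]

theorem pCore_S5 : pCore 2 (Equiv.Perm (Fin 5)) = ⊥ := by
  by_contra h
  have : Nontrivial (pCore 2 (Equiv.Perm (Fin 5))) := (nontrivial_iff_ne_bot _).2 h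
  have h1 := card_dvd_of_le (Equiv.Perm.alternatingGroup_le_of_normal (α := Fin 5) (by simp)
    (N := pCore 2 (Equiv.Perm (Fin 5))) this)
  obtain ⟨n, hn⟩ := Grp.card_pCore 2 (Equiv.Perm (Fin 5))
  rw [hn, card_alt (n := 3) (m := 60) (by decide)] at h1
  exact absurd (Nat.prime_three.dvd_of_dvd_pow ((by norm_num : 3 ∣ 60).trans h1)) (by norm_num)

/-- The index two subgroup `N` of `C(t)`. -/
structure ND (z : X) (R : Subgroup X) (ψ : ℕ → X) (A : Set X) (N : Subgroup X) : Prop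
    extends HD z R ψ A where
  le : N ≤ centralizer {ψ 1}
  idx : (N.subgroupOf (centralizer {ψ 1})).index = 2
  u_not : ψ 144 ∉ N

/-- Elements of the group `V` of order eight. -/
def Bv (z : X) (R : Subgroup X) (ψ : ℕ → X) (A : Set X) (x : X) : Prop :=
  IsConj z x ∧ x * ψ 1 ∈ A ∧ x ∈ Cp R ψ [1, 254, 144]

namespace ND

variable {z : X} {R : Subgroup X} {ψ : ℕ → X} {A : Set X} {N : Subgroup X}

theorem ct (h : ND z R ψ A N) {g : X} (hg : g ∈ N) : g * ψ 1 = ψ 1 * g :=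
  mem_centralizer_singleton_iff.1 (h.le hg)

theorem two (h : ND z R ψ A N) {a b : X} (ha : a * ψ 1 = ψ 1 * a) (hb : b * ψ 1 = ψ 1 * b) :
    a * b ∈ N ↔ (a ∈ N ↔ b ∈ N) :=
  mul_mem_iff_of_index_two h.idx (a := ⟨a, mem_centralizer_singleton_iff.2 ha⟩)
    (b := ⟨b, mem_centralizer_singleton_iff.2 hb⟩)

theorem comm_mem (h : ND z R ψ A N) {a b : X} (ha : a * ψ 1 = ψ 1 * a) (hb : b * ψ 1 = ψ 1 * b) :
    a * b * a⁻¹ * b⁻¹ ∈ N := by
  rw [h.two (comm_mul_left (comm_mul_left ha hb) (comm_inv_left ha)) (comm_inv_left hb),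
    h.two (comm_mul_left ha hb) (comm_inv_left ha), h.two ha hb, inv_mem_iff, inv_mem_iff]
  tauto

theorem adj (h : ND z R ψ A N) {a : X} (ha : a * ψ 1 = ψ 1 * a) : a ∈ N ∨ a * ψ 144 ∈ N := by
  rw [h.two ha (HD.mem_P.1 h.u_mem).1]
  have := h.u_not
  tauto

theorem z_mem (h : ND z R ψ A N) : z ∈ N := by
  have := h.comm_mem (h.cm 2 1 (by decide +kernel)) (h.cm 20 1 (by decide +kernel))
  rwa [h.ncm 2 20 (by decide +kernel), conj_eq_of_comm (h.zc 20)] at this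

theorem W_le (h : ND z R ψ A N) : Cp R ψ [1, 254] ≤ N := fun r hr => by
  obtain ⟨i, hi, e⟩ := h.onto r hr.1
  obtain ⟨c, -, rfl⟩ := T4 i hi ((h.mem_Cp' (by decide) hi e).1 hr)
  refine e.mem h.z_mem (h.span_mem h.z_mem (fun w hw => ⟨by revert w; decide, ?_⟩) c)
  obtain ⟨p, hp, v, hv, h1, rfl⟩ := E7 w hw
  obtain ⟨g, -, h3, a⟩ := h.liftP hp
  exact ((h.add' (lt256 hp.1 hv) hv ((a v hv).symm h.zz)
    (show Eqv z (ψ v)⁻¹ (ψ v) from h.xs.inv (h.mem v))).symm h.zz).mem h.z_mem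
    (h.comm_mem h3 ((h.comm_iff hv (by norm_num)).2 h1))

theorem t_mem (h : ND z R ψ A N) : ψ 1 ∈ N := h.W_le (h.psi_mem _ 1 (by decide +kernel))

theorem f_mem (h : ND z R ψ A N) : ψ 254 ∈ N := h.W_le (h.psi_mem _ 254 (by decide +kernel))

theorem mem_W (h : ND z R ψ A N) {r : X} (hr : r ∈ R) (hN : r ∈ N) : r ∈ Cp R ψ [1, 254] := by
  obtain ⟨i, hi, e⟩ := h.onto r hr
  rcases T9 i hi ((h.mem_Cp' (by decide) hi e).1 (mem_Cp.2 ⟨hr, by simp [h.ct hN]⟩)) with a | a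
  · exact (h.mem_Cp' (by decide) hi e).2 a
  · exact absurd ((mul_mem_cancel_left hN).1 (h.W_le ((h.mem_Cp' (by decide)
      (xor_lt hi (by norm_num)) (h.add' hi (by norm_num) e (Eqv.refl _ _))).2 a))) h.u_not

theorem liftN (h : ND z R ψ A N) {p : Equiv.Perm ℕ} (hp : p ∈ St) :
    ∃ g ∈ N, g * z = z * g ∧ Ac z ψ g p := by
  obtain ⟨g, h1, h2, a⟩ := h.liftP hp
  rcases h.adj h2 with b | b
  · exact ⟨g, b, h1, a⟩
  · exact ⟨_, b, comm_mul_left h1 (h.zc _), by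
      simpa using h.ac_mul h1 (one_mem _) a (h.ac_one (h.mem 144))⟩

theorem z_eqv (h : ND z R ψ A N) : Eqv z z (ψ 0) :=
  (eqv_one_iff.2 (Or.inr rfl)).trans h.zz (h.zero.symm h.zz)

theorem bv_z [Finite X] (h : ND z R ψ A N) : Bv z R ψ A z :=
  ⟨IsConj.refl z, h.memA (by norm_num) (by decide +kernel) (Or.inr (h.zc 1).symm), h.z_mem_Cp _⟩

theorem bv [Finite X] (h : ND z R ψ A N) {x : X} {i : ℕ} (e : Eqv z x (ψ i))
    (hi : i = 2 ∨ i = 40 ∨ i = 42) : Bv z R ψ A x := by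
  have h1 : i < 256 ∧ C5.D4.testBit i = true ∧ D60.testBit (i ^^^ 1) = true ∧
      pp [1, 254, 144] i = true := by rcases hi with rfl | rfl | rfl <;> decide +kernel
  exact ⟨h.conjz h1.1 h1.2.1 e, h.memA (xor_lt h1.1 (by norm_num)) h1.2.2.1
    (h.add' h1.1 (by norm_num) e (Eqv.refl _ _)), (h.mem_Cp' (by decide) h1.1 e).2 h1.2.2.2⟩

theorem bv_ne (h : ND z R ψ A N) {x : X} (b : Bv z R ψ A x) : x ≠ 1 :=
  fun e => h.lx.z_ne (isConj_one_left.1 (e ▸ b.1))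

theorem bv_mem (h : ND z R ψ A N) {x : X} (b : Bv z R ψ A x) : x ∈ N :=
  h.W_le (mem_Cp.2 ⟨b.2.2.1, fun a ha => (mem_Cp.1 b.2.2).2 a (by
    simp only [List.mem_cons, List.not_mem_nil, or_false] at ha ⊢; tauto)⟩)

theorem transv [Finite X] (h : ND z R ψ A N) {c a b : X} (hc : Bv z R ψ A c) (ha : Bv z R ψ A a)
    (hb : Bv z R ψ A b) (hac : Bv z R ψ A (a * c)) (hbc : Bv z R ψ A (b * c))
    (hba : Bv z R ψ A (b * a)) (hbac : Bv z R ψ A (b * a * c)) :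
    ∃ q ∈ N, q * c * q⁻¹ = c ∧ q * a * q⁻¹ = a ∧ q * b * q⁻¹ = b * c := by
  have cu : ∀ {x}, Bv z R ψ A x → ψ 144 * x = x * ψ 144 := fun b =>
    ((mem_Cp.1 b.2.2).2 144 (by simp)).symm
  have ct := h.ct (h.bv_mem hc)
  have nA := h.notA hc.1
  obtain ⟨g, rfl⟩ := isConj_iff.1 hc.1
  have xs := (h.lx.map_conj g).toXS
  have l1 : ∀ x ∈ A, x * (g * z * g⁻¹) ∈ A → x ∈ R.map (MulAut.conj g).toMonoidHom :=
    fun x h1 h2 => ⟨g⁻¹ * x * g⁻¹⁻¹, h.l1 _ (h.cjA x h1 _) (by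
      simpa [mul_assoc] using h.cjA _ h2 g⁻¹), by simp [mul_assoc]⟩
  set c := g * z * g⁻¹
  set S := R.map (MulAut.conj g).toMonoidHom
  have ht : ψ 1 ∈ S := l1 _ h.tA (ct ▸ hc.2.1)
  have key : ∀ {x}, Bv z R ψ A x → Bv z R ψ A (x * c) → x ∈ S := fun {x} h1 h2 =>
    (mul_mem_cancel_right ht).1 (l1 _ h1.2.1 (by rw [mul_assoc, ← ct, ← mul_assoc]; exact h2.2.1))
  have l0 : zpowers c ≤ S := zpowers_le.2 xs.z_mem
  have l2 : zpowers c ⊔ zpowers a ≤ S := sup_le l0 (zpowers_le.2 (key ha hac))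
  have m1 : c ∈ zpowers c ⊔ zpowers a := mem_sup_left (mem_zpowers c)
  obtain ⟨q, hq, h1, h2⟩ := xs.exists_comm_not_comm (A := zpowers c ⊔ zpowers a ⊔ zpowers (ψ 1))
    (sup_le l2 (zpowers_le.2 ht)) (mem_sup_left m1) (key hb hbc) (by
      rw [xs.mem_sup_zpowers l2 m1 ht, xs.mem_sup_zpowers l0 (mem_zpowers c) (key ha hac),
        xs.mem_sup_zpowers l0 (mem_zpowers c) (key ha hac), mem_zpowers_invol xs.z_sq,
        mem_zpowers_invol xs.z_sq, mem_zpowers_invol xs.z_sq, mem_zpowers_invol xs.z_sq,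
        mul_assoc b, ← h.ct (h.bv_mem ha), ← mul_assoc]
      rintro (((e | e) | e | e) | (e | e) | e | e)
      · exact h.bv_ne hb e
      · exact h.bv_ne hbc (e ▸ xs.z_sq)
      · exact h.bv_ne hba e
      · exact h.bv_ne hbac (e ▸ xs.z_sq)
      · exact h.oneA (e ▸ hb.2.1)
      · exact nA (e ▸ hb.2.1)
      · exact h.oneA (e ▸ hba.2.1)
      · exact nA (e ▸ hba.2.1))
  have e1 := conj_eq_of_comm (h1 c (mem_sup_left m1)).symm
  have e2 := conj_eq_of_comm (h1 a (mem_sup_left (mem_sup_right (mem_zpowers a)))).symm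
  have e3 := xs.conj_of_ne hq (key hb hbc) h2
  rcases h.adj (h1 _ (mem_sup_right (mem_zpowers _))).symm with d | d
  · exact ⟨q, d, e1, e2, e3⟩
  · have e : ∀ {x}, Bv z R ψ A x → q * ψ 144 * x * (q * ψ 144)⁻¹ = q * x * q⁻¹ := fun b => by
      rw [mul_assoc q, cu b]; group
    exact ⟨_, d, by rw [e hc, e1], by rw [e ha, e2], by rw [e hb, e3]⟩

theorem card_D [Finite X] (h : ND z R ψ A N) :
    Nat.card (N ⊓ centralizer {z, ψ 2, ψ 40} : Subgroup X) ≤ 128 := by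
  let D : Subgroup X := centralizer {ψ 1} ⊓ centralizer {z, ψ 2, ψ 40}
  have hD : ∀ g, g ∈ D ↔ g * ψ 1 = ψ 1 * g ∧ z * g = g * z ∧ ψ 2 * g = g * ψ 2 ∧
      ψ 40 * g = g * ψ 40 := fun g => by
    rw [mem_inf, mem_centralizer_singleton_iff]
    simp [mem_centralizer_iff]
  have hu : ψ 144 ∈ D := (hD _).2 ⟨h.cm _ _ (by decide +kernel), (h.zc _).symm,
    h.cm _ _ (by decide +kernel), h.cm _ _ (by decide +kernel)⟩
  have h1 := card_eq_two_mul_of_mul_mem (A := D) (B := N ⊓ centralizer {z, ψ 2, ψ 40})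
    (inf_le_inf_right _ h.le) hu (fun a => h.u_not a.1) fun x hx hx' =>
      ⟨(h.adj ((hD x).1 hx).1).resolve_left fun a => hx' ⟨a, hx.2⟩, (mul_mem hx hu).2⟩
  obtain ⟨γ, -, h2, h3⟩ := h.exists_hom
  have hle : D ≤ centralizer {z} := fun g hg => mem_centralizer_singleton_iff.2 ((hD g).1 hg).2.1.symm
  let δ : D →* Equiv.Perm ℕ := (Subgroup.subtype _).comp (γ.comp (inclusion hle))
  have h4 : Nat.card δ.ker = 64 := by
    have e : δ.ker = (Cp R ψ [1, 2, 40]).subgroupOf D := by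
      ext g
      have := (hD g).1 g.2
      have h4 : (g : X) ∈ R ↔ γ (inclusion hle g) = 1 := (h3 (inclusion hle g)).symm
      rw [mem_subgroupOf, mem_Cp, h4]
      simp [δ, this.1, this.2.2.1, this.2.2.2]
    rw [e, Grp.card_subgroupOf_of_le, h.card_Cp (by decide), T6']
    intro g hg
    have := mem_Cp.1 hg
    exact (hD g).2 ⟨this.2 1 (by simp), (h.lx.z_comm g this.1).symm, (this.2 2 (by simp)).symm,
      (this.2 40 (by simp)).symm⟩
  have h5 : Nat.card δ.range ≤ 4 := by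
    refine le_trans ?_ E4
    rw [← Nat.card_coe_set_eq]
    have : Finite {p | p ∈ St ∧ p 2 = 2 ∧ p 40 = 40} := Set.Finite.subset
      (s := (Γ : Set (Equiv.Perm ℕ))) (Set.finite_coe_iff.1 (inferInstanceAs (Finite Γ)))
      fun p hp => hp.1.1
    refine Nat.card_le_card_of_injective (Set.inclusion ?_) (Set.inclusion_injective _)
    rintro _ ⟨g, rfl⟩
    have a := h2 (inclusion hle g)
    have b := (hD g).1 g.2
    exact ⟨⟨(γ _).2, h.fix (γ _).2 a (by norm_num) b.1⟩, h.fix (γ _).2 a (by norm_num) b.2.2.1.symm,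
      h.fix (γ _).2 a (by norm_num) b.2.2.2.symm⟩
  have h6 := δ.ker.card_mul_index
  rw [index_ker, h4, h1] at h6
  omega

open Classical in
/-- The quotient map extended to `X`. -/
noncomputable def qm (m : N →* Y) (x : X) : Y := if hx : x ∈ N then m ⟨x, hx⟩ else 1

variable {m : N →* Y}

theorem mk_eq {x : X} (hx : x ∈ N) : qm m x = m ⟨x, hx⟩ := dif_pos hx

theorem mk_coe (x : N) : qm m x = m x := mk_eq x.2

theorem mk_mul {x y : X} (hx : x ∈ N) (hy : y ∈ N) : qm m (x * y) = qm m x * qm m y := by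
  rw [mk_eq hx, mk_eq hy, mk_eq (mul_mem hx hy), ← map_mul]; rfl

theorem mk_inv {x : X} (hx : x ∈ N) : qm m x⁻¹ = (qm m x)⁻¹ := by
  rw [mk_eq hx, mk_eq (inv_mem hx), ← map_inv]; rfl

theorem mk_one : qm m 1 = 1 := by rw [mk_eq (one_mem N)]; exact map_one m

theorem mk_conj {g x : X} (hg : g ∈ N) (hx : x ∈ N) :
    qm m (g * x * g⁻¹) = qm m g * qm m x * (qm m g)⁻¹ := by
  rw [mk_mul (mul_mem hg hx) (inv_mem hg), mk_mul hg hx, mk_inv hg]

theorem mk_comm {x y : X} (hx : x ∈ N) (hy : y ∈ N) (e : x * y = y * x) :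
    Commute (qm m x) (qm m y) := by
  rw [commute_iff_eq, ← mk_mul hx hy, e, mk_mul hy hx]

theorem mem_im {H : Subgroup X} {y : Y} :
    y ∈ (H.subgroupOf N).map m ↔ ∃ x ∈ H, x ∈ N ∧ qm m x = y :=
  ⟨fun ⟨x, h1, h2⟩ => ⟨x, h1, x.2, (mk_coe x).trans h2⟩,
    fun ⟨x, h1, h2, h3⟩ => ⟨⟨x, h2⟩, h1, (mk_eq h2).symm.trans h3⟩⟩

end ND

/-- `m` identifies `Y` with `N / ⟨t⟩`. -/
structure QD (z : X) (R : Subgroup X) (ψ : ℕ → X) (A : Set X) (N : Subgroup X) (m : N →* Y) : Prop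
    extends ND z R ψ A N where
  surj : Function.Surjective m
  ker : ∀ a, m a = 1 ↔ Eqv (ψ 1) a 1

namespace QD

open ND

variable {z : X} {R : Subgroup X} {ψ : ℕ → X} {A : Set X} {N : Subgroup X} {m : N →* Y}

theorem ex (h : QD z R ψ A N m) (y : Y) : ∃ x ∈ N, qm m x = y := by
  obtain ⟨x, rfl⟩ := h.surj y
  exact ⟨x, x.2, mk_coe x⟩

theorem mk_eq_iff (h : QD z R ψ A N m) {x y : X} (hx : x ∈ N) (hy : y ∈ N) :
    qm m x = qm m y ↔ Eqv (ψ 1) x y := by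
  rw [← inv_mul_eq_one, ← mk_inv hx, ← mk_mul (inv_mem hx) hy, mk_eq (mul_mem (inv_mem hx) hy),
    h.ker]
  exact ⟨fun e => by simpa using (e.mul_left x).symm h.tt,
    fun e => by simpa using (e.symm h.tt).mul_left x⁻¹⟩

theorem mk_eq_one (h : QD z R ψ A N m) {x : X} (hx : x ∈ N) : qm m x = 1 ↔ x = 1 ∨ x = ψ 1 := by
  rw [← mk_one (m := m), h.mk_eq_iff hx (one_mem _), eqv_one_iff]

theorem mk_t (h : QD z R ψ A N m) : qm m (ψ 1) = 1 := (h.mk_eq_one h.t_mem).2 (Or.inr rfl)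

theorem bv_ne' (h : QD z R ψ A N m) {x : X} (b : Bv z R ψ A x) : qm m x ≠ 1 := fun e => by
  rcases (h.mk_eq_one (h.bv_mem b)).1 e with a | a
  exacts [h.bv_ne b a, h.notA b.1 (a ▸ h.tA)]

theorem comm_lift (h : QD z R ψ A N m) {g v : X} (hg : g ∈ N) (hv : Bv z R ψ A v)
    (e : qm m g * qm m v = qm m v * qm m g) : g * v = v * g := by
  have hN := h.bv_mem hv
  rcases (h.mk_eq_iff (mul_mem (mul_mem hg hN) (inv_mem hg)) hN).1
    ((mk_conj hg hN).trans (conj_eq_of_comm e)) with a | a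
  · exact comm_of_conj_eq a
  · exact absurd (a ▸ hv.2.1) (h.notA (hv.1.trans (isConj_iff.2 ⟨g, rfl⟩)))

theorem zz' (h : QD z R ψ A N m) : qm m z * qm m z = 1 := by
  rw [← mk_mul h.z_mem h.z_mem, h.zz, mk_one]

theorem ff' (h : QD z R ψ A N m) : qm m (ψ 254) * qm m (ψ 254) = qm m z := by
  rw [← mk_mul h.f_mem h.f_mem, h.ff]

theorem core [Finite X] (h : QD z R ψ A N m) :
    (pCore 2 (centralizer ({qm m z} : Set Y))).map (Subgroup.subtype _) =
      ((Cp R ψ [1, 254]).subgroupOf N).map m ∧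
    Nonempty (centralizer ({qm m z} : Set Y) ⧸ pCore 2 (centralizer ({qm m z} : Set Y)) ≃*
      Equiv.Perm (Fin 5)) := by
  have cz : ∀ {g} (a : centralizer ({qm m z} : Set Y)), g ∈ N → qm m g = a → g * z = z * g :=
    fun a hg e => h.comm_lift hg h.bv_z (e ▸ mem_centralizer_singleton_iff.1 a.2)
  have uq : ∀ (a : centralizer ({qm m z} : Set Y)) (p p' : St), (∃ g ∈ N, qm m g = a ∧ Ac z ψ g p) →
      (∃ g ∈ N, qm m g = a ∧ Ac z ψ g p') → p = p' := by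
    rintro a p p' ⟨g, hg, e, b⟩ ⟨g', hg', e', b'⟩
    refine Subtype.ext (h.ac_uniq p.2.1 p'.2.1 b ?_)
    rcases (h.mk_eq_iff hg hg').1 (e.trans e'.symm) with rfl | rfl
    · exact b'
    · simpa using h.ac_mul (cz a hg' e') (one_mem _) b' (h.ac_one (h.mem 1))
  obtain ⟨θ, hθ⟩ := exists_hom_of_rel (fun (a : centralizer ({qm m z} : Set Y)) (p : St) =>
    ∃ g ∈ N, qm m g = a ∧ Ac z ψ g p) (fun a => by
      obtain ⟨g, hg, e⟩ := h.ex a
      obtain ⟨p, hp, b⟩ := h.actP (cz a hg e) (h.ct hg)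
      exact ⟨⟨p, hp⟩, g, hg, e, b⟩) uq (by
      rintro a p a' p' ⟨g, hg, e, b⟩ ⟨g', hg', e', b'⟩
      exact ⟨g * g', mul_mem hg hg', by rw [mk_mul hg hg', e, e']; rfl,
        h.ac_mul (cz a hg e) p'.2.1 b b'⟩)
  have hs : Function.Surjective θ := fun p => by
    obtain ⟨g, hg, e, b⟩ := h.liftN p.2
    exact ⟨⟨qm m g, mem_centralizer_singleton_iff.2 (mk_comm hg h.z_mem e)⟩,
      uq _ _ _ (hθ _) ⟨g, hg, rfl, b⟩⟩
  have hk : ∀ a, θ a = 1 ↔ (a : Y) ∈ ((Cp R ψ [1, 254]).subgroupOf N).map m := fun a => by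
    rw [mem_im]
    constructor
    · intro e
      obtain ⟨g, hg, e1, b⟩ := hθ a
      exact ⟨g, h.mem_W (h.mem_of_ac (cz a hg e1) (by simpa [e] using b)) hg, hg, e1⟩
    · rintro ⟨g, h1, hg, e⟩
      exact uq a _ _ (hθ a) ⟨g, hg, e, h.ac_one h1.1⟩
  obtain ⟨β⟩ := exists_beta
  have hs' : Function.Surjective (β.toMonoidHom.comp θ) := β.surjective.comp hs
  have hk' : ∀ a, a ∈ (β.toMonoidHom.comp θ).ker ↔
      (a : Y) ∈ ((Cp R ψ [1, 254]).subgroupOf N).map m := fun a => β.map_eq_one_iff.trans (hk a)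
  have e := Row.pCore_eq_ker (p := 2) _ hs' (fun a => ⟨2, by
    obtain ⟨x, h1, h2⟩ := (hk' a).1 a.2
    refine Subtype.ext (Subtype.ext ?_)
    simp only [SubmonoidClass.coe_pow, ← h2, ← map_pow, OneMemClass.coe_one]
    rw [show x ^ 2 ^ 2 = 1 from Subtype.ext (h.xs.pow_four h1.1), map_one]⟩) pCore_S5
  refine ⟨?_, ⟨(QuotientGroup.quotientMulEquivOfEq e).trans
    (QuotientGroup.quotientKerEquivOfSurjective _ hs')⟩⟩
  ext y
  rw [e, mem_map_subtype_iff]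
  refine ⟨fun ⟨a, b⟩ => (hk' _).1 b, fun b => ⟨?_, (hk' _).2 b⟩⟩
  obtain ⟨x, h1, h2, rfl⟩ := mem_im.1 b
  exact mem_centralizer_singleton_iff.2 (mk_comm h2 h.z_mem (h.lx.z_comm x h1.1))

theorem U_le (h : QD z R ψ A N m) : Cp R ψ [1, 254, 144, 4] ≤ Cp R ψ [1, 254] := fun x hx =>
  mem_Cp.2 ⟨hx.1, fun a ha => (mem_Cp.1 hx).2 a (by
    simp only [List.mem_cons, List.not_mem_nil, or_false] at ha ⊢; tauto)⟩

theorem inj_U (h : QD z R ψ A N m) (a : N) (ha : a ∈ (Cp R ψ [1, 254, 144, 4]).subgroupOf N)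
    (e : m a = 1) : a = 1 := by
  rcases eqv_one_iff.1 ((h.ker a).1 e) with b | b
  · exact Subtype.ext b
  · have := (h.mem_Cp' (by decide) (by norm_num) (Eqv.refl _ _)).1 (b ▸ mem_subgroupOf.1 ha)
    exact absurd this (by decide +kernel)

theorem xs_E (h : QD z R ψ A N m) : XS (((Cp R ψ [1, 254, 144, 4]).subgroupOf N).map m) (qm m z) := by
  have h0 : XS (Cp R ψ [1, 254, 144, 4]) z := h.xs.of_le inf_le_left (fun x hx hc => by
    obtain ⟨i, hi, e⟩ := h.onto x hx.1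
    obtain rfl := T7 i hi ((h.mem_Cp' (by decide) hi e).1 hx) ((h.mem_Cp' (by decide) hi e).1
      (mem_Cp.2 ⟨hx.1, fun a ha => hc _ (h.psi_mem _ a (by revert a; decide +kernel))⟩))
    exact eqv_one_iff.1 (e.trans h.zz h.zero))
    ⟨ψ 3, h.psi_mem _ 3 (by decide +kernel), h.ne (by norm_num) (by norm_num) (Eqv.refl _ _)⟩
  have hle := h.U_le.trans h.W_le
  have h1 := h0.top.map (inclusion hle) fun x _ e => inclusion_injective hle (by rw [e, map_one])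
  rw [← MonoidHom.range_eq_map, inclusion_range] at h1
  rw [mk_eq h.z_mem]
  exact h1.map m h.inj_U

theorem card_E (h : QD z R ψ A N m) :
    Nat.card (((Cp R ψ [1, 254, 144, 4]).subgroupOf N).map m) = 32 := by
  rw [show 32 = 2 * 16 from rfl, ← T6, ← h.card_Cp (by decide),
    ← Grp.card_subgroupOf_of_le (h.U_le.trans h.W_le)]
  exact (Nat.card_congr (Equiv.Set.imageOfInjOn m ((Cp R ψ [1, 254, 144, 4]).subgroupOf N : Set N)
    fun a ha b hb e => inv_mul_eq_one.1 (h.inj_U _ (mul_mem (inv_mem ha) hb)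
      (by rw [map_mul, map_inv, e, inv_mul_cancel])))).symm

theorem vd [Finite X] (h : QD z R ψ A N m) : ∃ t1 t2 t3,
    VD (qm m z) (qm m (ψ 2)) (qm m (ψ 40)) t1 t2 t3 (qm m (ψ 254)) := by
  have e0 := h.z_eqv
  have e1 : Eqv z (ψ 2) (ψ 2) := Eqv.refl _ _
  have e2 : Eqv z (ψ 40) (ψ 40) := Eqv.refl _ _
  have b0 := h.bv_z
  have b1 := h.bv e1 (by decide)
  have b2 := h.bv e2 (by decide)
  have n0 := h.z_mem
  have n1 := h.bv_mem b1
  have n2 := h.bv_mem b2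
  have two : ∀ {x y : X} {i j : ℕ}, Eqv z x (ψ i) → Eqv z y (ψ j) → (i < 256 ∧ j < 256) ∧
      (i ^^^ j = 2 ∨ i ^^^ j = 40 ∨ i ^^^ j = 42) → Bv z R ψ A (x * y) := fun a b c =>
    h.bv (h.add' c.1.1 c.1.2 a b) c.2
  have thr : ∀ {x y w : X} {i j k : ℕ}, Eqv z x (ψ i) → Eqv z y (ψ j) → Eqv z w (ψ k) →
      (i < 256 ∧ j < 256 ∧ k < 256) ∧ i ^^^ j ^^^ k = 42 → Bv z R ψ A (x * y * w) :=
    fun a b c d => h.bv (h.add' (xor_lt d.1.1 d.1.2.1) d.1.2.2 (h.add' d.1.1 d.1.2.1 a b) c)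
      (Or.inr (Or.inr d.2))
  obtain ⟨q1, m1, a1⟩ := h.transv b0 b1 b2 (two e1 e0 (by decide)) (two e2 e0 (by decide))
    (two e2 e1 (by decide)) (thr e2 e1 e0 (by decide))
  obtain ⟨q2, m2, a2⟩ := h.transv b1 b2 b0 (two e2 e1 (by decide)) (two e0 e1 (by decide))
    (two e0 e2 (by decide)) (thr e0 e2 e1 (by decide))
  obtain ⟨q3, m3, a3⟩ := h.transv b2 b0 b1 (two e0 e2 (by decide)) (two e1 e2 (by decide))
    (two e1 e0 (by decide)) (thr e1 e0 e2 (by decide))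
  have sq : ∀ {x}, Bv z R ψ A x → qm m x ^ 2 = 1 := fun {x} b => by
    obtain ⟨g, hg⟩ := isConj_iff.1 b.1
    rw [pow_two, ← mk_mul (h.bv_mem b) (h.bv_mem b), ← hg, conj_mul, h.zz]; simp [mk_one]
  refine ⟨qm m q1, qm m q2, qm m q3, sq b0, sq b1, sq b2, mk_comm n0 n1 (h.zc _).symm,
    mk_comm n0 n2 (h.zc _).symm, mk_comm n1 n2 (h.cm _ _ (by decide +kernel)), ?_,
    ⟨by rw [← mk_conj m1 n0, a1.1], by rw [← mk_conj m1 n1, a1.2.1],
      by rw [← mk_conj m1 n2, a1.2.2, mk_mul n2 n0]⟩,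
    ⟨by rw [← mk_conj m2 n0, a2.2.2, mk_mul n0 n1], by rw [← mk_conj m2 n1, a2.1],
      by rw [← mk_conj m2 n2, a2.2.1]⟩,
    ⟨by rw [← mk_conj m3 n0, a3.2.1], by rw [← mk_conj m3 n1, a3.2.2, mk_mul n1 n2],
      by rw [← mk_conj m3 n2, a3.1]⟩, h.ff',
    mk_comm h.f_mem n1 (h.cm _ _ (by decide +kernel)),
    mk_comm h.f_mem n2 (h.cm _ _ (by decide +kernel)), fun y hy => ?_⟩
  · intro a ha b hb c hc e
    interval_cases a <;> interval_cases b <;> interval_cases c <;>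
      simp only [pow_zero, pow_one, one_mul, mul_one] at e
    · simp
    · exact absurd e (h.bv_ne' b2)
    · exact absurd e (h.bv_ne' b1)
    · exact absurd ((mk_mul n1 n2).trans e) (h.bv_ne' (two e1 e2 (by decide)))
    · exact absurd e (h.bv_ne' b0)
    · exact absurd ((mk_mul n0 n2).trans e) (h.bv_ne' (two e0 e2 (by decide)))
    · exact absurd ((mk_mul n0 n1).trans e) (h.bv_ne' (two e0 e1 (by decide)))
    · exact absurd (by rw [mk_mul (mul_mem n0 n1) n2, mk_mul n0 n1, e])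
        (h.bv_ne' (thr e0 e1 e2 (by decide)))
  · obtain ⟨g, hg, rfl⟩ := h.ex y
    obtain ⟨p, hp, a⟩ := h.actP (h.comm_lift hg b0 hy) (h.ct hg)
    rw [← mk_conj hg h.f_mem]
    rcases h.conj_f hp a with ⟨-, c | c⟩ | ⟨-, c | c⟩ <;> rw [c]
    · exact Or.inl rfl
    · exact Or.inr (mk_mul h.f_mem n0)
    · exact Or.inl (by rw [mk_mul h.f_mem h.t_mem, h.mk_t, mul_one])
    · exact Or.inr (by rw [mk_mul (mul_mem h.f_mem h.t_mem) n0, mk_mul h.f_mem h.t_mem, h.mk_t,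
        mul_one])

theorem card_ker (h : QD z R ψ A N m) : Nat.card m.ker = 2 := by
  have e : m.ker = (zpowers (ψ 1)).subgroupOf N := by
    ext a
    rw [MonoidHom.mem_ker, h.ker, eqv_one_iff, mem_subgroupOf, mem_zpowers_invol h.tt]
  rw [e, Grp.card_subgroupOf_of_le (zpowers_le.2 h.t_mem), Nat.card_zpowers,
    orderOf_eq_prime (by rw [pow_two, h.tt]) h.t_ne.1]

theorem isoHS [Finite X] (h : QD z R ψ A N m) : Spor.IsoHS Y := by
  have : Finite Y := Finite.of_surjective m h.surj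
  obtain ⟨t1, t2, t3, v⟩ := h.vd
  obtain ⟨c1, ⟨c2⟩⟩ := h.core
  have b1 := h.bv (i := 2) (Eqv.refl _ _) (by decide)
  have b2 := h.bv (i := 40) (Eqv.refl _ _) (by decide)
  have hc : Nat.card (centralizer (v.V : Set Y)) ≤ 64 := by
    have h1 := Grp.card_comap_of_surjective m h.surj (centralizer (v.V : Set Y))
    have h2 : (centralizer (v.V : Set Y)).comap m ≤
        (N ⊓ centralizer {z, ψ 2, ψ 40}).subgroupOf N := fun g hg => by
      have := v.mem_cent.1 hg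
      rw [← mk_coe] at this
      refine ⟨g.2, ?_⟩
      simp [mem_centralizer_iff, h.comm_lift g.2 h.bv_z this.1, h.comm_lift g.2 b1 this.2.1,
        h.comm_lift g.2 b2 this.2.2]
    have h3 := card_le_of_le h2
    rw [Grp.card_subgroupOf_of_le inf_le_left, h1, h.card_ker] at h3
    have := h.card_D
    omega
  obtain ⟨⟨d1⟩, ⟨d2⟩⟩ := v.shape hc
  have xs := h.xs_E
  have mW : ∀ {x}, x ∈ Cp R ψ [1, 254] → qm m x ∈ ((Cp R ψ [1, 254]).subgroupOf N).map m :=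
    fun hx => mem_im.2 ⟨_, hx, h.W_le hx, rfl⟩
  have fW := mW (h.psi_mem _ 254 (by decide +kernel))
  have hE : ((Cp R ψ [1, 254, 144, 4]).subgroupOf N).map m ≤ ((Cp R ψ [1, 254]).subgroupOf N).map m :=
    map_mono (comap_mono h.U_le)
  refine S3346.result (qm m z) xs.orderOf_z _ rfl _ c1.symm (zpowers (qm m (ψ 254))) _
    inferInstance ?_ (zpowers_le.2 ⟨fW, fun y hy => ?_⟩) hE xs.isExtraspecial h.card_E
    (le_antisymm (sup_le (zpowers_le.2 fW) hE) fun y hy => ?_) ?_ c2 v.V v.comm_V v.exp_V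
    v.card_V (v.V_le (mW (h.z_mem_Cp _)) (mW (h.psi_mem _ 2 (by decide +kernel)))
      (mW (h.psi_mem _ 40 (by decide +kernel)))) _ rfl d1 d2
  · rw [Nat.card_zpowers]
    exact orderOf_eq_prime_pow (p := 2) (n := 1) (by rw [pow_one, pow_two, h.ff']; exact xs.z_ne)
      (by rw [show 2 ^ (1 + 1) = 2 * 2 from rfl, pow_mul, pow_two (qm m _), h.ff', pow_two, h.zz'])
  · obtain ⟨x, h1, h2, rfl⟩ := mem_im.1 hy
    exact mk_comm h2 h.f_mem ((mem_Cp.1 h1).2 254 (by simp))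
  · obtain ⟨x, h1, h2, rfl⟩ := mem_im.1 hy
    let J : Subgroup X := ((zpowers (qm m (ψ 254)) ⊔
      ((Cp R ψ [1, 254, 144, 4]).subgroupOf N).map m).comap m).map N.subtype
    have hJ : ∀ {x}, x ∈ N → (x ∈ J ↔ qm m x ∈ zpowers (qm m (ψ 254)) ⊔
        ((Cp R ψ [1, 254, 144, 4]).subgroupOf N).map m) := fun {x} hx => by
      rw [mk_eq hx]; exact coe_mem_map_subtype (x := ⟨x, hx⟩)
    have hU : Cp R ψ [1, 254, 144, 4] ≤ J := fun x hx =>
      (hJ (h.W_le (h.U_le hx))).2 (mem_sup_right (mem_im.2 ⟨x, hx, h.W_le (h.U_le hx), rfl⟩))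
    obtain ⟨i, hi, e⟩ := h.onto x h1.1
    obtain ⟨a, ha, h3⟩ := T8 i hi ((h.mem_Cp' (by decide) hi e).1 h1)
    obtain ⟨ha', c, -, rfl⟩ : a < 256 ∧ ∃ c < 4, comb [1, 254] c = a := by
      clear h3; revert a; decide
    refine (hJ h2).1 ((mul_mem_cancel_right (h.span_mem (hU (h.z_mem_Cp _)) (l := [1, 254]) ?_ c)).1
      (hU ((h.mem_Cp' (by decide) (xor_lt hi ha') (h.add' hi ha' e (Eqv.refl _ _))).2 h3)))
    simp only [List.mem_cons, List.not_mem_nil, or_false, forall_eq_or_imp, forall_eq]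
    exact ⟨⟨by norm_num, (hJ h.t_mem).2 (h.mk_t ▸ one_mem _)⟩, by norm_num,
      (hJ h.f_mem).2 (mem_sup_left (mem_zpowers _))⟩
  · rw [xs.inf_centralizer_self]
    refine le_antisymm ?_ (zpowers_le.2 ⟨h.ff' ▸ mul_mem (mem_zpowers _) (mem_zpowers _), xs.z_mem⟩)
    rintro _ ⟨⟨k, rfl⟩, hk⟩
    simp only at hk ⊢
    rcases Int.even_or_odd' k with ⟨j, rfl | rfl⟩
    · rw [zpow_mul, zpow_two, h.ff']; exact zpow_mem (mem_zpowers _) j
    · rw [zpow_add_one, zpow_mul, zpow_two, h.ff'] at hk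
      obtain ⟨x, h1, h2, e⟩ := mem_im.1 ((mul_mem_cancel_left (zpow_mem xs.z_mem j)).1 hk)
      have h3 := (mem_Cp.1 h1).2 144 (by simp)
      have h4 : ψ 254 * ψ 144 = ψ 144 * ψ 254 := by
        rcases (h.mk_eq_iff h.f_mem h2).1 e.symm with a | a <;> rw [a]
        exacts [h3, comm_mul_left h3 (h.cm _ _ (by decide +kernel))]
      exact absurd ((h.comm_iff (by norm_num) (by norm_num)).1 h4) (by decide +kernel)

end QD

end Cfsg.Agent.Mon.HN
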