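import Cfsg.Agent.Mon.HNd
import Cfsg.Agent.Mon.OddA
import Cfsg.Agent.Mon.Loc0
import Cfsg.Agent.S2056
import Cfsg.Agent.S1701

/-!
# The Harada–Norton subgroup of the Monster
-/

set_option autoImplicit false

namespace Cfsg.Agent.Mon.HN

open Subgroup Cfsg Cfsg.Spor Cfsg.Agent.TT Cfsg.Agent.Spor Cfsg.Agent.Spor.Leech Cfsg.Agent.LES
  Cfsg.Agent.LES.Co Cfsg.Agent.Spor.M24C Cfsg.Agent.Mont Cfsg.Agent.Comp ND

theorem comb_xor (l : List ℕ) (i j : ℕ) : comb l (i ^^^ j) = comb l i ^^^ comb l j := by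
  induction l generalizing i j with
  | nil => simp [comb]
  | cons a l ih =>
    rw [comb, comb, comb, Nat.xor_div_two, ih]
    simp only [Nat.xor_mod_two_eq_one]
    refine Nat.eq_of_testBit_eq fun k => ?_
    by_cases h1 : i % 2 = 1 <;> by_cases h2 : j % 2 = 1 <;>
      simp only [h1, h2, Nat.testBit_xor, iff_self, not_true, not_false_iff, if_true, if_false,
        iff_true, iff_false, true_iff, false_iff, Nat.zero_testBit] <;>
      cases a.testBit k <;> cases (comb l (i / 2)).testBit k <;>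
      cases (comb l (j / 2)).testBit k <;> rfl

theorem P_lin : ∀ i < 256, ∀ l < 24, C5.P.testBit (256 * l + i) =
    (comb [2048, 8575, 32768, 262144, 1573505, 2835167, 4411392, 8388608] i).testBit l := by decide +kernel

/-- The lattice vector of a point. -/
noncomputable def vec (i : ℕ) : leechLattice := emb (ptv 256 C5.P i)

theorem vec_add {i j : ℕ} (hi : i < 256) (hj : j < 256) :
    cls 0 (vec (i ^^^ j)) = cls 0 (vec i + vec j) := by
  rw [vec, vec, vec, ← map_add, ← emb_nil, cls_emb_eq_iff]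
  refine ⟨0, fun l => ?_⟩
  simp only [ptv, bitZ, Pi.add_apply, P_lin _ hi l l.2, P_lin _ hj l l.2,
    P_lin _ (xor_lt hi hj) l l.2, comb_xor, Nat.testBit_xor]
  generalize Nat.testBit _ _ = a
  generalize Nat.testBit _ _ = b
  cases a <;> cases b <;> simp

noncomputable def pl (i : ℕ) : List ℤ := (List.range 24).map fun l => bitZ C5.P (256 * l + i)

theorem vec_sq {i : ℕ} (hi : i < 256) :
    sqNorm (vec i : GolayPt → ℤ) % 32 = 0 ↔ Qf.testBit i = false := by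
  have e : ptv 256 C5.P i = toF (pl i) := funext fun l => by
    simp [ptv, toF, pl, getL_eq]
  rw [vec, e, sqNorm_emb_toF]
  revert i
  decide +kernel

variable {G X : Type} [Group G] [Group X] {z : G} {Q : Subgroup G}
  {π : centralizer ({z} : Set G) →* Co1} {φ : leechLattice → G} {K : Subgroup G} {b : G}
  {m : K →* X}

theorem vec_mem (d : MonData z Q π φ) (q : OQ K b 5 m) {hb : b ∈ centralizer ({z} : Set G)}
    (hx : (permHom (mc y5) : Co1) = π ⟨b, hb⟩) {i : ℕ} (hi : i < 256) : φ (vec i) ∈ Q ⊓ K :=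
  (mem_inf_iff d q hx).2 ⟨_, C5.hF.1 ▸ ⟨i, hi, lpt_eq _ _ _⟩, Eqv.refl _ _⟩

theorem qm_inj {p : ℕ} (q : OQ K b p m) {x y : G} (hx : x ∈ K) (hy : y ∈ K) (h1 : x ^ 4 = 1)
    (h2 : y ^ 4 = 1) (e : qm m x = qm m y) : x = y :=
  congrArg Subtype.val (q.inj4 (a := ⟨x, hx⟩) (a' := ⟨y, hy⟩) h1 h2 (by rwa [← mk_eq, ← mk_eq]))

theorem hd [Finite G] (h : If0 z Q π φ) (q : OQ K b 5 m) {hb : b ∈ centralizer ({z} : Set G)}
    (hx : (permHom (mc y5) : Co1) = π ⟨b, hb⟩) :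
    HD (qm m z) ((Q.subgroupOf K).map m) (fun i => qm m (φ (vec i))) (qm m '' (cA φ ∩ K)) := by
  have d := h.mon
  have zK := z_mem_K q hb
  have hz4 : z ^ 4 = 1 := d.lx.pow_four d.lx.z_mem
  have vm := fun i hi => vec_mem d q hx (i := i) hi
  have ev : ∀ {x y : G}, y ∈ K → Eqv z x y → Eqv (qm m z) (qm m x) (qm m y) := fun hy e => by
    rcases e with rfl | rfl
    exacts [Or.inl rfl, Or.inr (mk_mul hy zK)]
  have ev' : ∀ {x y : G}, x ∈ Q ⊓ K → y ∈ Q ⊓ K → Eqv (qm m z) (qm m x) (qm m y) → Eqv z x y :=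
    fun {x y} hx hy e => e.imp (qm_inj q hx.2 hy.2 (d.lx.pow_four hx.1) (d.lx.pow_four hy.1))
      fun a => qm_inj q hx.2 (mul_mem hy.2 zK) (d.lx.pow_four hx.1)
        (d.lx.pow_four (mul_mem hy.1 d.lx.z_mem)) (a.trans (mk_mul hy.2 zK).symm)
  have ex : ∀ y : X, ∃ g ∈ K, qm m g = y := fun y => by
    obtain ⟨g, rfl⟩ := q.surj y
    exact ⟨g, g.2, mk_coe g⟩
  have cz : ∀ {g : G}, g ∈ K → qm m g * qm m z = qm m z * qm m g → g * z = z * g := fun hg e =>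
    (q.comm_iff (a := ⟨_, hg⟩) (t := ⟨z, zK⟩) hz4).1 (by rwa [← mk_eq, ← mk_eq])
  obtain ⟨ρ, c⟩ := C5.cdata0
  obtain ⟨γ, r⟩ := exists_rdata d q hx c ((mem_inf_iff d q hx).2
    ⟨e8 none, fr_mem_Fx (permHom_mem _), Eqv.refl _ _⟩)
    (d.isConj_of_eqv_64 h.nwc (Eqv.refl _ _) (sqNorm_e8 none))
    (d.ne_of_short (Eqv.refl _ _) (by rw [sqNorm_e8]; norm_num) (by rw [sqNorm_e8])).2
  obtain ⟨σ, h1, -, h3⟩ := C5.model.2
  have ac : ∀ (g : centralizer ({z} : Set G)) (k : centralizer ({permHom (mc y5)} : Set Co0)),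
      (g : G) ∈ K → ((k : Co0) : Co1) = π g →
      Ac (qm m z) (fun i => qm m (φ (vec i))) (qm m g) (σ k) := fun g k hg e i hi => by
    rw [← mk_conj hg (vm i hi).2]
    refine ev (mul_mem (mul_mem hg (vm i hi).2) (inv_mem hg))
      (((eqv_cls d).2 ?_).trans d.z_sq (d.conj g k e _))
    rw [← smul_cls0, vec, vec, ← lpt_eq, ← lpt_eq, (h3 k).2 i hi]
  have sA : ∀ {a : G}, a ∈ cA φ → a ^ 4 = 1 := fun {a} ha => by
    rw [show 4 = 2 * 2 from rfl, pow_mul, pow_two a, h.mul_self_A ha, one_pow]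
  refine ⟨mk_eq (m := m) zK ▸ r.lx, fun i => ?_, fun i hi j hj => ?_, fun y hy => ?_,
    fun i hi j hj e => ?_, fun i hi => ?_, fun y hy => ?_, fun p hp => ?_, ?_, ?_, ?_, ?_,
    fun i hi hD => ?_, ?_, ?_⟩
  · by_cases hi : φ (vec i) ∈ K
    · exact mem_im.2 ⟨_, d.mem _, hi, rfl⟩
    · rw [show qm m (φ (vec i)) = 1 from dif_neg hi]; exact one_mem _
  · rw [← mk_mul (vm i hi).2 (vm j hj).2]
    exact ev (mul_mem (vm i hi).2 (vm j hj).2)
      (((eqv_cls d).2 (vec_add hi hj)).trans d.z_sq (d.add _ _))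
  · obtain ⟨x, h4, h5, rfl⟩ := mem_im.1 hy
    obtain ⟨v, h6, h7⟩ := (mem_inf_iff d q hx).1 ⟨h4, h5⟩
    obtain ⟨i, hi, e⟩ := C5.hF.1 ▸ h6
    exact ⟨i, hi, ev (vm i hi).2 (h7.trans d.z_sq ((eqv_cls d).2 (e.symm.trans (lpt_eq _ _ _))))⟩
  · exact C5.inj i hi j hj (by
      rw [lpt_eq, lpt_eq]; exact (eqv_cls d).1 (ev' (vm i hi) (vm j hj) e))
  · rw [← vec_sq hi, ← d.sq_iff (Eqv.refl _ _), ← mk_mul (vm i hi).2 (vm i hi).2]
    exact ⟨fun e => qm_inj q (mul_mem (vm i hi).2 (vm i hi).2) (one_mem _)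
      (d.lx.pow_four (mul_mem (d.mem _) (d.mem _))) (one_pow _) (e.trans mk_one.symm),
      fun e => by rw [e, mk_one]⟩
  · obtain ⟨g, hg, rfl⟩ := ex y
    obtain ⟨k, hk⟩ := exists_cent c.odd hx (h := ⟨g, mem_centralizer_singleton_iff.2 (cz hg hy)⟩)
      ((q.mem g).1 hg)
    exact ⟨_, (σ k).2, ac _ k hg hk⟩
  · obtain ⟨k, hk⟩ := h1 ⟨p, hp⟩
    obtain ⟨g, hg, e⟩ := exists_lift_cent d q hx (mem_centralizer_singleton_iff.1 k.2)
    exact ⟨qm m g, mk_comm hg zK (MonData.comm_z g), by simpa only [hk] using ac g k hg e⟩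
  · rintro _ ⟨a, ha, rfl⟩ y
    obtain ⟨g, hg, rfl⟩ := ex y
    exact ⟨_, ⟨conj_mem_cA ha.1 g, mul_mem (mul_mem hg ha.2) (inv_mem hg)⟩, mk_conj hg ha.2⟩
  · rintro _ ⟨a, ha, rfl⟩
    rw [← mk_mul ha.2 ha.2, h.mul_self_A ha.1, mk_one]
  · rintro ⟨a, ha, e⟩
    exact h.ne_one_A ha.1 (qm_inj q ha.2 (one_mem _) (sA ha.1) (one_pow _) (e.trans mk_one.symm))
  · rintro ⟨a, ha, e⟩
    exact h.ne_z ha.1 (qm_inj q ha.2 zK (sA ha.1) hz4 e)
  · obtain ⟨w, h4, h5⟩ := (C5.hT i hi).2 hD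
    obtain ⟨g, hg, e⟩ := exists_conj_K d q hb (vm i hi) (d.isConj_of_eqv_64 h.nwc
      ((eqv_cls d).2 ((lpt_eq _ _ _).symm.trans h5)) h4)
    exact isConj_iff.2 ⟨qm m g, by rw [← mk_conj hg zK, e]⟩
  · refine ⟨_, ⟨h.mem_A_of_eqv (v := emb (toF [0, 0, 0, 0, 0, 0, 0, 0, 0, 0, 0, 1]))
      ((eqv_cls d).2 ?_) (by rw [sqNorm_emb_toF]; decide +kernel), (vm 1 (by norm_num)).2⟩, rfl⟩
    rw [vec, ← lpt_eq, lpt_eq_of_chkPtv [] (x := [0, 0, 0, 0, 0, 0, 0, 0, 0, 0, 0, 1])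
      (by decide +kernel), emb_nil]
  · rintro _ ⟨a, ha, rfl⟩ ⟨a', ha', e⟩
    have h4 : a * z = z * a := cz ha.2 (by
      have h5 := congrArg (·⁻¹) e
      simp only [mul_inv_rev, ← mk_inv ha.2, ← mk_inv ha'.2, ← mk_inv zK, h.inv_A ha.1,
        h.inv_A ha'.1, d.lx.z_inv] at h5
      rw [← e, h5])
    have h5 : a' = a * z := qm_inj q ha'.2 (mul_mem ha.2 zK) (sA ha'.1)
      (by rw [Commute.mul_pow h4, sA ha.1, hz4, one_mul]) (e.trans (mk_mul ha.2 zK).symm)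
    exact mem_im.2 ⟨a, h.inQ_z.1 (h.inQ_of_mul z_mem_cB ha.1 (h5 ▸ ha'.1)), ha.2, rfl⟩

theorem exists_HN [Finite G] (h : If0 z Q π φ) : ∃ x : G, orderOf x = 5 ∧
    ∃ K : Subgroup G, K ≤ centralizer ({x} : Set G) ∧ IsoHN K := by
  have d := h.mon
  have : Fact (Nat.Prime 5) := ⟨Nat.prime_five⟩
  obtain ⟨b, -, h1, h2⟩ := PLocal.exists_lift_of_pow_eq_one (p := 5) (k := 1) π ⊤
    (by rw [ker_card d]; norm_num) (y := (permHom (mc y5) : Co1))
    (by obtain ⟨x, hx⟩ := d.surj (permHom (mc y5) : Co0); exact ⟨x, trivial, hx⟩)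
    (by rw [pow_one, ← QuotientGroup.mk_pow, ← C5.ho, pow_orderOf_eq_one, QuotientGroup.mk_one])
  have h3 : orderOf (b : G) = 5 := by
    rw [orderOf_coe]
    refine orderOf_eq_prime (pow_one 5 ▸ h2) fun e => ?_
    rw [e, map_one, ← QuotientGroup.mk_one, eq_comm, mk_eq_mk_Co1] at h1
    have h4 := C5.ho
    rcases h1 with a | a <;> rw [a] at h4
    · simp at h4
    · rw [orderOf_negOne_mul (by simp)] at h4; omega
  have q := oq_mk (B := zpowers (b : G)) Nat.prime_five (by norm_num) h3 rfl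
  obtain ⟨e⟩ := (hd h q (hb := b.2) h1.symm).isoHN
  have := S1701.result.1
  obtain ⟨L, h4, h5⟩ := Odd.exists_sub q e S2056.result
    (KSG.Pc.commutator_eq_top_of_simple (by rw [S1701.result.2]; norm_num))
  exact ⟨b, h3, L, h4.trans (Odd.le_cent q), h5⟩

end Cfsg.Agent.Mon.HN
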