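import Cfsg.Agent.Mon.OddA
import Cfsg.Agent.Mon.Baby
import Cfsg.Agent.Mon.CF0
import Cfsg.Agent.F24.Ext
import Cfsg.Agent.TT.HubRows
import Cfsg.Agent.S5461
import Cfsg.Agent.S2054
import Cfsg.Agent.S2083
import Cfsg.Agent.S1697

/-!
# Simple subgroups centralising an involution: Th and Fi23 inside the Baby Monster
-/

set_option autoImplicit false

namespace Cfsg.Agent.Mon.Odd

open Subgroup Cfsg Cfsg.Spor Cfsg.Agent.TT Cfsg.Agent.Spor Cfsg.Agent.Spor.Leech Cfsg.Agent.LES
  Cfsg.Agent.LES.Co Cfsg.Agent.Spor.M24C Cfsg.Agent.Mont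

variable {G H : Type*} [Group G] [Group H]

theorem comm_equiv [Finite G] {K : Subgroup G} {S : Type} [Group S] (σ : K →* S)
    (hσ : Function.Surjective σ) (hc : σ.ker ≤ center K) (hS : HasCyclicSchurMultiplier S 1)
    (hp : commutator S = ⊤) : Nonempty ((⁅K, K⁆ : Subgroup G) ≃* S) := by
  let τ : commutator K →* S := σ.comp (Subgroup.subtype _)
  have hτ : Function.Surjective τ := by
    rw [← MonoidHom.range_eq_top, MonoidHom.range_comp, range_subtype, commutator_def,
      map_commutator, map_top_of_surjective _ hσ, ← commutator_def, hp]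
  have h1 := FGS.commutator_eq_map_of_comp_surjective hc (η := Subgroup.subtype (commutator K)) hτ
  have h2 : τ.ker = ⊥ := FGS.ker_eq_bot_of_trivial_multiplier hS ⟨hτ, fun x hx =>
    mem_center_iff.2 fun g => Subtype.ext (mem_center_iff.1 (hc hx) g), fun x _ => by
      obtain ⟨y, hy, e1⟩ := h1.le x.2
      exact (Subtype.ext e1 : y = x) ▸ hy⟩
  rw [← map_subtype_commutator]
  exact ⟨((commutator K).equivMapOfInjective _ (subtype_injective K)).symm.trans
      (MulEquiv.ofBijective τ ⟨(MonoidHom.ker_eq_bot_iff τ).1 h2, hτ⟩)⟩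

theorem comm_le (K : Subgroup G) : ⁅K, K⁆ ≤ K :=
  map_subtype_commutator K ▸ map_subtype_le _

theorem oq_equiv [Finite G] {K : Subgroup G} {b : G} {p : ℕ} {m : K →* H} (q : OQ K b p m)
    {S : Type} [Group S] (e : H ≃* S) (hS : HasCyclicSchurMultiplier S 1)
    (hp : commutator S = ⊤) : Nonempty ((⁅K, K⁆ : Subgroup G) ≃* S) :=
  comm_equiv (e.toMonoidHom.comp m) (e.surjective.comp q.surj) (fun k hk =>
    mem_center_iff.2 fun g => by
      obtain ⟨n, hn⟩ := (q.ker k).1 (e.map_eq_one_iff.1 hk)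
      simp only at hn
      exact Subtype.ext (hn ▸ Commute.zpow_right ((q.mem _).1 g.2) n :)) hS hp

theorem exists_invol_of_inv [Finite G] {L : Subgroup G} {a b : G} (hL : L ≤ centralizer {a})
    (hb : a * b * a⁻¹ = b⁻¹) (h2 : b * b ≠ 1) : ∃ t : G, orderOf t = 2 ∧ L ≤ centralizer {t} := by
  have h3 : 2 ∣ orderOf a := by
    by_contra h
    have h4 := comm_of_sq_comm (b := a) (r := b) (Nat.odd_iff.2 (by omega)) (by
      have : a * (a * b * a⁻¹) * a⁻¹ = b := by
        rw [hb, ← inv_inv (a * b⁻¹ * a⁻¹), show (a * b⁻¹ * a⁻¹)⁻¹ = a * b * a⁻¹ by group, hb,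
          inv_inv]
      rw [← mul_inv_eq_iff_eq_mul]
      simpa only [mul_inv_rev, mul_assoc] using this)
    rw [h4, mul_inv_cancel_right] at hb
    exact h2 (mul_eq_one_iff_eq_inv.2 hb)
  exact ⟨a ^ (orderOf a / 2), orderOf_pow_orderOf_div (orderOf_pos a).ne' h3, fun x hx =>
    mem_centralizer_singleton_iff.2 (Commute.pow_right (mem_centralizer_singleton_iff.1 (hL hx)) _)⟩

theorem exists_invol [Finite G] {K : Subgroup G} {b : G} {p : ℕ} {m : K →* H} (q : OQ K b p m)
    {S : Type*} [Group S] (e : (⁅K, K⁆ : Subgroup G) ≃* S) {g : G} (hg : g * b * g⁻¹ = b * b)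
    (hb : b ^ 2 ^ Nat.card (Out S) = b⁻¹) :
    ∃ t : G, orderOf t = 2 ∧ ⁅K, K⁆ ≤ centralizer {t} := by
  have h1 : g ∈ normalizer (K : Set G) := mem_normalizer_iff.2 fun x => by
    rw [q.mem, q.mem]
    constructor
    · intro h
      refine (comm_of_sq_comm q.odd ?_).symm
      rw [← hg]
      simp only [mul_assoc, inv_mul_cancel_left]
      rw [← mul_assoc b, ← h, mul_assoc]
    · intro h
      have h' : g * x * g⁻¹ * (b * b) = b * b * (g * x * g⁻¹) := by
        rw [← mul_assoc, h, mul_assoc, h, ← mul_assoc]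
      rw [← hg] at h'
      simp only [mul_assoc, inv_mul_cancel_left, mul_right_inj] at h'
      rwa [← mul_assoc, ← mul_assoc, mul_left_inj] at h'
  have h2 : g ∈ normalizer ((⁅K, K⁆ : Subgroup G) : Set G) := by
    rw [mem_normalizer_iff_map_conj_eq] at h1 ⊢
    rw [map_commutator, h1]
  let α := MulAut.congr e ((⁅K, K⁆ : Subgroup G).normalizerMonoidHom ⟨g, h2⟩)
  obtain ⟨s, hs⟩ := (QuotientGroup.eq_one_iff (N := Inn S) (α ^ Nat.card (Out S))).1
    (by rw [QuotientGroup.mk_pow, pow_card_eq_one'])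
  have h3 : ∀ n : ℕ, g ^ n * b * (g ^ n)⁻¹ = b ^ 2 ^ n := fun n => by
    induction n with
    | zero => simp
    | succ n ih =>
      rw [pow_succ', mul_inv_rev, mul_assoc g, mul_assoc g, ← mul_assoc _ _ g⁻¹, ih, ← mul_assoc,
        ← conj_pow, hg, ← pow_two, ← pow_mul, pow_succ']
  have hk : (e.symm s : G) * b = b * e.symm s := (q.mem _).1 (comm_le K (e.symm s).2)
  refine exists_invol_of_inv (a := (e.symm s : G)⁻¹ * g ^ Nat.card (Out S)) (b := b)
    (fun x hx => mem_centralizer_singleton_iff.2 ?_) ?_ fun h => ?_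
  · have h4 := congrArg (fun f : MulAut S => (e.symm (f (e ⟨x, hx⟩)) : G)) hs
    simp only [α, ← map_pow] at h4
    simp at h4
    rw [mul_assoc, mul_inv_eq_iff_eq_mul.1 h4.symm]
    group
  · rw [mul_inv_rev, inv_inv, mul_assoc _ _ b, mul_assoc, ← mul_assoc _ _ (e.symm s : G), h3, hb,
      inv_mul_eq_iff_eq_mul, eq_comm]
    exact Commute.inv_right hk
  · have := orderOf_dvd_of_pow_eq_one (pow_two b ▸ h)
    rw [q.ord] at this
    exact q.ne2 ((Nat.prime_dvd_prime_iff_eq q.prime Nat.prime_two).1 this)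

theorem embed {G : Type} [Group G] [Finite G] {z : G} {Q : Subgroup G}
    {π : centralizer ({z} : Set G) →* Co1} {ψ : leechLattice → G} (h : If0 z Q π ψ) {a : G} (ha : a ∈ cA ψ)
    (hz : ∀ x : centralizer ({a} : Set G), (x : BQ a) = 1 → (x : G) = 1 ∨ (x : G) = a)
    {L : Subgroup G} {S : Type*} [Group S] [IsSimpleGroup S] (e : L ≃* S)
    (hd : ¬ Nat.card S ∣ 2 ^ 25 * 4157776806543360000) {t : G} (ht : orderOf t = 2)
    (hL : L ≤ centralizer {t}) : ∃ K : Subgroup (BQ a), Nonempty (K ≃* S) := by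
  have key : ∀ {u g : G}, g * t * g⁻¹ = u → ∃ f : S →* centralizer ({u} : Set G),
      Function.Injective f := fun {u g} hg =>
    ⟨(((MulAut.conj g).toMonoidHom.comp L.subtype).codRestrict _ fun x =>
      mem_centralizer_singleton_iff.2 (by
        rw [← hg]
        exact (Commute.map (mem_centralizer_singleton_iff.1 (hL x.2)) (MulAut.conj g)).eq)).comp
      e.symm.toMonoidHom, fun x y hxy => e.symm.injective (Subtype.ext
        ((MulAut.conj g).injective (congrArg Subtype.val hxy)))⟩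
  rcases h.two_classes ht with h1 | h1
  · obtain ⟨g, hg⟩ := CF.exists_conj_A h1 ha
    obtain ⟨f, hf⟩ := key hg
    rcases (((QuotientGroup.mk' _).comp f : S →* BQ a).normal_ker).eq_bot_or_eq_top with h2 | h2
    · exact ⟨_, ⟨(MonoidHom.ofInjective ((MonoidHom.ker_eq_bot_iff _).1 h2)).symm⟩⟩
    · refine absurd (Dvd.dvd.trans ?_ (by norm_num : 2 ∣ _)) hd
      rw [← h.sq_A ha, ← Nat.card_zpowers]
      refine card_dvd_of_injective (((Subgroup.subtype _).comp f).codRestrict _ fun x => ?_)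
        fun x y hxy => hf (Subtype.ext (congrArg (fun w : zpowers a => (w : G)) hxy))
      change (f x : G) ∈ _
      rcases hz _ (h2.ge (mem_top x)) with h3 | h3 <;> rw [h3]
      exacts [one_mem _, mem_zpowers _]
  · obtain ⟨g, hg⟩ := isConj_iff.1 (IsConj.symm h1)
    obtain ⟨f, hf⟩ := key hg
    exact absurd (h.card_C ▸ card_dvd_of_injective f hf) hd

theorem x2_real : ∃ k : M24, k * mc x2 = mc x2 * mc x2 * k := by
  have hk : okM 459932010654115144825864497974973540 = true := by decide +kernel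
  refine ⟨mc 459932010654115144825864497974973540, ?_⟩
  rw [mc_mul hk okM_x2, mc_mul okM_x2 okM_x2, mc_mul (by decide +kernel) hk]
  exact congrArg mc (by decide +kernel)

theorem y5_sq : ∃ k : M24, k * mc y5 = mc y5 * mc y5 * k := by
  have hk : okM 649426932999228041845974163921080384 = true := by decide +kernel
  refine ⟨mc 649426932999228041845974163921080384, ?_⟩
  rw [mc_mul hk ok_y5, mc_mul ok_y5 ok_y5, mc_mul (by decide +kernel) hk]
  exact congrArg mc (by decide +kernel)

theorem inv_Th [Finite G] (h : IsGroupOfMonsterType G) : ∃ (L : Subgroup G) (t : G),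
    IsoTh L ∧ orderOf t = 2 ∧ L ≤ centralizer {t} := by
  obtain ⟨z, s, Q, θ, t⟩ := exists_th0 h
  obtain ⟨b, h1, h2⟩ := exists_b t Nat.prime_three (by norm_num) orderOf_x2
  have q := oq_mk (B := zpowers (b : G)) Nat.prime_three (by norm_num) h1 rfl
  obtain ⟨ρ, c⟩ := C3B.cdata
  obtain ⟨π, φ, d, hx, γ, r⟩ := t.main (h2 ▸ IsConj.refl _) q c
  obtain ⟨e⟩ := isoTh r
  have := S1700.result.1
  obtain ⟨f⟩ := oq_equiv q e S2057.result
    (KSG.Pc.commutator_eq_top_of_simple (by rw [S1700.result.2]; norm_num))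
  obtain ⟨k, hk⟩ := x2_real
  obtain ⟨g, hg⟩ := isConj_iff.1 (isConj_sq d (by rw [orderOf_mk]; exact q.odd) hx hk)
  obtain ⟨u, h3, h4⟩ := exists_invol q f (g := g) (congrArg Subtype.val hg) (by
    rw [S2083.result, eq_inv_iff_mul_eq_one, ← pow_succ]
    exact orderOf_dvd_iff_pow_eq_one.1 (by rw [h1]; rfl))
  exact ⟨_, u, ⟨f⟩, h3, h4⟩

theorem exists_fi24 [Finite G] (hG : IsGroupOfMonsterType G) : ∃ (X : Subgroup G)
    (ν : normalizer (X : Set G) →* Spor.Fi24), Nat.card X = 3 ∧
      Function.Surjective ν ∧ ν.ker = X.subgroupOf _ := by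
  obtain ⟨z, Q, _, hM⟩ := hG
  obtain ⟨g, hQ, hne⟩ := hM.1.2.2.2.2
  have hs : IsConj z (g * z * g⁻¹) := isConj_iff.2 ⟨g, rfl⟩
  generalize g * z * g⁻¹ = s at *
  obtain ⟨θ, t⟩ := Mont.exists_th' hM hQ hs hne
  obtain ⟨b0, h0, h4⟩ := exists_b t Nat.prime_three (by norm_num) orderOf_x1
  obtain ⟨Y, hY0⟩ : ∃ Y, Y = zpowers (b0 : G) := ⟨_, rfl⟩
  have hY : Y ≤ centralizer {z, s} := hY0 ▸ zpowers_le_of_mem b0.2
  have hY3 : Nat.card Y = 3 := by rw [hY0, Nat.card_zpowers, h0]
  obtain ⟨b, h1, h2, h5, h6⟩ := t.three hY hY3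
  have h3 : IsConj (θ b) (mc x1) := h5.resolve_right fun h => by
    obtain ⟨k, hk⟩ := isConj_iff.1 h
    have h7 := card_fixSet_of_conj hk
    rcases mem_zpowers_three h0 (hY0 ▸ h2 ▸ mem_zpowers (b : G)) with e | e | e
    · simp [e] at h1
    · rw [Subtype.ext e, h4, card_fixSet_x1, card_fixSet_x2] at h7
      omega
    · obtain ⟨j, hj⟩ := x1_real
      rw [show b = b0 * b0 from Subtype.ext e, map_mul, h4, card_fixSet_x2,
        ← card_fixSet_of_conj (mul_inv_eq_iff_eq_mul.2 hj), card_fixSet_x1] at h7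
      omega
  have hc := h6.2 (by rw [KSG.card_centralizer_of_isConj h3, cent_x1]; norm_num)
  have hKN := centralizer_le_normalizer (Y : Set G)
  have hYC : Y ≤ centralizer Y := by rw [h2]; exact le_centralizer _
  have : (Y.subgroupOf (centralizer (Y : Set G))).Normal := normal_subgroupOf_of_le_normalizer hKN
  obtain ⟨-, ⟨e⟩, E, -, hE, -⟩ := S5461.result z Q hM s hQ hs hne Y hY hY3 hc
  let ν := (QuotientGroup.mk' (Y.subgroupOf (normalizer (Y : Set G)))).comp (inclusion hKN)
  have hν : ν.ker = Y.subgroupOf _ := Subgroup.ext fun k => QuotientGroup.eq_one_iff (inclusion hKN k)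
  have hi : ν.range.index = 2 := by
    obtain ⟨ρ, c, -⟩ := C3A.cdata
    have q := oq_mk Nat.prime_three (by norm_num) h1 h2
    obtain ⟨π, φ, d, hx, -⟩ := t.main h3 q c
    rw [MonoidHom.range_comp, inclusion_range, index_map_eq _ (QuotientGroup.mk'_surjective _) (by
      rw [QuotientGroup.ker_mk']; exact comap_mono hYC), h2]
    refine relIndex_eq_of_conj Nat.prime_three h1 fun y hy hy1 => ?_
    rcases mem_zpowers_three h1 hy with rfl | rfl | rfl
    · exact absurd rfl hy1
    · exact IsConj.refl _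
    · obtain ⟨k, hk⟩ := x1_real
      exact (Subgroup.subtype _).map_isConj (isConj_sq d (by rw [orderOf_mk]; exact q.odd) hx hk)
  obtain ⟨f, -⟩ := TT.exists_equiv_fi24_of_index_two _ hi
    ((QuotientGroup.quotientKerEquivRange ν).symm.trans
      ((QuotientGroup.quotientMulEquivOfEq hν).trans e)) fun x hx => by_contra fun hx' => hx' (by
    refine (mem_bot.1 (hE ▸ mem_center_iff.2 fun w => ?_) : x = 1) ▸ one_mem _
    by_cases hw : w ∈ ν.range
    · exact hx w hw
    · have := hx _ ((mul_mem_iff_of_index_two hi).2 (iff_of_false hw hx'))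
      rwa [← mul_assoc, mul_left_inj] at this)
  exact ⟨Y, f.toMonoidHom.comp (QuotientGroup.mk' _), hY3,
    f.surjective.comp (QuotientGroup.mk'_surjective _), Subgroup.ext fun x =>
      f.map_eq_one_iff.trans (QuotientGroup.eq_one_iff x)⟩

theorem inv_Fi23 [Finite G] (hG : IsGroupOfMonsterType G) : ∃ (L : Subgroup G) (t : G),
    IsoFi23 L ∧ orderOf t = 2 ∧ L ≤ centralizer {t} := by
  obtain ⟨X, ν, h3, hν, hk⟩ := exists_fi24 hG
  have := fi24_finite
  have := Fact.mk Nat.prime_two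
  have := Fact.mk Nat.prime_three
  have := isCyclic_of_prime_card h3
  have hg := fi24D_class.2.2
  obtain ⟨d, hd, -⟩ := fi24D_class.2.1
  have h2 : orderOf d = 2 := fi24D_class.1.1 d hd
  have hc : (Nat.card ν.ker).Coprime 2 := by
    rw [hk, Grp.card_subgroupOf_of_le le_normalizer, h3]; norm_num
  obtain ⟨a, -, rfl, ha⟩ := PLocal.exists_lift_of_pow_eq_one (p := 2) (k := 1) ν ⊤ hc (y := d)
    (by obtain ⟨x, rfl⟩ := hν d; exact ⟨x, trivial, rfl⟩) (by rw [pow_one, ← h2, pow_orderOf_eq_one])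
  have hm := (PLocal.map_centralizer_singleton_of_pow_eq_one ν hν ha hc).trans
    (fi24D_geom.centralizer_eq hg fi24_center hd)
  obtain ⟨e⟩ := fi24D_geom.quot_loc hd
  let ρ : centralizer {a} →* Spor.Fi23 := e.toMonoidHom.comp ((QuotientGroup.mk' _).comp
    ((ν.comp (Subgroup.subtype _)).codRestrict _ fun x => hm.le ⟨x, x.2, rfl⟩))
  have hρ : Function.Surjective ρ := e.surjective.comp ((QuotientGroup.mk'_surjective _).comp
    fun y => by
      obtain ⟨x, h4, h5⟩ := hm.ge y.2
      exact ⟨⟨x, h4⟩, Subtype.ext h5⟩)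
  have := S1697.result.1
  have hp : commutator Spor.Fi23 = ⊤ :=
    KSG.Pc.commutator_eq_top_of_simple (by rw [S1697.result.2]; norm_num)
  obtain ⟨f⟩ := comm_equiv (K := commutator (centralizer {a})) (ρ.comp (Subgroup.subtype _)) (by
    rw [← MonoidHom.range_eq_top, MonoidHom.range_comp, range_subtype, commutator_def,
      map_commutator, map_top_of_surjective _ hρ, ← commutator_def, hp])
    (fun x hx => mem_center_iff.2 fun g => by
      have h4 := (QuotientGroup.eq_one_iff _).1 (e.map_eq_one_iff.1 hx)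
      rw [fi24D_geom.center_loc hg fi24_center hd] at h4
      obtain ⟨n, hn⟩ := h4
      have h5 : x.1.1 * (a ^ n)⁻¹ ∈ ν.ker := by
        rw [MonoidHom.mem_ker, map_mul, map_inv, map_zpow, mul_inv_eq_one]
        exact hn.symm
      have h6 := Abelianization.commutator_subset_ker (((IsCyclic.mulAutMulEquiv X).toMonoidHom.comp
        X.normalizerMonoidHom).comp (Subgroup.subtype _)) g.2
      have h7 : g.1.1 ∈ X.normalizerMonoidHom.ker :=
        (IsCyclic.mulAutMulEquiv X).map_eq_one_iff.1 h6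
      rw [normalizerMonoidHom_ker] at h7
      have h8 : Commute g.1.1 (x.1.1 * (a ^ n)⁻¹) := Subtype.ext (h7 _ (hk.le h5)).symm
      have h9 := h8.mul_right (Commute.zpow_right (mem_centralizer_singleton_iff.1 g.1.2) n)
      rw [inv_mul_cancel_right] at h9
      exact Subtype.ext (Subtype.ext h9)) S2054.result hp
  let ι : centralizer {a} →* G := (Subgroup.subtype _).comp (Subgroup.subtype _)
  refine ⟨_, a, ⟨(equivMapOfInjective _ ι fun x y h => Subtype.ext (Subtype.ext h)).symm.trans f⟩,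
    ?_, ?_⟩
  · rw [orderOf_coe]
    exact orderOf_eq_prime (pow_one 2 ▸ ha) fun e => by simp [e] at h2
  · rintro _ ⟨x, -, rfl⟩
    exact mem_centralizer_singleton_iff.2 (congrArg Subtype.val (mem_centralizer_singleton_iff.1 x.2))

end Cfsg.Agent.Mon.Odd
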