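import Cfsg.Agent.Mon.OddB
import Cfsg.Agent.Mon.HNe
import Cfsg.Agent.S2082

/-!
# HN centralises an involution
-/

set_option autoImplicit false

namespace Cfsg.Agent.Mon.HN

open Subgroup Cfsg Cfsg.Spor Cfsg.Agent.TT Cfsg.Agent.Spor Cfsg.Agent.Spor.Leech Cfsg.Agent.LES
  Cfsg.Agent.LES.Co Cfsg.Agent.Spor.M24C Cfsg.Agent.Mont

theorem inv_HN {G : Type} [Group G] [Finite G] {z : G} {Q : Subgroup G}
    {π : centralizer ({z} : Set G) →* Co1} {φ : leechLattice → G} (h : If0 z Q π φ) :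
    ∃ (L : Subgroup G) (t : G), IsoHN L ∧ orderOf t = 2 ∧ L ≤ centralizer {t} := by
  have d := h.mon
  have : Fact (Nat.Prime 5) := ⟨Nat.prime_five⟩
  obtain ⟨b, -, h1, h2⟩ := PLocal.exists_lift_of_pow_eq_one (p := 5) (k := 1) π ⊤
    (by rw [ker_card d]; norm_num) (y := (permHom (mc y5) : Co1))
    (by obtain ⟨x, hx⟩ := d.surj (permHom (mc y5) : Co0); exact ⟨x, trivial, hx⟩)
    (by rw [pow_one, ← QuotientGroup.mk_pow, ← C5.ho, pow_orderOf_eq_one, QuotientGroup.mk_one])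
  have h3 : orderOf (b : G) = 5 := by
    rw [orderOf_coe]
    refine orderOf_eq_prime (pow_one 5 ▸ h2) fun e => ?_
    rw [e, map_one, ← QuotientGroup.mk_one, eq_comm, mk_eq_mk_Co1] at h1
    have h4 := C5.ho
    rcases h1 with a | a <;> rw [a] at h4
    · simp at h4
    · rw [orderOf_negOne_mul (by simp)] at h4; omega
  have q := oq_mk (B := zpowers (b : G)) Nat.prime_five (by norm_num) h3 rfl
  obtain ⟨e⟩ := (hd h q (hb := b.2) h1.symm).isoHN
  have := S1701.result.1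
  obtain ⟨f⟩ := Odd.oq_equiv q e S2056.result
    (KSG.Pc.commutator_eq_top_of_simple (by rw [S1701.result.2]; norm_num))
  obtain ⟨k, hk⟩ := Odd.y5_sq
  obtain ⟨g, hg⟩ := isConj_iff.1 (isConj_sq d (by rw [← orderOf_coe]; exact q.odd) h1.symm hk)
  obtain ⟨u, h4, h5⟩ := Odd.exists_invol q f (g := g) (congrArg Subtype.val hg) (by
    rw [S2082.result, eq_inv_iff_mul_eq_one, ← pow_succ]
    exact orderOf_dvd_iff_pow_eq_one.1 (by rw [h3]; rfl))
  exact ⟨_, u, ⟨f⟩, h4, h5⟩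

end Cfsg.Agent.Mon.HN
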